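import Cfsg.Prelude.Def_Sporadic_a

/-!
The rank-24 lattice: description of `leechSet` by the parity, the coordinate sum and the word of
second binary digits; `leechSet` is an additive subgroup, so equals `leechLattice`.
-/

set_option autoImplicit false

namespace Cfsg.Agent.Lib.Leech.Basic

open Cfsg

/-- The second binary digit of an integer. -/
def bit1 (a : ℤ) : ZMod 2 := ((a / 2 : ℤ) : ZMod 2)

/-- The word of second binary digits of an integer vector. -/
def digitWord (x : GolayPt → ℤ) : GolayPt → ZMod 2 := fun i => bit1 (x i)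

theorem zmod2_two : (2 : ZMod 2) = 0 := rfl

theorem zmod2_add_self (a : ZMod 2) : a + a = 0 := CharTwo.add_self_eq_zero a

theorem cast_eq_of_modEq {a m : ℤ} (h : a ≡ m [ZMOD 2]) : ((a : ℤ) : ZMod 2) = ((m : ℤ) : ZMod 2) :=
  (ZMod.intCast_eq_intCast_iff a m 2).mpr h

theorem exists_eq_two_mul_add (a : ℤ) : (∃ q, a = 2 * q) ∨ (∃ q, a = 2 * q + 1) := by
  rcases Int.even_or_odd' a with ⟨q, h | h⟩
  · exact Or.inl ⟨q, h⟩
  · exact Or.inr ⟨q, h⟩

theorem cast_two_mul (q : ℤ) : ((2 * q : ℤ) : ZMod 2) = 0 := by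
  push_cast; rw [zmod2_two, zero_mul]

theorem cast_two_mul_add_one (q : ℤ) : ((2 * q + 1 : ℤ) : ZMod 2) = 1 := by
  push_cast; rw [zmod2_two, zero_mul, zero_add]

theorem bit1_two_mul (q : ℤ) : bit1 (2 * q) = (q : ZMod 2) := by
  unfold bit1
  congr 1
  omega

theorem bit1_two_mul_add_one (q : ℤ) : bit1 (2 * q + 1) = (q : ZMod 2) := by
  unfold bit1
  congr 1
  omega

theorem bit1_add (a b : ℤ) :
    bit1 (a + b) = bit1 a + bit1 b + ((a : ℤ) : ZMod 2) * ((b : ℤ) : ZMod 2) := by
  rcases exists_eq_two_mul_add a with ⟨q, rfl⟩ | ⟨q, rfl⟩ <;>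
    rcases exists_eq_two_mul_add b with ⟨p, rfl⟩ | ⟨p, rfl⟩
  · rw [show 2 * q + 2 * p = 2 * (q + p) by ring, bit1_two_mul, bit1_two_mul, bit1_two_mul,
      cast_two_mul]
    push_cast; ring
  · rw [show 2 * q + (2 * p + 1) = 2 * (q + p) + 1 by ring, bit1_two_mul_add_one, bit1_two_mul,
      bit1_two_mul_add_one, cast_two_mul]
    push_cast; ring
  · rw [show 2 * q + 1 + 2 * p = 2 * (q + p) + 1 by ring, bit1_two_mul_add_one, bit1_two_mul,
      bit1_two_mul_add_one, cast_two_mul]
    push_cast; ring
  · rw [show 2 * q + 1 + (2 * p + 1) = 2 * (q + p + 1) by ring, bit1_two_mul, bit1_two_mul_add_one,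
      bit1_two_mul_add_one, cast_two_mul_add_one, cast_two_mul_add_one]
    push_cast; ring

theorem bit1_neg (a : ℤ) : bit1 (-a) = bit1 a + ((a : ℤ) : ZMod 2) := by
  rcases exists_eq_two_mul_add a with ⟨q, rfl⟩ | ⟨q, rfl⟩
  · rw [show -(2 * q) = 2 * (-q) by ring, bit1_two_mul, bit1_two_mul, cast_two_mul]
    push_cast
    rw [ZMod.neg_eq_self_mod_two, add_zero]
  · rw [show -(2 * q + 1) = 2 * (-q - 1) + 1 by ring, bit1_two_mul_add_one, bit1_two_mul_add_one,
      cast_two_mul_add_one]
    push_cast
    rw [ZMod.neg_eq_self_mod_two, sub_eq_add_neg, ZMod.neg_eq_self_mod_two]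

/-- Two integers are congruent modulo 4 iff they have the same last two binary digits. -/
theorem modEq_four_iff (a k : ℤ) :
    a ≡ k [ZMOD 4] ↔ (a ≡ k [ZMOD 2]) ∧ bit1 a = bit1 k := by
  rcases exists_eq_two_mul_add a with ⟨q, rfl⟩ | ⟨q, rfl⟩ <;>
    rcases exists_eq_two_mul_add k with ⟨p, rfl⟩ | ⟨p, rfl⟩ <;>
    simp only [bit1_two_mul, bit1_two_mul_add_one, ZMod.intCast_eq_intCast_iff, Int.ModEq] <;>
    omega

theorem support_injective {α : Type*} [Fintype α] {v w : α → ZMod 2}
    (h : support₂ v = support₂ w) : v = w := by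
  funext i
  have hi : i ∈ support₂ v ↔ i ∈ support₂ w := by rw [h]
  simp only [support₂, Finset.mem_filter, Finset.mem_univ, true_and] at hi
  generalize v i = a at hi ⊢
  generalize w i = b at hi ⊢
  revert a b
  decide

theorem one_mem : (1 : GolayPt → ZMod 2) ∈ golayCode :=
  Submodule.subset_span (Or.inr rfl)

/-- The residue class sets of a vector with constant parity. -/
theorem filter_modEq_four (x : GolayPt → ℤ) (m k : ℤ) (hx : ∀ i, x i ≡ m [ZMOD 2]) :
    (Finset.univ.filter fun i => x i ≡ k [ZMOD 4]) =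
      if k ≡ m [ZMOD 2] then support₂ (digitWord x + (1 + bit1 k) • (1 : GolayPt → ZMod 2))
      else support₂ (0 : GolayPt → ZMod 2) := by
  ext i
  have h1 := modEq_four_iff (x i) k
  by_cases hk : k ≡ m [ZMOD 2]
  · rw [if_pos hk]
    simp only [support₂, Finset.mem_filter, Finset.mem_univ, true_and, Pi.add_apply, Pi.smul_apply,
      Pi.one_apply, smul_eq_mul, mul_one, digitWord]
    rw [h1]
    have h2 : x i ≡ k [ZMOD 2] := (hx i).trans hk.symm
    simp only [h2, true_and]
    generalize bit1 (x i) = a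
    generalize bit1 k = b
    revert a b
    decide
  · rw [if_neg hk]
    simp only [support₂, Finset.mem_filter, Finset.mem_univ, true_and, Pi.zero_apply, ne_eq,
      not_true_eq_false, iff_false]
    rw [h1]
    rintro ⟨h2, _⟩
    exact hk (h2.symm.trans (hx i))

theorem mem_leechSet_iff (x : GolayPt → ℤ) :
    x ∈ leechSet ↔ ∃ m : ℤ, (∀ i, x i ≡ m [ZMOD 2]) ∧ (∑ i, x i ≡ 4 * m [ZMOD 8]) ∧
      digitWord x ∈ golayCode := by
  constructor
  · rintro ⟨m, hx, hs, hk⟩
    refine ⟨m, hx, hs, ?_⟩
    -- `k ≡ m` modulo 2 with second digit 1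
    have hk2 : ∃ k : ℤ, k ≡ m [ZMOD 2] ∧ bit1 k = 1 := by
      rcases exists_eq_two_mul_add m with ⟨q, rfl⟩ | ⟨q, rfl⟩
      · refine ⟨2, ?_, rfl⟩
        unfold Int.ModEq; omega
      · refine ⟨3, ?_, rfl⟩
        unfold Int.ModEq; omega
    obtain ⟨k, hkm, hk1⟩ := hk2
    obtain ⟨c, hc, hcs⟩ := hk k
    rw [filter_modEq_four x m k hx, if_pos hkm, hk1] at hcs
    have := support_injective hcs
    subst this
    have h0 : (1 + 1 : ZMod 2) = 0 := rfl
    rw [h0, zero_smul, add_zero] at hc
    exact hc
  · rintro ⟨m, hx, hs, hw⟩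
    refine ⟨m, hx, hs, fun k => ?_⟩
    rw [filter_modEq_four x m k hx]
    split_ifs with hk
    · exact ⟨_, Submodule.add_mem _ hw (Submodule.smul_mem _ _ one_mem), rfl⟩
    · exact ⟨0, Submodule.zero_mem _, rfl⟩

theorem digitWord_add (x y : GolayPt → ℤ) (m n : ℤ) (hx : ∀ i, x i ≡ m [ZMOD 2])
    (hy : ∀ i, y i ≡ n [ZMOD 2]) :
    digitWord (x + y) = digitWord x + digitWord y +
      (((m : ℤ) : ZMod 2) * ((n : ℤ) : ZMod 2)) • (1 : GolayPt → ZMod 2) := by
  funext i
  simp only [digitWord, Pi.add_apply, Pi.smul_apply, Pi.one_apply, smul_eq_mul, mul_one]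
  rw [bit1_add, cast_eq_of_modEq (hx i), cast_eq_of_modEq (hy i)]

theorem digitWord_neg (x : GolayPt → ℤ) (m : ℤ) (hx : ∀ i, x i ≡ m [ZMOD 2]) :
    digitWord (-x) = digitWord x + ((m : ℤ) : ZMod 2) • (1 : GolayPt → ZMod 2) := by
  funext i
  simp only [digitWord, Pi.add_apply, Pi.neg_apply, Pi.smul_apply, Pi.one_apply, smul_eq_mul,
    mul_one]
  rw [bit1_neg, cast_eq_of_modEq (hx i)]

/-- `leechSet` is an additive subgroup. -/
def leechSub : AddSubgroup (GolayPt → ℤ) where
  carrier := leechSet
  zero_mem' := by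
    rw [mem_leechSet_iff]
    refine ⟨0, fun i => rfl, by simp, ?_⟩
    have : digitWord 0 = 0 := by
      funext i; simp [digitWord, bit1]
    rw [this]
    exact Submodule.zero_mem _
  add_mem' := by
    intro x y hx hy
    rw [mem_leechSet_iff] at hx hy
    obtain ⟨m, hxm, hxs, hxw⟩ := hx
    obtain ⟨n, hyn, hys, hyw⟩ := hy
    rw [mem_leechSet_iff]
    refine ⟨m + n, fun i => (hxm i).add (hyn i), ?_, ?_⟩
    · simp only [Pi.add_apply, Finset.sum_add_distrib]
      rw [mul_add]
      exact hxs.add hys
    · rw [digitWord_add x y m n hxm hyn]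
      exact Submodule.add_mem _ (Submodule.add_mem _ hxw hyw)
        (Submodule.smul_mem _ _ one_mem)
  neg_mem' := by
    intro x hx
    rw [mem_leechSet_iff] at hx
    obtain ⟨m, hxm, hxs, hxw⟩ := hx
    rw [mem_leechSet_iff]
    refine ⟨-m, fun i => (hxm i).neg, ?_, ?_⟩
    · simp only [Pi.neg_apply, Finset.sum_neg_distrib]
      rw [mul_neg]
      exact hxs.neg
    · rw [digitWord_neg x m hxm]
      exact Submodule.add_mem _ hxw (Submodule.smul_mem _ _ one_mem)

@[simp] theorem coe_leechSub : (leechSub : Set (GolayPt → ℤ)) = leechSet := rfl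

theorem leechLattice_eq : leechLattice = leechSub := by
  rw [leechLattice, ← coe_leechSub, AddSubgroup.closure_eq]

theorem mem_leechLattice_iff (x : GolayPt → ℤ) : x ∈ leechLattice ↔ x ∈ leechSet := by
  rw [leechLattice_eq]; rfl

theorem card_mul_le_sqNorm (x : GolayPt → ℤ) (S : Finset GolayPt) (c : ℤ)
    (hS : ∀ i ∈ S, c ≤ x i ^ 2) : (S.card : ℤ) * c ≤ sqNorm x := by
  have h1 : ∑ i ∈ S, c ≤ ∑ i ∈ S, x i ^ 2 := Finset.sum_le_sum hS
  have h2 : ∑ i ∈ S, x i ^ 2 ≤ ∑ i, x i ^ 2 :=
    Finset.sum_le_sum_of_subset_of_nonneg (Finset.subset_univ _) (fun i _ _ => sq_nonneg _)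
  rw [Finset.sum_const, nsmul_eq_mul] at h1
  exact h1.trans h2

/-- The lattice has no vectors of small norm, provided the code has the expected weights. -/
theorem min_norm (hW : ∀ w ∈ golayCode, hammingNorm w = 0 ∨ hammingNorm w = 8 ∨ hammingNorm w = 12 ∨
      hammingNorm w = 16 ∨ hammingNorm w = 24)
    (x : GolayPt → ℤ) (hx : x ∈ leechLattice) (h0 : x ≠ 0) : 32 ≤ sqNorm x := by
  rw [mem_leechLattice_iff, mem_leechSet_iff] at hx
  obtain ⟨m, hm, hs, hw⟩ := hx
  have hcard : Fintype.card GolayPt = 24 := by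
    rw [Fintype.card_option, ZMod.card]
  rcases exists_eq_two_mul_add m with ⟨q, hq⟩ | ⟨q, hq⟩
  · -- even vectors
    have hev : ∀ i, ∃ a, x i = 2 * a := by
      intro i
      have h := hm i
      rw [hq] at h
      refine ⟨x i / 2, ?_⟩
      unfold Int.ModEq at h
      omega
    by_cases hW0 : hammingNorm (digitWord x) = 0
    · -- all the coordinates are divisible by 4
      have hzero : ∀ i, digitWord x i = 0 := by
        intro i
        have := hammingNorm_eq_zero.mp hW0
        rw [this]
        rfl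
      have h4 : ∀ i, ∃ b, x i = 4 * b := by
        intro i
        obtain ⟨a, ha⟩ := hev i
        have h1 := hzero i
        simp only [digitWord] at h1
        rw [ha, bit1_two_mul, ZMod.intCast_zmod_eq_zero_iff_dvd] at h1
        obtain ⟨b, hb⟩ := h1
        exact ⟨b, by push_cast at hb; rw [ha, hb]; ring⟩
      obtain ⟨j, hj⟩ : ∃ j, x j ≠ 0 := by
        by_contra hcon
        push Not at hcon
        exact h0 (funext hcon)
      obtain ⟨b, hb⟩ := h4 j
      have hb0 : b ≠ 0 := by
        rintro rfl
        exact hj (by rw [hb]; ring)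
      have hj16 : 16 ≤ x j ^ 2 := by
        rw [hb]
        nlinarith [Int.one_le_abs hb0, sq_abs b, abs_nonneg b]
      by_cases hother : ∃ l, l ≠ j ∧ x l ≠ 0
      · obtain ⟨l, hlj, hl⟩ := hother
        obtain ⟨c, hc⟩ := h4 l
        have hc0 : c ≠ 0 := by
          rintro rfl
          exact hl (by rw [hc]; ring)
        have hl16 : 16 ≤ x l ^ 2 := by
          rw [hc]
          nlinarith [Int.one_le_abs hc0, sq_abs c, abs_nonneg c]
        have := card_mul_le_sqNorm x {j, l} 16 (by
          intro i hi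
          rw [Finset.mem_insert, Finset.mem_singleton] at hi
          rcases hi with rfl | rfl
          · exact hj16
          · exact hl16)
        rw [Finset.card_pair (Ne.symm hlj)] at this
        push_cast at this
        linarith
      · push Not at hother
        have hsum : ∑ i, x i = x j := by
          apply Finset.sum_eq_single j
          · intro l _ hl
            exact hother l hl
          · intro hj'
            exact absurd (Finset.mem_univ j) hj'
        rw [hsum, hb, hq] at hs
        have hbe : 2 ∣ b := by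
          unfold Int.ModEq at hs
          omega
        obtain ⟨e, rfl⟩ := hbe
        have he0 : e ≠ 0 := by
          rintro rfl
          exact hb0 (by ring)
        have hj64 : 64 ≤ x j ^ 2 := by
          rw [hb]
          nlinarith [Int.one_le_abs he0, sq_abs e, abs_nonneg e]
        have := card_mul_le_sqNorm x {j} 64 (by
          intro i hi
          rw [Finset.mem_singleton] at hi
          rw [hi]
          exact hj64)
        rw [Finset.card_singleton] at this
        push_cast at this
        linarith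
    · have hge : 8 ≤ hammingNorm (digitWord x) := by
        rcases hW _ hw with h | h | h | h | h <;> omega
      have hnorm : ∀ i ∈ Finset.univ.filter (fun i => digitWord x i ≠ 0), 4 ≤ x i ^ 2 := by
        intro i hi
        rw [Finset.mem_filter] at hi
        obtain ⟨a, ha⟩ := hev i
        have h1 := hi.2
        simp only [digitWord] at h1
        rw [ha] at h1 ⊢
        rw [bit1_two_mul] at h1
        have ha0 : a ≠ 0 := by
          rintro rfl
          exact h1 rfl
        nlinarith [Int.one_le_abs ha0, sq_abs a, abs_nonneg a]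
      have := card_mul_le_sqNorm x _ 4 hnorm
      have h8 : (8 : ℤ) ≤ ((Finset.univ.filter (fun i => digitWord x i ≠ 0)).card : ℤ) := by
        exact_mod_cast hge
      linarith
  · -- odd vectors
    have hodd : ∀ i, ∃ a, x i = 2 * a + 1 := by
      intro i
      have h := hm i
      rw [hq] at h
      refine ⟨x i / 2, ?_⟩
      unfold Int.ModEq at h
      omega
    have hone : ∀ i, 1 ≤ x i ^ 2 := by
      intro i
      obtain ⟨a, ha⟩ := hodd i
      rw [ha]
      have h1 : a ≥ 0 ∨ a ≤ -1 := by omega
      rcases h1 with h1 | h1 <;> nlinarith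
    by_cases hbig : ∃ j, x j ^ 2 ≠ 1
    · obtain ⟨j, hj⟩ := hbig
      obtain ⟨a, ha⟩ := hodd j
      have hj9 : 9 ≤ x j ^ 2 := by
        rw [ha] at hj ⊢
        have h1 : a ≠ 0 := by
          rintro rfl
          exact hj (by norm_num)
        have h2 : a ≠ -1 := by
          rintro rfl
          exact hj (by norm_num)
        rcases lt_or_gt_of_ne h1 with h3 | h3
        · have : a ≤ -2 := by omega
          nlinarith
        · nlinarith
      have hsum : ∑ i ∈ Finset.univ.erase j, x i ^ 2 ≥ 23 := by
        have h1 : ∑ i ∈ Finset.univ.erase j, (1 : ℤ) ≤ ∑ i ∈ Finset.univ.erase j, x i ^ 2 :=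
          Finset.sum_le_sum (fun i _ => hone i)
        rw [Finset.sum_const, Finset.card_erase_of_mem (Finset.mem_univ j), Finset.card_univ,
          hcard] at h1
        simpa using h1
      have := Finset.add_sum_erase Finset.univ (fun i => x i ^ 2) (Finset.mem_univ j)
      unfold sqNorm
      rw [← this]
      linarith
    · exfalso
      push Not at hbig
      have hpm : ∀ i, (digitWord x i = 0 ∧ x i = 1) ∨ (digitWord x i ≠ 0 ∧ x i = -1) := by
        intro i
        have h1 := hbig i
        have h2 : x i = 1 ∨ x i = -1 := by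
          have h3 : (x i - 1) * (x i + 1) = 0 := by ring_nf; linarith
          rcases mul_eq_zero.mp h3 with h | h
          · left; linarith
          · right; linarith
        rcases h2 with h2 | h2
        · left
          refine ⟨?_, h2⟩
          simp only [digitWord, bit1, h2]
          rfl
        · right
          refine ⟨?_, h2⟩
          simp only [digitWord, bit1, h2]
          decide
      have hsum : ∑ i, x i =
          ∑ i, (1 - 2 * (if digitWord x i ≠ 0 then (1 : ℤ) else 0)) := by
        apply Finset.sum_congr rfl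
        intro i _
        rcases hpm i with ⟨h1, h2⟩ | ⟨h1, h2⟩
        · simp [h1, h2]
        · simp only [h1, h2, ne_eq, not_false_eq_true, if_true]
          norm_num
      have hcount : ∑ i, (1 - 2 * (if digitWord x i ≠ 0 then (1 : ℤ) else 0)) =
          24 - 2 * (hammingNorm (digitWord x) : ℤ) := by
        rw [Finset.sum_sub_distrib, ← Finset.mul_sum, Finset.sum_const, Finset.card_univ, hcard,
          Finset.sum_boole]
        simp [hammingNorm]
      rw [hsum, hcount, hq] at hs
      have hww := hW _ hw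
      unfold Int.ModEq at hs
      rcases hww with h | h | h | h | h <;> rw [h] at hs <;> push_cast at hs <;> omega

end Cfsg.Agent.Lib.Leech.Basic
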