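import Cfsg.Agent.Lib.Leech.Gen

/-!
# Counting lattice vectors

For a finite set `V` of integers, the generating function of the lattice vectors with coordinates
in `V` is a sum over the code of products of one-coordinate generating functions.  Evaluating at a
large power of two, the number of vectors of each norm is read off in the kernel.
-/

set_option autoImplicit false
set_option maxRecDepth 100000

namespace Cfsg.Agent.Lib.Leech.Count

open Cfsg Cfsg.Agent.Lib.Golay.Core Cfsg.Agent.Lib.Leech.Basic Cfsg.Agent.Lib.Leech.Even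
  Cfsg.Agent.Lib.Leech.Lat Cfsg.Agent.Lib.Leech.Mon

/-- The third binary digit of an integer. -/
def kap (v : ℤ) : ℕ := if 4 ≤ v % 8 then 1 else 0

/-- The sign attached to the third binary digit. -/
def chi (v : ℤ) : ℤ := (-1) ^ kap v

/-- `tau 0 = 1`, `tau 1 = -1`. -/
def tau (par : ℤ) : ℤ := 1 - 2 * par

/-- Norm as a natural number. -/
def normN (x : GolayPt → ℤ) : ℕ := ∑ i, (x i).natAbs ^ 2

theorem normN_cast (x : GolayPt → ℤ) : (normN x : ℤ) = sqNorm x := by
  unfold normN sqNorm
  push_cast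
  refine Finset.sum_congr rfl fun i _ => ?_
  exact sq_abs (x i)

section Cells

variable (V : Finset ℤ)

/-- The options at a coordinate. -/
def opts (par : ℤ) (c : Finset GolayPt) (i : GolayPt) : Finset ℤ :=
  V.filter fun v => v % 4 = par + 2 * (if i ∈ c then 1 else 0)

/-- One-coordinate generating function. -/
def pV (X : ℤ) (b : ℤ) : ℤ := ∑ v ∈ V.filter (fun v => v % 4 = b), X ^ (v.natAbs ^ 2)

/-- One-coordinate twisted generating function. -/
def qV (X : ℤ) (b : ℤ) : ℤ := ∑ v ∈ V.filter (fun v => v % 4 = b), chi v * X ^ (v.natAbs ^ 2)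

/-- The vectors with prescribed residues modulo 4 and sign `tau`. -/
def cell (par : ℤ) (c : Finset GolayPt) : Finset (GolayPt → ℤ) :=
  (Fintype.piFinset (opts V par c)).filter fun x => ∏ i, chi (x i) = tau par

theorem prod_pow_norm (X : ℤ) (x : GolayPt → ℤ) :
    ∏ i, X ^ ((x i).natAbs ^ 2) = X ^ normN x := by
  unfold normN
  rw [Finset.prod_pow_eq_pow_sum]

theorem prod_opts (f : GolayPt → ℤ → ℤ) (par : ℤ) (c : Finset GolayPt) :
    ∑ x ∈ Fintype.piFinset (opts V par c), ∏ i, f i (x i) = ∏ i, ∑ v ∈ opts V par c i, f i v :=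
  (Finset.prod_univ_sum _ _).symm

theorem card_compl_add (c : Finset GolayPt) : (Finset.univ \ c).card + c.card = 24 := by
  rw [Finset.card_sdiff_add_card_eq_card (Finset.subset_univ c)]
  simpa using card_golayPt

/-- A product over the points depending only on membership in `c`. -/
theorem prod_ite_mem' (a b : ℤ) (c : Finset GolayPt) :
    ∏ i : GolayPt, (if i ∈ c then b else a) = a ^ (24 - c.card) * b ^ c.card := by
  rw [Finset.prod_ite]
  have h1 : Finset.univ.filter (fun i => i ∈ c) = c := by ext; simp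
  have h2 : Finset.univ.filter (fun i => i ∉ c) = Finset.univ \ c := by ext; simp
  rw [h1, h2, Finset.prod_const, Finset.prod_const]
  have := card_compl_add c
  have h3 : (Finset.univ \ c).card = 24 - c.card := by omega
  rw [h3]
  ring

theorem sum_opts (f : ℤ → ℤ) (par : ℤ) (c : Finset GolayPt) (i : GolayPt) :
    ∑ v ∈ opts V par c i, f v =
      if i ∈ c then ∑ v ∈ V.filter (fun v => v % 4 = par + 2), f v
      else ∑ v ∈ V.filter (fun v => v % 4 = par), f v := by
  unfold opts
  split_ifs <;> simp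

theorem sum_chi_filter (par : ℤ) (c : Finset GolayPt) (f : (GolayPt → ℤ) → ℤ) (hpar : par = 0 ∨ par = 1) :
    2 * ∑ x ∈ cell V par c, f x =
      ∑ x ∈ Fintype.piFinset (opts V par c), f x + tau par *
        ∑ x ∈ Fintype.piFinset (opts V par c), (∏ i, chi (x i)) * f x := by
  unfold cell
  rw [Finset.sum_filter, Finset.mul_sum, Finset.mul_sum, ← Finset.sum_add_distrib]
  refine Finset.sum_congr rfl fun x _ => ?_
  have hchi : (∏ i, chi (x i)) = 1 ∨ (∏ i, chi (x i)) = -1 := by
    have : ∏ i, chi (x i) = (-1) ^ (∑ i, kap (x i)) := by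
      unfold chi
      rw [Finset.prod_pow_eq_pow_sum]
    rw [this]
    exact neg_one_pow_eq_or ℤ _
  have htau : tau par = 1 ∨ tau par = -1 := by
    unfold tau
    rcases hpar with rfl | rfl <;> norm_num
  rcases hchi with h | h <;> rcases htau with h' | h' <;> rw [h, h'] <;> norm_num <;> ring

/-- The generating function of a cell. -/
theorem cell_sum (X par : ℤ) (c : Finset GolayPt) (hpar : par = 0 ∨ par = 1) :
    2 * ∑ x ∈ cell V par c, X ^ normN x =
      pV V X par ^ (24 - c.card) * pV V X (par + 2) ^ c.card +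
        tau par * (qV V X par ^ (24 - c.card) * qV V X (par + 2) ^ c.card) := by
  rw [sum_chi_filter V par c _ hpar]
  congr 1
  · have h1 : ∀ x : GolayPt → ℤ, X ^ normN x = ∏ i, X ^ ((x i).natAbs ^ 2) :=
      fun x => (prod_pow_norm X x).symm
    rw [Finset.sum_congr rfl fun x _ => h1 x, prod_opts V (fun _ v => X ^ (v.natAbs ^ 2))]
    rw [Finset.prod_congr rfl fun i _ => sum_opts V _ par c i]
    exact prod_ite_mem' _ _ c
  · congr 1
    have h1 : ∀ x : GolayPt → ℤ, (∏ i, chi (x i)) * X ^ normN x =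
        ∏ i, (chi (x i) * X ^ ((x i).natAbs ^ 2)) := by
      intro x
      rw [Finset.prod_mul_distrib, prod_pow_norm]
    rw [Finset.sum_congr rfl fun x _ => h1 x, prod_opts V (fun _ v => chi v * X ^ (v.natAbs ^ 2))]
    rw [Finset.prod_congr rfl fun i _ => sum_opts V _ par c i]
    exact prod_ite_mem' _ _ c

end Cells

/-! ### The cells and the lattice -/

theorem modEq_of_mod_four {v b : ℤ} (h : v % 4 = b) :
    v ≡ b + 4 * (kap v : ℤ) [ZMOD 8] := by
  unfold kap Int.ModEq
  split_ifs with hk <;> push_cast <;> omega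

theorem prod_chi (x : GolayPt → ℤ) : ∏ i, chi (x i) = (-1) ^ (∑ i, kap (x i)) := by
  unfold chi
  rw [Finset.prod_pow_eq_pow_sum]

theorem even_card_of_mem {c : Finset GolayPt} (hc : c ∈ Sup) :
    (c.card : ℤ) % 4 = 0 := by
  obtain ⟨d, hd⟩ := card_support_dvd hc
  rw [hd]
  push_cast
  omega

/-- For `x` in the box of a cell: the sum condition is the sign condition. -/
theorem sum_iff_prod {x : GolayPt → ℤ} {par : ℤ} {c : Finset GolayPt} (hc : c ∈ Sup)
    (hpar : par = 0 ∨ par = 1)
    (hx : ∀ i, x i % 4 = par + 2 * (if i ∈ c then 1 else 0)) :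
    (∑ i, x i ≡ 4 * par [ZMOD 8]) ↔ ∏ i, chi (x i) = tau par := by
  have h1 : ∑ i, x i ≡ ∑ i, (par + 2 * (if i ∈ c then 1 else 0) + 4 * (kap (x i) : ℤ)) [ZMOD 8] :=
    Int.ModEq.sum fun i _ => modEq_of_mod_four (hx i)
  have h2 : ∑ i, (par + 2 * (if i ∈ c then 1 else 0) + 4 * (kap (x i) : ℤ)) =
      24 * par + 2 * c.card + 4 * ((∑ i, kap (x i) : ℕ) : ℤ) := by
    rw [Finset.sum_add_distrib, Finset.sum_add_distrib, ← Finset.mul_sum, ← Finset.mul_sum]
    have h3 : ∑ i : GolayPt, (if i ∈ c then (1 : ℤ) else 0) = c.card := by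
      simp [Finset.sum_ite_mem]
    rw [h3, Finset.sum_const]
    have h4 : (Finset.univ : Finset GolayPt).card = 24 := by simpa using card_golayPt
    rw [h4]
    push_cast
    simp
  rw [h2] at h1
  have h5 := even_card_of_mem hc
  rw [prod_chi]
  generalize (∑ i, kap (x i)) = s at h1 ⊢
  rcases Nat.even_or_odd s with hs | hs
  · rw [hs.neg_one_pow]
    obtain ⟨t, rfl⟩ := hs
    unfold Int.ModEq at h1 ⊢
    unfold tau
    push_cast at h1
    rcases hpar with rfl | rfl <;> constructor <;> intro h <;> omega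
  · rw [hs.neg_one_pow]
    obtain ⟨t, rfl⟩ := hs
    unfold Int.ModEq at h1 ⊢
    unfold tau
    push_cast at h1
    rcases hpar with rfl | rfl <;> constructor <;> intro h <;> omega

theorem word_eq {x : GolayPt → ℤ} {par : ℤ} {c : Finset GolayPt} (hpar : par = 0 ∨ par = 1)
    (hx : ∀ i, x i % 4 = par + 2 * (if i ∈ c then 1 else 0)) :
    digitWord x = fun i => if i ∈ c then (1 : ZMod 2) else 0 := by
  funext i
  have h1 := hx i
  unfold digitWord bit1
  by_cases hi : i ∈ c
  · rw [if_pos hi] at h1 ⊢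
    have h2 : x i / 2 % 2 = 1 := by
      rcases hpar with rfl | rfl <;> omega
    have h3 : (x i / 2 : ℤ) = 2 * (x i / 2 / 2) + 1 := by omega
    rw [h3]
    push_cast
    have : (2 : ZMod 2) = 0 := rfl
    rw [this, zero_mul, zero_add]
  · rw [if_neg hi] at h1 ⊢
    have h2 : x i / 2 % 2 = 0 := by
      rcases hpar with rfl | rfl <;> omega
    have h3 : (x i / 2 : ℤ) = 2 * (x i / 2 / 2) := by omega
    rw [h3]
    push_cast
    have : (2 : ZMod 2) = 0 := rfl
    rw [this, zero_mul]

theorem mem_lattice_iff {x : GolayPt → ℤ} {par : ℤ} {c : Finset GolayPt} (hc : c ∈ Sup)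
    (hpar : par = 0 ∨ par = 1)
    (hx : ∀ i, x i % 4 = par + 2 * (if i ∈ c then 1 else 0)) :
    x ∈ leechLattice ↔ ∏ i, chi (x i) = tau par := by
  rw [← sum_iff_prod hc hpar hx, mem_leechLattice_iff, mem_leechSet_iff]
  have hm : ∀ i, x i ≡ par [ZMOD 2] := by
    intro i
    have := hx i
    unfold Int.ModEq
    split_ifs at this <;> rcases hpar with rfl | rfl <;> omega
  constructor
  · rintro ⟨m, h1, h2, -⟩
    have h3 : m ≡ par [ZMOD 2] := (h1 (pt 0)).symm.trans (hm (pt 0))
    refine h2.trans ?_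
    unfold Int.ModEq at h3 ⊢
    omega
  · intro h
    refine ⟨par, hm, h, ?_⟩
    rw [word_eq hpar hx]
    exact word_of_support hc

/-! ### Summing over the cells -/

/-- The index set of the cells. -/
def idxF : Finset (ℕ × ℕ) := Finset.range 2 ×ˢ Finset.range 4096

section Total

variable (V : Finset ℤ)

open Classical in
/-- The lattice vectors with coordinates in `V`. -/
noncomputable def lamF : Finset (GolayPt → ℤ) :=
  idxF.biUnion fun q => cell V (q.1 : ℤ) (setOf (code q.2))

theorem mem_cell_iff {par : ℤ} {c : Finset GolayPt} (hc : c ∈ Sup) (hpar : par = 0 ∨ par = 1)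
    {x : GolayPt → ℤ} :
    x ∈ cell V par c ↔ x ∈ leechLattice ∧ (∀ i, x i ∈ V) ∧
      ∀ i, x i % 4 = par + 2 * (if i ∈ c then 1 else 0) := by
  unfold cell
  simp only [Finset.mem_filter, Fintype.mem_piFinset, opts]
  constructor
  · rintro ⟨h1, h2⟩
    have h3 : ∀ i, x i % 4 = par + 2 * (if i ∈ c then 1 else 0) := fun i => (h1 i).2
    exact ⟨(mem_lattice_iff hc hpar h3).2 h2, fun i => (h1 i).1, h3⟩
  · rintro ⟨h1, h2, h3⟩
    exact ⟨fun i => ⟨h2 i, h3 i⟩, (mem_lattice_iff hc hpar h3).1 h1⟩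

theorem par_cases (q : ℕ × ℕ) (hq : q ∈ idxF) : ((q.1 : ℕ) : ℤ) = 0 ∨ ((q.1 : ℕ) : ℤ) = 1 := by
  have : q.1 < 2 := Finset.mem_range.1 (Finset.mem_product.1 hq).1
  interval_cases q.1 <;> simp

theorem code_mem_of_idx (q : ℕ × ℕ) (hq : q ∈ idxF) : setOf (code q.2) ∈ Sup :=
  Cfsg.Agent.Lib.Leech.Packed.setOf_code_mem (Finset.mem_range.1 (Finset.mem_product.1 hq).2)

theorem mem_lamF {x : GolayPt → ℤ} : x ∈ lamF V ↔ x ∈ leechLattice ∧ ∀ i, x i ∈ V := by
  unfold lamF
  simp only [Finset.mem_biUnion]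
  constructor
  · rintro ⟨q, hq, h⟩
    have := (mem_cell_iff V (code_mem_of_idx q hq) (par_cases q hq)).1 h
    exact ⟨this.1, this.2.1⟩
  · rintro ⟨h1, h2⟩
    have h1' := h1
    rw [mem_leechLattice_iff, mem_leechSet_iff] at h1'
    obtain ⟨m, hm, -, hw⟩ := h1'
    obtain ⟨k, hk, hk'⟩ := mem_golayCode_iff.1 hw
    have hm2 : m % 2 = 0 ∨ m % 2 = 1 := by omega
    have hq : ((m % 2).toNat, k) ∈ idxF := by
      unfold idxF
      simp only [Finset.mem_product, Finset.mem_range]
      refine ⟨?_, hk⟩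
      rcases hm2 with h | h <;> rw [h] <;> simp
    refine ⟨_, hq, ?_⟩
    have hc : ((((m % 2).toNat : ℕ)) : ℤ) = m % 2 := by
      rcases hm2 with h | h <;> rw [h] <;> simp
    refine (mem_cell_iff V (code_mem_of_idx _ hq) (par_cases _ hq)).2 ⟨h1, h2, fun i => ?_⟩
    simp only [hc]
    have h3 := hm i
    have h4 := digit_int (x i)
    have h5 : bit1 (x i) = wordOf (code k) i := congrFun hk' i
    rw [h5] at h4
    unfold wordOf at h4
    have h6 : i ∈ setOf (code k) ↔ (code k).testBit (idx i) = true := mem_setOf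
    unfold Int.ModEq at h3
    by_cases h7 : (code k).testBit (idx i) = true
    · rw [if_pos h7, if_pos (by decide)] at h4
      rw [if_pos (h6.2 h7)]
      omega
    · rw [if_neg h7, if_neg (by decide)] at h4
      rw [if_neg (fun h => h7 (h6.1 h))]
      omega

theorem disjoint_cells : (idxF : Set (ℕ × ℕ)).PairwiseDisjoint
    fun q => cell V (q.1 : ℤ) (setOf (code q.2)) := by
  intro q hq q' hq' hne
  rw [Function.onFun, Finset.disjoint_left]
  intro x hx hx'
  apply hne
  have hq0 : q ∈ idxF := hq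
  have hq0' : q' ∈ idxF := hq'
  have h1 := ((mem_cell_iff V (code_mem_of_idx q hq0) (par_cases q hq0)).1 hx).2.2
  have h2 := ((mem_cell_iff V (code_mem_of_idx q' hq0') (par_cases q' hq0')).1 hx').2.2
  have h3 : ∀ i, i ∈ setOf (code q.2) ↔ i ∈ setOf (code q'.2) := by
    intro i
    have h4 := h1 i
    have h5 := h2 i
    rcases par_cases q hq0 with h6 | h6 <;> rcases par_cases q' hq0' with h7 | h7 <;>
      rw [h6] at h4 <;> rw [h7] at h5 <;> split_ifs at h4 h5 <;> simp_all <;> omega
  have h8 : (q.1 : ℤ) = q'.1 := by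
    have h4 := h1 (pt 0)
    have h5 := h2 (pt 0)
    rcases par_cases q hq0 with h6 | h6 <;> rcases par_cases q' hq0' with h7 | h7 <;>
      rw [h6] at h4 ⊢ <;> rw [h7] at h5 ⊢ <;> split_ifs at h4 h5 <;> omega
  have h9 : setOf (code q.2) = setOf (code q'.2) := Finset.ext h3
  have hk := Finset.mem_range.1 (Finset.mem_product.1 hq0).2
  have hk' := Finset.mem_range.1 (Finset.mem_product.1 hq0').2
  have h10 : q.2 = q'.2 := code_injOn hk hk' ((setOf_injOn (code_lt hk) (code_lt hk')).1 h9)
  exact Prod.ext (by exact_mod_cast h8) h10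

/-- Sum over the values of the weights of the code. -/
theorem sum_code_pop (g : ℕ → ℤ) : ∑ m ∈ Finset.range 4096, g (pop (code m)) =
    g 0 + 759 * g 8 + 2576 * g 12 + 759 * g 16 + g 24 := by
  have hW : ({0, 8, 12, 16, 24} : Finset ℕ).card = 5 := by decide
  have h1 : ∑ m ∈ Finset.range 4096, g (pop (code m)) =
      ∑ w ∈ ({0, 8, 12, 16, 24} : Finset ℕ), ∑ m ∈ (Finset.range 4096).filter (fun m => pop (code m) = w),
        g (pop (code m)) := by
    symm
    apply Finset.sum_fiberwise_of_maps_to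
    intro m hm
    have := code_weights m (Finset.mem_range.1 hm)
    simpa using this
  have h2 : ∀ w, ∑ m ∈ (Finset.range 4096).filter (fun m => pop (code m) = w), g (pop (code m)) =
      ((countUpTo (fun m => Nat.beq (pop (code m)) w) 4096 : ℕ) : ℤ) * g w := by
    intro w
    rw [Finset.sum_congr rfl (g := fun _ => g w) fun m hm => by rw [(Finset.mem_filter.1 hm).2],
      Finset.sum_const, countUpTo_eq, nsmul_eq_mul]
    congr 3
    ext m
    simp only [Finset.mem_filter, Finset.mem_range]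
    constructor
    · rintro ⟨h, h'⟩
      exact ⟨h, by subst h'; exact Nat.beq_refl _⟩
    · rintro ⟨h, h'⟩
      exact ⟨h, Nat.eq_of_beq_eq_true h'⟩
  rw [h1, Finset.sum_congr rfl fun w _ => h2 w]
  have c0 : countUpTo (fun m => Nat.beq (pop (code m)) 0) 4096 = 1 := by decide +kernel
  have c8 : countUpTo (fun m => Nat.beq (pop (code m)) 8) 4096 = 759 := by decide +kernel
  have c12 : countUpTo (fun m => Nat.beq (pop (code m)) 12) 4096 = 2576 := by decide +kernel
  have c16 : countUpTo (fun m => Nat.beq (pop (code m)) 16) 4096 = 759 := by decide +kernel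
  have c24 : countUpTo (fun m => Nat.beq (pop (code m)) 24) 4096 = 1 := by decide +kernel
  rw [Finset.sum_insert (by decide), Finset.sum_insert (by decide), Finset.sum_insert (by decide),
    Finset.sum_insert (by decide), Finset.sum_singleton, c0, c8, c12, c16, c24]
  push_cast
  ring

/-- One term of the generating function. -/
def termG (X par : ℤ) (w : ℕ) : ℤ :=
  pV V X par ^ (24 - w) * pV V X (par + 2) ^ w + tau par * (qV V X par ^ (24 - w) * qV V X (par + 2) ^ w)

/-- The generating function for given parity. -/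
def parF (X par : ℤ) : ℤ :=
  termG V X par 0 + 759 * termG V X par 8 + 2576 * termG V X par 12 + 759 * termG V X par 16 +
    termG V X par 24

/-- Twice the generating function. -/
def totF (X : ℤ) : ℤ := parF V X 0 + parF V X 1

theorem sum_lamF (X : ℤ) : 2 * ∑ x ∈ lamF V, X ^ normN x = totF V X := by
  unfold lamF totF
  rw [Finset.sum_biUnion (disjoint_cells V), Finset.mul_sum, idxF, Finset.sum_product]
  rw [Finset.sum_range_succ, Finset.sum_range_succ, Finset.sum_range_zero, zero_add]
  have h : ∀ par : ℤ, (par = 0 ∨ par = 1) → ∀ m ∈ Finset.range 4096,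
      2 * ∑ x ∈ cell V par (setOf (code m)), X ^ normN x = termG V X par (pop (code m)) := by
    intro par hpar m _
    rw [cell_sum V X par _ hpar, card_setOf]
    rfl
  simp only [Nat.cast_zero, Nat.cast_one]
  congr 1
  · rw [Finset.sum_congr rfl (h 0 (Or.inl rfl)), sum_code_pop]
    rfl
  · rw [Finset.sum_congr rfl (h 1 (Or.inr rfl)), sum_code_pop]
    rfl

end Total

attribute [irreducible] lamF

/-! ### Reading off the counts -/

/-- Digits: the sum `∑ g j * B ^ j`. -/
theorem sum_digits_lt (B : ℕ) (g : ℕ → ℕ) (hg : ∀ j, g j < B) (M : ℕ) :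
    ∑ j ∈ Finset.range M, g j * B ^ j < B ^ M := by
  induction M with
  | zero => simp
  | succ M ih =>
    rw [Finset.sum_range_succ, pow_succ]
    have h1 : (g M + 1) * B ^ M ≤ B * B ^ M := Nat.mul_le_mul_right _ (hg M)
    nlinarith

theorem digit_of_sum (B : ℕ) (hB : 0 < B) (g : ℕ → ℕ) (hg : ∀ j, g j < B) (M k : ℕ) (hk : k < M) :
    (∑ j ∈ Finset.range M, g j * B ^ j) / B ^ k % B = g k := by
  induction M with
  | zero => omega
  | succ M ih =>
    rw [Finset.sum_range_succ]
    rcases Nat.lt_succ_iff_lt_or_eq.mp hk with h | rfl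
    · have h2 : B ^ M = B ^ k * (B * B ^ (M - k - 1)) := by
        rw [← pow_succ', ← pow_add]
        congr 1
        omega
      rw [h2, show g M * (B ^ k * (B * B ^ (M - k - 1))) = B ^ k * (B * (g M * B ^ (M - k - 1))) by ring]
      rw [Nat.add_mul_div_left _ _ (by positivity), Nat.add_mul_mod_self_left]
      exact ih h
    · have h1 := sum_digits_lt B g hg k
      rw [Nat.mul_comm (g k), Nat.add_mul_div_left _ _ (by positivity), Nat.div_eq_of_lt h1,
        Nat.zero_add]
      exact Nat.mod_eq_of_lt (hg k)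

section Read

variable (V : Finset ℤ)

/-- The base of the evaluation. -/
def baseB : ℕ := 2 ^ 100

/-- The number of lattice vectors with coordinates in `V` of norm `k`, as a computation. -/
def cnt (k : ℕ) : ℕ := (totF V (baseB : ℤ)).toNat / 2 / baseB ^ k % baseB

theorem lamF_card_lt (hV : V.card ≤ 17) : (lamF V).card < baseB := by
  have h1 : lamF V ⊆ Fintype.piFinset fun _ => V := by
    intro x hx
    rw [Fintype.mem_piFinset]
    exact ((mem_lamF V).1 hx).2
  have h2 := Finset.card_le_card h1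
  rw [Fintype.card_piFinset, Finset.prod_const] at h2
  have h3 : (Finset.univ : Finset GolayPt).card = 24 := by simpa using card_golayPt
  rw [h3] at h2
  have h4 : V.card ^ 24 ≤ 17 ^ 24 := Nat.pow_le_pow_left hV 24
  have h5 : (17 : ℕ) ^ 24 < baseB := by decide
  omega

theorem normN_lt (hb : ∀ v ∈ V, v.natAbs ≤ 8) {x : GolayPt → ℤ} (hx : x ∈ lamF V) :
    normN x < 1537 := by
  have h1 : ∀ i, (x i).natAbs ^ 2 ≤ 64 := by
    intro i
    exact Nat.pow_le_pow_left (hb _ (((mem_lamF V).1 hx).2 i)) 2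
  have h2 : normN x ≤ ∑ _i : GolayPt, 64 := Finset.sum_le_sum fun i _ => h1 i
  rw [Finset.sum_const] at h2
  have h3 : (Finset.univ : Finset GolayPt).card = 24 := by simpa using card_golayPt
  rw [h3] at h2
  simp at h2
  omega

theorem card_filter_eq (hV : V.card ≤ 17) (hb : ∀ v ∈ V, v.natAbs ≤ 8) {k : ℕ} (hk : k < 1537) :
    ((lamF V).filter fun x => normN x = k).card = cnt V k := by
  set g : ℕ → ℕ := fun k => ((lamF V).filter fun x => normN x = k).card with hg
  have hT : ∑ x ∈ lamF V, baseB ^ normN x = ∑ j ∈ Finset.range 1537, g j * baseB ^ j := by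
    symm
    rw [← Finset.sum_fiberwise_of_maps_to (s := lamF V) (t := Finset.range 1537) (g := normN)
      (fun x hx => Finset.mem_range.2 (normN_lt V hb hx))]
    refine Finset.sum_congr rfl fun j _ => ?_
    rw [Finset.sum_congr rfl (g := fun _ => baseB ^ j) fun x hx => by
      rw [(Finset.mem_filter.1 hx).2], Finset.sum_const, smul_eq_mul]
  have h1 := sum_lamF V (baseB : ℤ)
  have h2 : ∑ x ∈ lamF V, ((baseB : ℕ) : ℤ) ^ normN x = ((∑ x ∈ lamF V, baseB ^ normN x : ℕ) : ℤ) := by
    push_cast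
    rfl
  rw [h2, hT] at h1
  have h3 : (totF V (baseB : ℤ)).toNat / 2 = ∑ j ∈ Finset.range 1537, g j * baseB ^ j := by
    rw [← h1]
    omega
  unfold cnt
  rw [h3]
  symm
  apply digit_of_sum baseB (by decide) g _ 1537 k hk
  intro j
  exact lt_of_le_of_lt (Finset.card_filter_le _ _) (lamF_card_lt V hV)

/-- The main counting theorem. -/
theorem ncard_eq (hV : V.card ≤ 17) (hb : ∀ v ∈ V, v.natAbs ≤ 8) (N : ℕ) (hN : N < 1537) :
    {x : GolayPt → ℤ | x ∈ leechLattice ∧ (∀ i, x i ∈ V) ∧ sqNorm x = N}.ncard = cnt V N := by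
  rw [← card_filter_eq V hV hb hN, ← Set.ncard_coe_finset]
  congr 1
  ext x
  simp only [Set.mem_setOf_eq, Finset.coe_filter, mem_lamF, and_assoc]
  rw [← normN_cast]
  norm_cast

end Read

/-- All integers with absolute value at most 8. -/
noncomputable def Vall : Finset ℤ := Finset.Icc (-8) 8

theorem natAbs_le_of_sqNorm {x : GolayPt → ℤ} {N : ℤ} (h : sqNorm x = N) (hN : N ≤ 64) (i : GolayPt) :
    (x i).natAbs ≤ 8 := by
  have h1 : x i ^ 2 ≤ sqNorm x :=
    Finset.single_le_sum (f := fun i => x i ^ 2) (fun _ _ => sq_nonneg _) (Finset.mem_univ i)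
  rw [h] at h1
  have h2 : (x i) ^ 2 ≤ 64 := h1.trans hN
  have h3 : |x i| ≤ 8 := by
    by_contra hc
    have h4 : 9 ≤ |x i| := by omega
    have h5 : x i ^ 2 = |x i| ^ 2 := (sq_abs _).symm
    nlinarith
  have h6 := Int.abs_eq_natAbs (x i)
  omega

theorem card_Vall : Vall.card = 17 := by decide +kernel

theorem Vall_natAbs : ∀ v ∈ Vall, v.natAbs ≤ 8 := by decide +kernel

theorem mem_Vall_of_natAbs {v : ℤ} (h : v.natAbs ≤ 8) : v ∈ Vall := by
  unfold Vall
  rw [Finset.mem_Icc]
  omega

/-- Number of lattice vectors of norm at most 64. -/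
theorem ncard_norm {N : ℕ} (hN : N ≤ 64) :
    {x : GolayPt → ℤ | x ∈ leechLattice ∧ sqNorm x = N}.ncard = cnt Vall N := by
  rw [← ncard_eq Vall card_Vall.le Vall_natAbs N (by omega)]
  congr 1
  ext x
  simp only [Set.mem_setOf_eq]
  constructor
  · rintro ⟨h1, h2⟩
    exact ⟨h1, fun i => mem_Vall_of_natAbs (natAbs_le_of_sqNorm h2 (by omega) i), h2⟩
  · rintro ⟨h1, -, h2⟩
    exact ⟨h1, h2⟩

theorem cnt32 : cnt Vall 32 = 196560 := by decide +kernel

theorem cnt48 : cnt Vall 48 = 16773120 := by decide +kernel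

theorem cnt64 : cnt Vall 64 = 398034000 := by decide +kernel

theorem ncard_norm32 : {x : GolayPt → ℤ | x ∈ leechLattice ∧ sqNorm x = 32}.ncard = 196560 := by
  have := ncard_norm (N := 32) (by norm_num)
  rw [cnt32] at this
  exact_mod_cast this

theorem ncard_norm48 : {x : GolayPt → ℤ | x ∈ leechLattice ∧ sqNorm x = 48}.ncard = 16773120 := by
  have := ncard_norm (N := 48) (by norm_num)
  rw [cnt48] at this
  exact_mod_cast this

theorem ncard_norm64 : {x : GolayPt → ℤ | x ∈ leechLattice ∧ sqNorm x = 64}.ncard = 398034000 := by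
  have := ncard_norm (N := 64) (by norm_num)
  rw [cnt64] at this
  exact_mod_cast this

end Cfsg.Agent.Lib.Leech.Count
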