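import Cfsg.Agent.Lib.Leech.Word
import Cfsg.Agent.Lib.Leech.Count

/-!
# Certificates for orbits on lattice vectors

A finite set of vectors is given by strictly increasing packed numbers, stored in big numerals.
Every element carries the index of a generator sending it to a smaller number: descent gives
transitivity, and cardinalities are read off the lists.
-/

set_option autoImplicit false

namespace Cfsg.Agent.Lib.Leech.Cert

open Cfsg Cfsg.Agent.Lib.Golay.Core Cfsg.Agent.Lib.Golay.Perm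
  Cfsg.Agent.Lib.Leech.Basic Cfsg.Agent.Lib.Leech.Lat
  Cfsg.Agent.Lib.Leech.Mon Cfsg.Agent.Lib.Leech.Packed Cfsg.Agent.Lib.Leech.Vec
  Cfsg.Agent.Lib.Leech.Xi Cfsg.Agent.Lib.Leech.Reach Cfsg.Agent.Lib.Leech.Word
  Cfsg.Agent.Lib.Leech.Order
open scoped Pointwise

/-! ### Digits of packed numbers -/

theorem mod_recon (n k : ℕ) : n % 2 ^ (5 * k) = ∑ i ∈ Finset.range k, img n i * 32 ^ i := by
  induction k with
  | zero => simp [Nat.mod_one]
  | succ k ih =>
    rw [Finset.sum_range_succ, ← ih, Nat.mul_succ, pow_add, Nat.mod_mul, img_eq]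
    have h : (32 : ℕ) ^ k = 2 ^ (5 * k) := by
      rw [show (32 : ℕ) = 2 ^ 5 by norm_num, ← pow_mul]
    rw [h]
    norm_num
    ring

theorem recon {n : ℕ} (hn : n < 2 ^ 120) : n = ∑ i ∈ Finset.range 24, img n i * 32 ^ i := by
  rw [← mod_recon, show 5 * 24 = 120 by norm_num, Nat.mod_eq_of_lt hn]

theorem eq_of_img {n m : ℕ} (hn : n < 2 ^ 120) (hm : m < 2 ^ 120) (h : ∀ i < 24, img n i = img m i) :
    n = m := by
  rw [recon hn, recon hm]
  refine Finset.sum_congr rfl fun i hi => ?_
  rw [h i (Finset.mem_range.1 hi)]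

theorem dec_inj {n m : ℕ} (hn : n < 2 ^ 120) (hm : m < 2 ^ 120) (h : dec n = dec m) : n = m := by
  apply eq_of_img hn hm
  intro i hi
  have h1 := congrFun h (pt i)
  rw [dec_pt n hi, dec_pt m hi] at h1
  omega

/-- The zero vector, packed. -/
def nZero : ℕ := 686053159114795289240674611757597200

theorem nZero_eq : ∑ i ∈ Finset.range 24, 32 * 32 ^ i = 2 * nZero := by decide +kernel

theorem add_of_neg {n m : ℕ} (hn : n < 2 ^ 120) (hm : m < 2 ^ 120) (h : dec n = -dec m) :
    n + m = 2 * nZero := by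
  have h1 : ∀ i ∈ Finset.range 24, img n i * 32 ^ i + img m i * 32 ^ i = 32 * 32 ^ i := by
    intro i hi
    have hi' := Finset.mem_range.1 hi
    have h2 := congrFun h (pt i)
    rw [Pi.neg_apply, dec_pt n hi', dec_pt m hi'] at h2
    have h3 : img n i + img m i = 32 := by omega
    rw [← add_mul, h3]
  rw [← nZero_eq, ← Finset.sum_congr rfl h1, Finset.sum_add_distrib, ← recon hn, ← recon hm]

theorem not_neg_of_lt {n m : ℕ} (hn : n < nZero) (hm : m < nZero) : dec n ≠ -dec m := by
  intro h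
  have h2 : nZero < 2 ^ 120 := by decide +kernel
  have := add_of_neg (hn.trans h2) (hm.trans h2) h
  omega

/-! ### Inner products -/

/-- The sum of products of digits. -/
def dotV (x y : ℕ) : ℕ := Nat.rec 0 (fun i ih => Nat.add ih (Nat.mul (img x i) (img y i))) 24

theorem dotV_eq (x y : ℕ) : (dotV x y : ℤ) = ∑ i ∈ Finset.range 24, ((img x i : ℕ) : ℤ) * ((img y i : ℕ) : ℤ) := by
  have h : ∀ k, ((Nat.rec 0 (fun i ih => Nat.add ih (Nat.mul (img x i) (img y i))) k : ℕ) : ℤ) =
      ∑ i ∈ Finset.range k, ((img x i : ℕ) : ℤ) * ((img y i : ℕ) : ℤ) := by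
    intro k
    induction k with
    | zero => simp
    | succ k ih =>
      rw [Finset.sum_range_succ, ← ih]
      show ((Nat.add _ (Nat.mul _ _) : ℕ) : ℤ) = _
      push_cast [Nat.add_eq, Nat.mul_eq]
      rfl
  exact h 24

theorem dot_dec (x y : ℕ) :
    dotInt (dec x) (dec y) = (dotV x y : ℤ) + 6144 - 16 * ((sumD x 24 : ℤ) + (sumD y 24 : ℤ)) := by
  unfold dotInt
  rw [sum_golay, dotV_eq, sumD_eq, sumD_eq]
  have : ∀ i ∈ Finset.range 24, dec x (pt i) * dec y (pt i) =
      ((img x i : ℕ) : ℤ) * ((img y i : ℕ) : ℤ) + 256 - 16 * (((img x i : ℕ) : ℤ) + ((img y i : ℕ) : ℤ)) := by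
    intro i hi
    rw [dec_pt x (Finset.mem_range.1 hi), dec_pt y (Finset.mem_range.1 hi)]
    ring
  rw [Finset.sum_congr rfl this, Finset.sum_sub_distrib, Finset.sum_add_distrib, ← Finset.mul_sum,
    Finset.sum_add_distrib]
  simp

/-- The inner product of the stored vectors is `p - q`. -/
def dotIs (x y p q : ℕ) : Bool :=
  Nat.beq (Nat.add (Nat.add (dotV x y) 6144) q)
    (Nat.add (Nat.mul 16 (Nat.add (sumD x 24) (sumD y 24))) p)

theorem dotIs_iff {x y p q : ℕ} : dotIs x y p q = true ↔ dotInt (dec x) (dec y) = (p : ℤ) - q := by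
  unfold dotIs
  rw [dot_dec, Nat.beq_eq]
  show dotV x y + 6144 + q = 16 * (sumD x 24 + sumD y 24) + p ↔ _
  constructor
  · intro h
    have h2 : ((dotV x y + 6144 + q : ℕ) : ℤ) = ((16 * (sumD x 24 + sumD y 24) + p : ℕ) : ℤ) := by
      rw [h]
    push_cast at h2
    linarith
  · intro h
    have h2 : ((dotV x y + 6144 + q : ℕ) : ℤ) = ((16 * (sumD x 24 + sumD y 24) + p : ℕ) : ℤ) := by
      push_cast
      linarith
    exact_mod_cast h2

/-! ### Evaluating an argument first -/

/-- Apply `f` to the value of `n`. -/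
def forceN {α : Type} (n : ℕ) (f : ℕ → α) : α :=
  Nat.rec (motive := fun _ => α) (f 0) (fun k _ => f (Nat.succ k)) n

theorem forceN_eq {α : Type} (n : ℕ) (f : ℕ → α) : forceN n f = f n := by
  cases n <;> rfl

/-! ### Chunks: big numerals holding increasing lists -/

/-- The vector number `i`. -/
def xOf (ch i : ℕ) : ℕ :=
  Nat.land (Nat.shiftRight ch (Nat.add (Nat.mul 132 i) 12)) 1329227995784915872903807060280344575

/-- The index number `i`. -/
def giOf (ch i : ℕ) : ℕ := Nat.land (Nat.shiftRight ch (Nat.mul 132 i)) 4095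

theorem xOf_lt (ch i : ℕ) : xOf ch i < 2 ^ 120 := by
  have h : xOf ch i = (ch >>> (132 * i + 12)) &&& (2 ^ 120 - 1) := rfl
  rw [h, Nat.and_two_pow_sub_one_eq_mod]
  exact Nat.mod_lt _ (by norm_num)

/-- A chunk: the numeral, the length, a strict lower bound and a strict upper bound. -/
abbrev Chunk := ℕ × ℕ × ℕ × ℕ

/-- The check of a chunk. -/
def chunkB (P : ℕ → ℕ → Bool) (e : Chunk) : Bool :=
  allUpTo (fun i => forceN (xOf e.1 i) fun x => forceN (giOf e.1 i) fun k => P x k) e.2.1 &&
  allUpTo (fun i => Nat.blt (xOf e.1 i) (xOf e.1 (Nat.succ i))) (Nat.pred e.2.1) &&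
  Nat.blt e.2.2.1 (xOf e.1 0) && Nat.blt (xOf e.1 (Nat.pred e.2.1)) e.2.2.2 && Nat.blt 0 e.2.1

/-- The vectors of a chunk. -/
def elems (e : Chunk) : Finset ℕ := (Finset.range e.2.1).image (xOf e.1)

theorem mono_of_step {f : ℕ → ℕ} {n : ℕ} (h : ∀ i < n, f i < f (i + 1)) {i j : ℕ} (hij : i < j)
    (hj : j ≤ n) : f i < f j := by
  induction j with
  | zero => omega
  | succ j ih =>
    rcases Nat.lt_succ_iff_lt_or_eq.mp hij with h1 | rfl
    · exact (ih h1 (by omega)).trans (h j (by omega))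
    · exact h i (by omega)

section chunk

variable {P : ℕ → ℕ → Bool} {e : Chunk}

theorem chunk_parts (h : chunkB P e = true) :
    (∀ i < e.2.1, P (xOf e.1 i) (giOf e.1 i) = true) ∧
    (∀ i < e.2.1 - 1, xOf e.1 i < xOf e.1 (i + 1)) ∧ e.2.2.1 < xOf e.1 0 ∧
    xOf e.1 (e.2.1 - 1) < e.2.2.2 ∧ 0 < e.2.1 := by
  unfold chunkB at h
  simp only [Bool.and_eq_true] at h
  obtain ⟨⟨⟨⟨h1, h2⟩, h3⟩, h4⟩, h5⟩ := h
  refine ⟨fun i hi => ?_, fun i hi => ?_, ?_, ?_, ?_⟩
  · have := allUpTo_iff.1 h1 i hi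
    rwa [forceN_eq, forceN_eq] at this
  · have : Nat.blt (xOf e.1 i) (xOf e.1 (Nat.succ i)) = true := allUpTo_iff.1 h2 i hi
    simpa using this
  · simpa using h3
  · simpa using h4
  · simpa using h5

theorem chunk_mono (h : chunkB P e = true) {i j : ℕ} (hij : i < j) (hj : j < e.2.1) :
    xOf e.1 i < xOf e.1 j :=
  mono_of_step (chunk_parts h).2.1 hij (by omega)

theorem chunk_inj (h : chunkB P e = true) :
    Set.InjOn (xOf e.1) (Finset.range e.2.1 : Finset ℕ) := by
  intro i hi j hj hij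
  have hi' := Finset.mem_range.1 (Finset.mem_coe.1 hi)
  have hj' := Finset.mem_range.1 (Finset.mem_coe.1 hj)
  rcases lt_trichotomy i j with h1 | h1 | h1
  · have := chunk_mono h h1 hj'
    omega
  · exact h1
  · have := chunk_mono h h1 hi'
    omega

theorem card_elems (h : chunkB P e = true) : (elems e).card = e.2.1 := by
  unfold elems
  rw [Finset.card_image_of_injOn (chunk_inj h), Finset.card_range]

theorem mem_elems_bounds (h : chunkB P e = true) {x : ℕ} (hx : x ∈ elems e) :
    e.2.2.1 < x ∧ x < e.2.2.2 := by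
  obtain ⟨i, hi, rfl⟩ := Finset.mem_image.1 hx
  have hi' := Finset.mem_range.1 hi
  obtain ⟨-, -, h3, h4, h5⟩ := chunk_parts h
  constructor
  · rcases Nat.eq_zero_or_pos i with rfl | h6
    · exact h3
    · exact h3.trans (chunk_mono h h6 hi')
  · rcases Nat.lt_or_ge i (e.2.1 - 1) with h6 | h6
    · exact (chunk_mono h h6 (by omega)).trans h4
    · have : i = e.2.1 - 1 := by omega
      rwa [this]

theorem mem_elems_P (h : chunkB P e = true) {x : ℕ} (hx : x ∈ elems e) : ∃ k, P x k = true := by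
  obtain ⟨i, hi, rfl⟩ := Finset.mem_image.1 hx
  exact ⟨_, (chunk_parts h).1 i (Finset.mem_range.1 hi)⟩

end chunk

theorem mem_elems_lt {e : Chunk} {x : ℕ} (hx : x ∈ elems e) : x < 2 ^ 120 := by
  obtain ⟨i, -, rfl⟩ := Finset.mem_image.1 hx
  exact xOf_lt _ _

/-- The union of a list of chunks. -/
def unionL : List Chunk → Finset ℕ
  | [] => ∅
  | e :: L => elems e ∪ unionL L

/-- The chunks are in increasing order, after `a`, before `b`. -/
def chainB : List Chunk → ℕ → ℕ → Bool
  | [], a, b => Nat.ble a b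
  | e :: L, a, b => Nat.ble a e.2.2.1 && chainB L e.2.2.2 b

/-- The total length. -/
def totalL : List Chunk → ℕ
  | [] => 0
  | e :: L => e.2.1 + totalL L

section union

variable {P : ℕ → ℕ → Bool}

theorem chain_bounds {L : List Chunk} (hL : ∀ e ∈ L, chunkB P e = true) {a b : ℕ}
    (hc : chainB L a b = true) : a ≤ b ∧ ∀ x ∈ unionL L, a < x ∧ x < b := by
  induction L generalizing a with
  | nil =>
    exact ⟨Nat.le_of_ble_eq_true hc, fun x hx => by simp [unionL] at hx⟩
  | cons e L ih =>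
    have h0 : (Nat.ble a e.2.2.1 && chainB L e.2.2.2 b) = true := hc
    simp only [Bool.and_eq_true] at h0
    obtain ⟨h1, h2⟩ := h0
    have h1' : a ≤ e.2.2.1 := Nat.le_of_ble_eq_true h1
    obtain ⟨h3, h4⟩ := ih (fun e' he' => hL e' (List.mem_cons_of_mem _ he')) h2
    have he := hL e List.mem_cons_self
    have h5 := (chunk_parts he).2.2.2.2
    have h6 := mem_elems_bounds he (x := xOf e.1 0) (Finset.mem_image.2 ⟨0, Finset.mem_range.2 h5, rfl⟩)
    refine ⟨by omega, fun x hx => ?_⟩
    have hmem : x ∈ elems e ∪ unionL L := hx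
    rcases Finset.mem_union.1 hmem with h7 | h7
    · have := mem_elems_bounds he h7
      omega
    · have := h4 x h7
      omega

theorem card_unionL {L : List Chunk} (hL : ∀ e ∈ L, chunkB P e = true) {a b : ℕ}
    (hc : chainB L a b = true) : (unionL L).card = totalL L := by
  induction L generalizing a with
  | nil => rfl
  | cons e L ih =>
    have h0 : (Nat.ble a e.2.2.1 && chainB L e.2.2.2 b) = true := hc
    simp only [Bool.and_eq_true] at h0
    obtain ⟨h1, h2⟩ := h0
    have hL' : ∀ e' ∈ L, chunkB P e' = true := fun e' he' => hL e' (List.mem_cons_of_mem _ he')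
    have he := hL e List.mem_cons_self
    have hd : Disjoint (elems e) (unionL L) := by
      rw [Finset.disjoint_left]
      intro x hx hx'
      have := mem_elems_bounds he hx
      have := ((chain_bounds hL' h2).2 x hx').1
      omega
    show (elems e ∪ unionL L).card = e.2.1 + totalL L
    rw [Finset.card_union_of_disjoint hd, card_elems he, ih hL' h2]

theorem mem_unionL_P {L : List Chunk} (hL : ∀ e ∈ L, chunkB P e = true) {x : ℕ}
    (hx : x ∈ unionL L) : ∃ k, P x k = true := by
  induction L with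
  | nil => simp [unionL] at hx
  | cons e L ih =>
    have hmem : x ∈ elems e ∪ unionL L := hx
    rcases Finset.mem_union.1 hmem with h7 | h7
    · exact mem_elems_P (hL e List.mem_cons_self) h7
    · exact ih (fun e' he' => hL e' (List.mem_cons_of_mem _ he')) h7

theorem mem_unionL_lt {L : List Chunk} {x : ℕ} (hx : x ∈ unionL L) : x < 2 ^ 120 := by
  induction L with
  | nil => simp [unionL] at hx
  | cons e L ih =>
    have hmem : x ∈ elems e ∪ unionL L := hx
    rcases Finset.mem_union.1 hmem with h7 | h7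
    · exact mem_elems_lt h7
    · exact ih h7

/-! ### Counting inside the lists -/

/-- The number of elements of a chunk satisfying `Q`. -/
def cntB (Q : ℕ → Bool) (e : Chunk) : ℕ := countUpTo (fun i => forceN (xOf e.1 i) Q) e.2.1

theorem card_filter_elems {e : Chunk} (he : chunkB P e = true) (Q : ℕ → Bool) :
    ((elems e).filter fun x => Q x = true).card = cntB Q e := by
  unfold cntB elems
  rw [countUpTo_eq, Finset.filter_image, Finset.card_image_of_injOn]
  · refine congrArg Finset.card (Finset.filter_congr fun i _ => ?_)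
    rw [forceN_eq]
  · intro i hi j hj hij
    have hi' := (Finset.mem_filter.1 (Finset.mem_coe.1 hi)).1
    have hj' := (Finset.mem_filter.1 (Finset.mem_coe.1 hj)).1
    exact chunk_inj he (Finset.mem_coe.2 hi') (Finset.mem_coe.2 hj') hij

/-- Counts over the list of chunks. -/
def cntL (Q : ℕ → Bool) : List Chunk → ℕ
  | [] => 0
  | e :: L => cntB Q e + cntL Q L

theorem card_filter_unionL {L : List Chunk} (hL : ∀ e ∈ L, chunkB P e = true) {a b : ℕ}
    (hc : chainB L a b = true) (Q : ℕ → Bool) :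
    ((unionL L).filter fun x => Q x = true).card = cntL Q L := by
  induction L generalizing a with
  | nil => simp [unionL, cntL]
  | cons e L ih =>
    have h0 : (Nat.ble a e.2.2.1 && chainB L e.2.2.2 b) = true := hc
    simp only [Bool.and_eq_true] at h0
    obtain ⟨h1, h2⟩ := h0
    have hL' : ∀ e' ∈ L, chunkB P e' = true := fun e' he' => hL e' (List.mem_cons_of_mem _ he')
    have he := hL e List.mem_cons_self
    have hd : Disjoint (elems e) (unionL L) := by
      rw [Finset.disjoint_left]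
      intro x hx hx'
      have := mem_elems_bounds he hx
      have := ((chain_bounds hL' h2).2 x hx').1
      omega
    show ((elems e ∪ unionL L).filter fun x => Q x = true).card = cntB Q e + cntL Q L
    rw [Finset.filter_union, Finset.card_union_of_disjoint
      (Finset.disjoint_filter_filter hd), card_filter_elems he, ih hL' h2]

end union

/-! ### Classes of vectors -/

/-- Inner product conditions. -/
def condsB (conds : List (ℕ × ℕ × ℕ)) (x : ℕ) : Bool :=
  conds.all fun c => dotIs x c.1 c.2.1 c.2.2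

/-- Lattice vector of given norm and inner products. -/
def classB (N : ℕ) (conds : List (ℕ × ℕ × ℕ)) (x : ℕ) : Bool :=
  inL x && dotIs x x N 0 && condsB conds x

/-- The class as a predicate. -/
def Cl (N : ℕ) (conds : List (ℕ × ℕ × ℕ)) (w : GolayPt → ℤ) : Prop :=
  w ∈ leechLattice ∧ sqNorm w = N ∧ ∀ c ∈ conds, dotInt w (dec c.1) = (c.2.1 : ℤ) - c.2.2

theorem classB_iff {N : ℕ} {conds : List (ℕ × ℕ × ℕ)} {x : ℕ} :
    classB N conds x = true ↔ Cl N conds (dec x) := by
  unfold classB Cl condsB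
  simp only [Bool.and_eq_true, List.all_eq_true]
  constructor
  · rintro ⟨⟨h1, h2⟩, h3⟩
    refine ⟨mem_of_inL h1, ?_, fun c hc => dotIs_iff.1 (h3 c hc)⟩
    have := dotIs_iff.1 h2
    rw [dotInt_self] at this
    simpa using this
  · rintro ⟨h1, h2, h3⟩
    refine ⟨⟨inL_of_mem h1, dotIs_iff.2 ?_⟩, fun c hc => dotIs_iff.2 (h3 c hc)⟩
    rw [dotInt_self, h2]
    simp

/-! ### Generators -/

/-- The permutation of an entry of a table. -/
def tabP (tab i : ℕ) : ℕ :=
  Nat.land (Nat.shiftRight tab (Nat.add (Nat.mul 144 i) 24)) 1329227995784915872903807060280344575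

/-- The sign word of an entry of a table. -/
def tabC (tab i : ℕ) : ℕ := Nat.land (Nat.shiftRight tab (Nat.mul 144 i)) 16777215

/-- The operation is a valid signed permutation. -/
def validOp (P c : ℕ) : Bool := checkAut P && Nat.blt c 16777216 && isCode c

/-- Image of a packed vector under a word. -/
def wImg (w : List (ℕ × ℕ)) (x : ℕ) : ℕ := w.foldl (fun n o => opImg o n) x

/-- A descent step, by a table entry or a word. -/
def stepB (tab NT : ℕ) (words : List (List (ℕ × ℕ))) (x k : ℕ) : Bool :=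
  cond (Nat.blt k NT)
    (forceN (tabP tab k) fun P => forceN (tabC tab k) fun c =>
      forceN (monImg P c x) fun y => Nat.blt y x && monCheck P c x y)
    (forceN (wImg (words.getD (k - NT) []) x) fun y =>
      Nat.blt y x && runW (words.getD (k - NT) []) x y)

/-- The check of a point: in the class, and the root or moved down. -/
def pointB (clB : ℕ → Bool) (root tab NT : ℕ) (words : List (List (ℕ × ℕ))) (x k : ℕ) : Bool :=
  clB x && cond (Nat.beq x root) true (stepB tab NT words x k)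

theorem opG_of_valid {P c x y : ℕ} (hv : validOp P c = true) (h : monCheck P c x y = true)
    (hx : dec x ∈ leechLattice) : ((opG (P, c) • (⟨dec x, hx⟩ : L) : L) : GolayPt → ℤ) = dec y := by
  simp only [validOp, Bool.and_eq_true] at hv
  obtain ⟨⟨h1, h2⟩, h3⟩ := hv
  have hc : c < 2 ^ 24 := by
    have : c < 16777216 := by simpa using h2
    simpa using this
  have h0 : stepOK (P, c) x y = true := by
    unfold stepOK
    have hP : P ≠ 0 := by
      rintro rfl
      exact absurd h1 (by decide +kernel)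
    have : Nat.beq (P, c).1 0 = false := by
      cases h5 : Nat.beq (P, c).1 0 with
      | false => rfl
      | true => exact absurd (Nat.eq_of_beq_eq_true h5) hP
    rw [this]
    show monOK P c x y = true
    unfold monOK
    rw [h1, h2, h3, h]
    rfl
  exact opG_smul h0 hx

/-- The table is valid and inside `H`. -/
def TabIn (H : Subgroup Co0) (tab NT : ℕ) : Prop :=
  ∀ i < NT, validOp (tabP tab i) (tabC tab i) = true ∧ opG (tabP tab i, tabC tab i) ∈ H

theorem stepB_sound {H : Subgroup Co0} {tab NT : ℕ} {words : List (List (ℕ × ℕ))}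
    (hT : TabIn H tab NT) (hW : ∀ w ∈ words, wG w ∈ H) {x k : ℕ}
    (hb : stepB tab NT words x k = true) (hx : dec x ∈ leechLattice) :
    ∃ y, y < x ∧ Rel H (dec x) (dec y) := by
  unfold stepB at hb
  cases hk : Nat.blt k NT with
  | true =>
    rw [hk] at hb
    have hk' : k < NT := by simpa using hk
    simp only [cond_true, forceN_eq, Bool.and_eq_true] at hb
    obtain ⟨h1, h2⟩ := hb
    obtain ⟨h3, h4⟩ := hT k hk'
    refine ⟨_, by simpa using h1, hx, _, h4, opG_of_valid h3 h2 hx⟩
  | false =>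
    rw [hk] at hb
    simp only [cond_false, forceN_eq, Bool.and_eq_true] at hb
    obtain ⟨h1, h2⟩ := hb
    refine ⟨_, by simpa using h1, hx, wG (words.getD (k - NT) []), ?_, wG_smul _ h2 hx⟩
    by_cases h : k - NT < words.length
    · apply hW
      rw [List.getD_eq_getElem _ _ h]
      exact List.getElem_mem h
    · rw [List.getD_eq_default _ _ (by omega)]
      exact H.one_mem

/-- Descent to the root. -/
theorem rel_root {H : Subgroup Co0} {C : ℕ → Prop} {root : ℕ}
    (h : ∀ x, C x → dec x ∈ leechLattice ∧ (x = root ∨ ∃ y, y < x ∧ C y ∧ Rel H (dec x) (dec y)))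
    (x : ℕ) (hx : C x) : Rel H (dec x) (dec root) := by
  induction x using Nat.strong_induction_on with
  | _ x ih =>
    obtain ⟨h1, h2⟩ := h x hx
    rcases h2 with rfl | ⟨y, h3, h4, h5⟩
    · exact Rel.refl h1
    · exact h5.trans (ih y h3 h4)

section level

variable {clB : ℕ → Bool} {root tab NT : ℕ} {words : List (List (ℕ × ℕ))} {L : List Chunk}
  {H : Subgroup Co0}

/-- Transitivity from a certificate, given the closure of the list. -/
theorem rel_of_chunks (hcl : ∀ x, clB x = true → dec x ∈ leechLattice)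
    (hL : ∀ e ∈ L, chunkB (pointB clB root tab NT words) e = true)
    (hT : TabIn H tab NT) (hW : ∀ w ∈ words, wG w ∈ H)
    (hclosed : ∀ x ∈ unionL L, ∀ y, y < x → Rel H (dec x) (dec y) → y ∈ unionL L)
    (x : ℕ) (hx : x ∈ unionL L) : Rel H (dec x) (dec root) := by
  refine rel_root (C := fun x => x ∈ unionL L) (fun x hx => ?_) x hx
  obtain ⟨k, hk⟩ := mem_unionL_P hL hx
  simp only [pointB, Bool.and_eq_true] at hk
  obtain ⟨h1, h2⟩ := hk
  have hm := hcl x h1
  refine ⟨hm, ?_⟩
  cases h3 : Nat.beq x root with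
  | true => exact Or.inl (Nat.eq_of_beq_eq_true h3)
  | false =>
    rw [h3] at h2
    obtain ⟨y, h4, h5⟩ := stepB_sound hT hW h2 hm
    exact Or.inr ⟨y, h4, hclosed x hx y h4 h5, h5⟩

end level

/-! ### The pointwise stabiliser of packed vectors -/

/-- The elements fixing the given vectors. -/
def FixG (R : List ℕ) : Subgroup Co0 where
  carrier := {g | ∀ r ∈ R, ∀ hr : dec r ∈ leechLattice, g • (⟨dec r, hr⟩ : L) = ⟨dec r, hr⟩}
  one_mem' := fun r _ hr => one_smul _ _
  mul_mem' := by
    intro a b ha hb r hr hr'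
    rw [mul_smul, hb r hr hr', ha r hr hr']
  inv_mem' := by
    intro a ha r hr hr'
    rw [inv_smul_eq_iff, ha r hr hr']

theorem mem_FixG {R : List ℕ} {g : Co0} :
    g ∈ FixG R ↔ ∀ r ∈ R, ∀ hr : dec r ∈ leechLattice, g • (⟨dec r, hr⟩ : L) = ⟨dec r, hr⟩ :=
  Iff.rfl

theorem opG_mem_FixG {R : List ℕ} {P c : ℕ} (hv : validOp P c = true)
    (h : R.all (fun r => monCheck P c r r) = true) : opG (P, c) ∈ FixG R := by
  intro r hr hr'
  exact Subtype.ext (opG_of_valid hv (List.all_eq_true.1 h r hr) hr')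

theorem wG_mem_FixG {R : List ℕ} {w : List (ℕ × ℕ)} (h : R.all (fun r => runW w r r) = true) :
    wG w ∈ FixG R := by
  intro r hr hr'
  exact Subtype.ext (wG_smul w (List.all_eq_true.1 h r hr) hr')

/-- The class is preserved. -/
theorem Cl_of_rel {R : List ℕ} {N : ℕ} {conds : List (ℕ × ℕ × ℕ)}
    (hR : ∀ c ∈ conds, c.1 ∈ R ∧ dec c.1 ∈ leechLattice) {w w' : GolayPt → ℤ}
    (h : Rel (FixG R) w w') (hw : Cl N conds w) : Cl N conds w' := by
  obtain ⟨hx, g, hg, rfl⟩ := h
  refine ⟨(g • (⟨w, hx⟩ : L)).2, ?_, fun c hc => ?_⟩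
  · rw [sqNorm_smul]
    exact hw.2.1
  · obtain ⟨h1, h2⟩ := hR c hc
    have h3 := hg c.1 h1 h2
    have h4 := smul_dot g ⟨w, hx⟩ ⟨dec c.1, h2⟩
    rw [h3] at h4
    show dotInt ((g • (⟨w, hx⟩ : L) : L) : GolayPt → ℤ) (dec c.1) = _
    have h5 := hw.2.2 c hc
    exact h4.trans h5

/-- A list is closed if it covers its class. -/
theorem closed_of_cover {R : List ℕ} {N : ℕ} {conds : List (ℕ × ℕ × ℕ)}
    (hR : ∀ c ∈ conds, c.1 ∈ R ∧ dec c.1 ∈ leechLattice) {U : Finset ℕ} (hlt : ∀ x ∈ U, x < 2 ^ 120)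
    (hcl : ∀ x ∈ U, Cl N conds (dec x)) (hc : ∀ w, Cl N conds w → ∃ x ∈ U, dec x = w) :
    ∀ x ∈ U, ∀ y, y < x → Rel (FixG R) (dec x) (dec y) → y ∈ U := by
  intro x hx y hy h
  obtain ⟨z, hz, hzy⟩ := hc _ (Cl_of_rel hR h (hcl x hx))
  have := dec_inj (hlt z hz) (hy.trans (hlt x hx)) hzy
  rwa [← this]

/-! ### Complete lists from cardinalities -/

theorem cover_of_card {U : Finset ℕ} {C : (GolayPt → ℤ) → Prop} (hcl : ∀ x ∈ U, C (dec x))
    (hlt : ∀ x ∈ U, x < 2 ^ 120) (hfin : {w | C w}.Finite) (hc : {w | C w}.ncard ≤ U.card) :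
    ∀ w, C w → ∃ x ∈ U, dec x = w := by
  classical
  have h1 : (U.image dec : Set (GolayPt → ℤ)) ⊆ {w | C w} := by
    intro w hw
    obtain ⟨x, hx, rfl⟩ := Finset.mem_coe.1 hw |> Finset.mem_image.1
    exact hcl x hx
  have h2 : (U.image dec).card = U.card := Finset.card_image_of_injOn fun a ha b hb hab =>
    dec_inj (hlt a ha) (hlt b hb) hab
  have h3 : (U.image dec : Set (GolayPt → ℤ)) = {w | C w} := by
    apply Set.eq_of_subset_of_ncard_le h1 _ hfin
    rw [Set.ncard_coe_finset, h2]
    exact hc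
  intro w hw
  have h4 : w ∈ (U.image dec : Set (GolayPt → ℤ)) := by
    rw [h3]
    exact hw
  obtain ⟨x, hx, rfl⟩ := Finset.mem_coe.1 h4 |> Finset.mem_image.1
  exact ⟨x, hx, rfl⟩

/-! ### Half systems -/

theorem cover_half {U : Finset ℕ} {C : (GolayPt → ℤ) → Prop} (hneg : ∀ w, C w → C (-w))
    (hcl : ∀ x ∈ U, C (dec x)) (hlt : ∀ x ∈ U, x < 2 ^ 120) (hhalf : ∀ x ∈ U, ∀ y ∈ U, dec x ≠ -dec y)
    (hfin : {w | C w}.Finite) (hc : {w | C w}.ncard ≤ 2 * U.card) :
    ∀ w, C w → ∃ x ∈ U, w = dec x ∨ w = -dec x := by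
  classical
  set T1 := U.image dec with hT1
  set T2 := U.image (fun x => -dec x) with hT2
  have hd : Disjoint T1 T2 := by
    rw [Finset.disjoint_left]
    intro w hw hw'
    obtain ⟨x, hx, rfl⟩ := Finset.mem_image.1 hw
    obtain ⟨y, hy, hxy⟩ := Finset.mem_image.1 hw'
    exact hhalf x hx y hy hxy.symm
  have h1 : T1.card = U.card := Finset.card_image_of_injOn fun a ha b hb hab =>
    dec_inj (hlt a ha) (hlt b hb) hab
  have h2 : T2.card = U.card := Finset.card_image_of_injOn fun a ha b hb hab =>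
    dec_inj (hlt a ha) (hlt b hb) (neg_injective hab)
  have h3 : ((T1 ∪ T2 : Finset _) : Set (GolayPt → ℤ)) ⊆ {w | C w} := by
    intro w hw
    rcases Finset.mem_union.1 (Finset.mem_coe.1 hw) with h | h
    · obtain ⟨x, hx, rfl⟩ := Finset.mem_image.1 h
      exact hcl x hx
    · obtain ⟨x, hx, rfl⟩ := Finset.mem_image.1 h
      exact hneg _ (hcl x hx)
  have h4 : ((T1 ∪ T2 : Finset _) : Set (GolayPt → ℤ)) = {w | C w} := by
    apply Set.eq_of_subset_of_ncard_le h3 _ hfin
    rw [Set.ncard_coe_finset, Finset.card_union_of_disjoint hd, h1, h2]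
    omega
  intro w hw
  have h5 : w ∈ ((T1 ∪ T2 : Finset _) : Set (GolayPt → ℤ)) := by
    rw [h4]
    exact hw
  rcases Finset.mem_union.1 (Finset.mem_coe.1 h5) with h | h
  · obtain ⟨x, hx, rfl⟩ := Finset.mem_image.1 h
    exact ⟨x, hx, Or.inl rfl⟩
  · obtain ⟨x, hx, rfl⟩ := Finset.mem_image.1 h
    exact ⟨x, hx, Or.inr rfl⟩

/-- The count of a class from a half system. -/
theorem ncard_le_of_cover {U : Finset ℕ} {C D : (GolayPt → ℤ) → Prop}
    (hc : ∀ w, C w → ∃ x ∈ U, w = dec x ∨ w = -dec x) (hD : ∀ w, D w → C w)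
    (Q1 Q2 : ℕ → Bool) (h1 : ∀ x, D (dec x) → Q1 x = true) (h2 : ∀ x, D (-dec x) → Q2 x = true) :
    {w | D w}.ncard ≤ (U.filter fun x => Q1 x = true).card + (U.filter fun x => Q2 x = true).card := by
  classical
  have h3 : {w | D w} ⊆ (((U.filter fun x => Q1 x = true).image dec ∪
      (U.filter fun x => Q2 x = true).image (fun x => -dec x) : Finset _) : Set (GolayPt → ℤ)) := by
    intro w hw
    obtain ⟨x, hx, h | h⟩ := hc w (hD w hw)
    · subst h
      exact Finset.mem_coe.2 (Finset.mem_union_left _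
        (Finset.mem_image_of_mem _ (Finset.mem_filter.2 ⟨hx, h1 x hw⟩)))
    · subst h
      exact Finset.mem_coe.2 (Finset.mem_union_right _
        (Finset.mem_image.2 ⟨x, Finset.mem_filter.2 ⟨hx, h2 x hw⟩, rfl⟩))
  refine (Set.ncard_le_ncard h3 (Finset.finite_toSet _)).trans ?_
  rw [Set.ncard_coe_finset]
  refine (Finset.card_union_le _ _).trans ?_
  exact Nat.add_le_add Finset.card_image_le Finset.card_image_le

/-! ### The group fixing a vector up to sign -/

/-- The elements sending a vector to itself or its negative. -/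
def PMG (n : ℕ) : Subgroup Co0 where
  carrier := {g | ∀ hr : dec n ∈ leechLattice,
    g • (⟨dec n, hr⟩ : L) = ⟨dec n, hr⟩ ∨ g • (⟨dec n, hr⟩ : L) = -⟨dec n, hr⟩}
  one_mem' := fun hr => Or.inl (one_smul _ _)
  mul_mem' := by
    intro a b ha hb hr
    rw [mul_smul]
    rcases hb hr with h | h <;> rw [h]
    · exact ha hr
    · rw [Lat.smul_neg]
      rcases ha hr with h' | h' <;> rw [h']
      · exact Or.inr rfl
      · exact Or.inl (neg_neg _)
  inv_mem' := by
    intro a ha hr
    rcases ha hr with h | h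
    · exact Or.inl (by rw [inv_smul_eq_iff, h])
    · right
      rw [inv_smul_eq_iff, Lat.smul_neg, h, neg_neg]

theorem opG_mem_PMG {n n' P c : ℕ} (hn : dec n' = -dec n) (hv : validOp P c = true)
    (h : (monCheck P c n n || monCheck P c n n') = true) : opG (P, c) ∈ PMG n := by
  intro hr
  rcases Bool.or_eq_true _ _ ▸ h with h | h
  · exact Or.inl (Subtype.ext (opG_of_valid hv h hr))
  · refine Or.inr (Subtype.ext ?_)
    rw [opG_of_valid hv h hr, hn]
    rfl

theorem wG_mem_PMG {n n' : ℕ} {w : List (ℕ × ℕ)} (hn : dec n' = -dec n)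
    (h : (runW w n n || runW w n n') = true) : wG w ∈ PMG n := by
  intro hr
  rcases Bool.or_eq_true _ _ ▸ h with h | h
  · exact Or.inl (Subtype.ext (wG_smul w h hr))
  · refine Or.inr (Subtype.ext ?_)
    rw [wG_smul w h hr, hn]
    rfl

/-- The class of vectors orthogonal to `n` is preserved. -/
theorem Cl_of_rel_PM {n N : ℕ} (hn : dec n ∈ leechLattice) {w w' : GolayPt → ℤ}
    (h : Rel (PMG n) w w') (hw : Cl N [(n, 0, 0)] w) : Cl N [(n, 0, 0)] w' := by
  obtain ⟨hx, g, hg, rfl⟩ := h
  have h0 : dotInt w (dec n) = 0 := by simpa using hw.2.2 (n, 0, 0) (by simp)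
  refine ⟨(g • (⟨w, hx⟩ : L)).2, ?_, fun c hc => ?_⟩
  · rw [sqNorm_smul]
    exact hw.2.1
  · have hc' : c = (n, 0, 0) := by simpa using hc
    subst hc'
    have h4 := smul_dot g ⟨w, hx⟩ ⟨dec n, hn⟩
    show dotInt ((g • (⟨w, hx⟩ : L) : L) : GolayPt → ℤ) (dec n) = _
    rcases hg hn with h | h
    · rw [h] at h4
      show _ = ((0 : ℕ) : ℤ) - ((0 : ℕ) : ℤ)
      simp only [Nat.cast_zero, sub_zero]
      exact h4.trans h0
    · rw [h] at h4
      have h5 : dotInt ((g • (⟨w, hx⟩ : L) : L) : GolayPt → ℤ) (-dec n) = dotInt w (dec n) := h4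
      rw [dotInt_neg_right, h0] at h5
      show _ = ((0 : ℕ) : ℤ) - ((0 : ℕ) : ℤ)
      simp only [Nat.cast_zero, sub_zero]
      omega

/-- A table all of whose entries satisfy a check. -/
theorem tabIn_of_check {H : Subgroup Co0} {tab NT : ℕ} {f : ℕ → ℕ → Bool}
    (hf : ∀ P c, validOp P c = true → f P c = true → opG (P, c) ∈ H)
    (h : allUpTo (fun i => validOp (tabP tab i) (tabC tab i) && f (tabP tab i) (tabC tab i)) NT = true) :
    TabIn H tab NT := by
  intro i hi
  have := allUpTo_iff.1 h i hi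
  simp only [Bool.and_eq_true] at this
  exact ⟨this.1, hf _ _ this.1 this.2⟩

end Cfsg.Agent.Lib.Leech.Cert
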