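import Cfsg.Agent.Lib.Leech.OutCo1Norm
import Cfsg.Agent.Lib.Leech.Cert
import Cfsg.Agent.Lib.Golay.Stab
import Cfsg.Agent.Lib.Leech.C2iSp

/-!
# Data for the centraliser of an involution in the stabiliser of a minimal vector

The involution is the sign change on the complement of an octad through the two points of the minimal vector.
The numbers `rn k` store representatives of the 63 pairs of minimal vectors supported on the octad and orthogonal
to the given one, so that the inner products modulo 32 give the standard form on the binary digits of `k`.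
-/

set_option autoImplicit false

namespace Cfsg.Agent.Lib.Leech.C2iData

open Cfsg Cfsg.Agent.Lib.Golay.Core Cfsg.Agent.Lib.Golay.Perm Cfsg.Agent.Lib.Golay.M24
  Cfsg.Agent.Lib.Leech.Vec Cfsg.Agent.Lib.Leech.Cert Cfsg.Agent.Lib.Leech.Word
open Cfsg.Agent.Lib.PermComp

/-- The complement of the octad. -/
def Oc : ℕ := 8241104

/-- The packed representatives. -/
def repB : ℕ := 369034986067204265390349369444984429073142804866492259604155861996258090067279811652503854441474527051645145628659995742544274254450234945495416492157161440252819482219108855408101398375983634244586660213809942775159042947052207737265439437240062329190460635272880392616060400382247197167349038611471081657437976217931914929983362497318452572618588670650026555468153444927444514374381514520170098773603667530762304334338900885293437786808769088503734832763495606187603994207546510901650978636165672970770651779649075699452570461287747653123073345363865341685937035602841218957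5746582500089250859470399627239672514068284393166608201000537651237446138730800644464601131021584946171004176174838060841870537474934151830291899060583059374573271892692559661452416564541993314615116949557563624964273771259072502860058106179145573201076723782193667407869651166038381913534532482930662005109532603642470213765992961357283508044145967318323108977336231691890653650193298945257365123962517737938022146038697023400370797180038206943867606867063016205711133615457007470997980869713328457792945185324614410230033770171362608127671200417772851621049115065811202678165680579494157397573152627935253862340084130047788693316774028377915711773516107310768246997930299667751044126211561765175274940807535945004743997616874153618485512744512245142578292192447738346195130845314685420490282658881588163040845668933436842280505225606462904235124942385566556753874392816103699144057309301306005883254945327296053163308166193273023649887659993845274832856660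4535292845215561864673218477946863265165418029174285172264727767842126524838503623395772048407659602464044626454991868986401394306139760475245143511431129682253034759565361231026111470834041903521272159491218957342374492749724701172051076323984316478342659892117566282088430100477919025173629790688974101635878515582245525510460761711212837610528414280861955012896832170002012969972077407148400176415156050329030677885518793631570068917871334929116445361370346535621800405133190124473187835966571704375082514829862243209338176753724441242389949305945404785428053221515726723231747103769976864317698292087610290617738620670928033482025202654807748270095480419994341107264925150666733273609876264666831457258536335953431792954597345673868534305690424634943964907524916468072858128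

def maskL120 : ℕ := 1329227995784915872903807060280344575

/-- A representative. -/
def rn (k : ℕ) : ℕ := Nat.land (Nat.shiftRight repB (Nat.mul 120 k)) maskL120

/-- The opposite of a representative. -/
def rm (k : ℕ) : ℕ := Nat.sub (Nat.mul 2 nZero) (rn k)

/-- The 32 words of the code disjoint from the octad. -/
def Dl : List ℕ := [0, 6889680, 4038912, 5538256, 832080, 6656640, 3216208, 5780352, 6100032, 3421328, 6337856, 628112, 5350928, 3704512, 7079696, 337856, 7903248, 1161408, 4536592, 2890176, 7612992, 1903248, 4819776, 2141072, 2460752, 5024896, 1584464, 7409024, 2702848, 4202192, 1351424, 8241104]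

/-- A permutation sending the base to the six other points of the octad. -/
def Pm : ℕ := 725975081660563694564118527646700995

/-- Word of the first generator. -/
def w1 : List (ℕ × ℕ) := [(20221884795850722430336043065579063, 4819776)]

/-- Word of the second generator. -/
def w2 : List (ℕ × ℕ) := [(0, 0), (108122168966966670611841106225597623, 12897522), (0, 0)]

def c2c_n : Nat := nat_lit 64
def c2c_w : Nat := nat_lit 6
def c2c_mask : Nat := nat_lit 63
def c2c_L : Nat := nat_lit 384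
def c2c_maskL : Nat := nat_lit 0xffffffffffffffffffffffffffffffffffffffffffffffffffffffffffffffffffffffffffffffffffffffffffffffff
def c2c_idc : Nat := nat_lit 0xffef7cefae78df6d74cf2c70beeb6caeaa689e69648e28607de75c6da6585d65544d24503ce34c2ca2481c61440c2040
def c2c_T : List Nat := [nat_lit 0xaabe3938f71dc318a35151877de34cefaa681445d6860cf261928bf3dbaf0834119a7d35b6cffe2486dadf69644d2040, nat_lit 0x4ed7a0998ad5c0ef4317b23627713af02c4fa949d97e14acfc1c8c2b41f972246fa5791a95ba1642e7631b82f5ccdf80]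
def c2c_prog : List (Nat × Nat × Nat) := [(nat_lit 1, nat_lit 1, nat_lit 0), (nat_lit 1, nat_lit 1, nat_lit 0), (nat_lit 0, nat_lit 3, nat_lit 3), (nat_lit 0, nat_lit 0, nat_lit 3), (nat_lit 0, nat_lit 0, nat_lit 4), (nat_lit 0, nat_lit 0, nat_lit 6), (nat_lit 0, nat_lit 0, nat_lit 7), (nat_lit 0, nat_lit 0, nat_lit 7), (nat_lit 0, nat_lit 0, nat_lit 8), (nat_lit 0, nat_lit 0, nat_lit 10), (nat_lit 0, nat_lit 0, nat_lit 11), (nat_lit 0, nat_lit 0, nat_lit 11), (nat_lit 0, nat_lit 0, nat_lit 12), (nat_lit 0, nat_lit 11, nat_lit 11), (nat_lit 0, nat_lit 0, nat_lit 1), (nat_lit 0, nat_lit 15, nat_lit 16), (nat_lit 0, nat_lit 0, nat_lit 17), (nat_lit 0, nat_lit 0, nat_lit 17), (nat_lit 0, nat_lit 0, nat_lit 19), (nat_lit 0, nat_lit 0, nat_lit 20), (nat_lit 0, nat_lit 19, nat_lit 19), (nat_lit 0, nat_lit 0, nat_lit 20), (nat_lit 0, nat_lit 0, nat_lit 21), (nat_lit 0, nat_lit 0, nat_lit 3), (nat_lit 0, nat_lit 24, nat_lit 24), (nat_lit 0, nat_lit 0,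 nat_lit 25), (nat_lit 0, nat_lit 0, nat_lit 26), (nat_lit 0, nat_lit 0, nat_lit 28), (nat_lit 0, nat_lit 0, nat_lit 28), (nat_lit 0, nat_lit 0, nat_lit 30), (nat_lit 0, nat_lit 0, nat_lit 31), (nat_lit 0, nat_lit 0, nat_lit 32), (nat_lit 0, nat_lit 0, nat_lit 32), (nat_lit 0, nat_lit 32, nat_lit 31), (nat_lit 0, nat_lit 0, nat_lit 32), (nat_lit 0, nat_lit 0, nat_lit 33), (nat_lit 0, nat_lit 0, nat_lit 35), (nat_lit 0, nat_lit 0, nat_lit 36), (nat_lit 0, nat_lit 0, nat_lit 37), (nat_lit 0, nat_lit 0, nat_lit 6), (nat_lit 1, nat_lit 25, nat_lit 0), (nat_lit 1, nat_lit 17, nat_lit 0), (nat_lit 1, nat_lit 2, nat_lit 0), (nat_lit 0, nat_lit 28, nat_lit 3), (nat_lit 0, nat_lit 0, nat_lit 20), (nat_lit 0, nat_lit 0, nat_lit 5), (nat_lit 0, nat_lit 0, nat_lit 22), (nat_lit 0, nat_lit 0, nat_lit 23), (nat_lit 0, nat_lit 0, nat_lit 8), (nat_lit 0, nat_lit 0, nat_lit 25), (nat_lit 0, nat_lit 9, nat_lit 9), (nat_lit 0, nat_lit 0, nat_lit 10), (nat_lit 0, nat_lit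 0, nat_lit 9), (nat_lit 0, nat_lit 0, nat_lit 3), (nat_lit 0, nat_lit 14, nat_lit 14), (nat_lit 0, nat_lit 0, nat_lit 15), (nat_lit 0, nat_lit 0, nat_lit 32), (nat_lit 0, nat_lit 0, nat_lit 17), (nat_lit 0, nat_lit 0, nat_lit 43), (nat_lit 0, nat_lit 0, nat_lit 35), (nat_lit 0, nat_lit 0, nat_lit 20), (nat_lit 0, nat_lit 0, nat_lit 46), (nat_lit 0, nat_lit 21, nat_lit 20), (nat_lit 0, nat_lit 0, nat_lit 22), (nat_lit 0, nat_lit 0, nat_lit 2), (nat_lit 0, nat_lit 41, nat_lit 25), (nat_lit 0, nat_lit 0, nat_lit 42), (nat_lit 0, nat_lit 0, nat_lit 27), (nat_lit 0, nat_lit 0, nat_lit 28), (nat_lit 0, nat_lit 0, nat_lit 29), (nat_lit 0, nat_lit 28, nat_lit 0), (nat_lit 0, nat_lit 27, nat_lit 31), (nat_lit 0, nat_lit 0, nat_lit 48), (nat_lit 0, nat_lit 0, nat_lit 49), (nat_lit 0, nat_lit 0, nat_lit 59), (nat_lit 0, nat_lit 0, nat_lit 60), (nat_lit 0, nat_lit 35, nat_lit 33), (nat_lit 0, nat_lit 0, nat_lit 1), (nat_lit 0, nat_lit 54, nat_lit 63), (nat_lit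 0, nat_lit 0, nat_lit 55), (nat_lit 0, nat_lit 0, nat_lit 65), (nat_lit 0, nat_lit 0, nat_lit 57), (nat_lit 0, nat_lit 0, nat_lit 67), (nat_lit 0, nat_lit 0, nat_lit 68), (nat_lit 0, nat_lit 0, nat_lit 60), (nat_lit 0, nat_lit 0, nat_lit 61), (nat_lit 0, nat_lit 0, nat_lit 62), (nat_lit 0, nat_lit 0, nat_lit 72), (nat_lit 0, nat_lit 46, nat_lit 45), (nat_lit 0, nat_lit 0, nat_lit 46), (nat_lit 0, nat_lit 0, nat_lit 48), (nat_lit 0, nat_lit 0, nat_lit 3), (nat_lit 1, nat_lit 38, nat_lit 0), (nat_lit 1, nat_lit 22, nat_lit 0), (nat_lit 1, nat_lit 16, nat_lit 0), (nat_lit 1, nat_lit 3, nat_lit 0), (nat_lit 0, nat_lit 42, nat_lit 18), (nat_lit 0, nat_lit 0, nat_lit 5), (nat_lit 0, nat_lit 0, nat_lit 27), (nat_lit 0, nat_lit 4, nat_lit 4), (nat_lit 0, nat_lit 0, nat_lit 1), (nat_lit 0, nat_lit 9, nat_lit 9), (nat_lit 0, nat_lit 0, nat_lit 37), (nat_lit 0, nat_lit 0, nat_lit 49), (nat_lit 0, nat_lit 0, nat_lit 33), (nat_lit 0, nat_lit 0, nat_lit 51),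 (nat_lit 0, nat_lit 0, nat_lit 52), (nat_lit 0, nat_lit 0, nat_lit 53), (nat_lit 0, nat_lit 12, nat_lit 14), (nat_lit 0, nat_lit 0, nat_lit 1), (nat_lit 0, nat_lit 18, nat_lit 56), (nat_lit 0, nat_lit 0, nat_lit 46), (nat_lit 0, nat_lit 0, nat_lit 34), (nat_lit 0, nat_lit 0, nat_lit 42), (nat_lit 0, nat_lit 0, nat_lit 22), (nat_lit 0, nat_lit 0, nat_lit 44), (nat_lit 0, nat_lit 0, nat_lit 51), (nat_lit 0, nat_lit 0, nat_lit 63), (nat_lit 0, nat_lit 0, nat_lit 47), (nat_lit 0, nat_lit 0, nat_lit 48), (nat_lit 0, nat_lit 0, nat_lit 49), (nat_lit 0, nat_lit 25, nat_lit 0), (nat_lit 0, nat_lit 57, nat_lit 44), (nat_lit 0, nat_lit 0, nat_lit 45), (nat_lit 0, nat_lit 0, nat_lit 32), (nat_lit 0, nat_lit 0, nat_lit 47), (nat_lit 0, nat_lit 0, nat_lit 34), (nat_lit 0, nat_lit 0, nat_lit 35), (nat_lit 0, nat_lit 0, nat_lit 74), (nat_lit 0, nat_lit 0, nat_lit 37), (nat_lit 0, nat_lit 0, nat_lit 38), (nat_lit 0, nat_lit 31, nat_lit 0), (nat_lit 0, nat_lit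 61, nat_lit 67), (nat_lit 0, nat_lit 0, nat_lit 62), (nat_lit 0, nat_lit 0, nat_lit 56), (nat_lit 0, nat_lit 0, nat_lit 64), (nat_lit 0, nat_lit 0, nat_lit 44), (nat_lit 0, nat_lit 0, nat_lit 66), (nat_lit 0, nat_lit 0, nat_lit 46), (nat_lit 0, nat_lit 0, nat_lit 68), (nat_lit 0, nat_lit 0, nat_lit 86), (nat_lit 0, nat_lit 48, nat_lit 0), (nat_lit 0, nat_lit 64, nat_lit 88), (nat_lit 0, nat_lit 0, nat_lit 65), (nat_lit 0, nat_lit 0, nat_lit 52), (nat_lit 0, nat_lit 0, nat_lit 53), (nat_lit 0, nat_lit 0, nat_lit 81), (nat_lit 0, nat_lit 0, nat_lit 93), (nat_lit 0, nat_lit 0, nat_lit 77), (nat_lit 0, nat_lit 0, nat_lit 71), (nat_lit 0, nat_lit 54, nat_lit 0), (nat_lit 1, nat_lit 50, nat_lit 0), (nat_lit 1, nat_lit 42, nat_lit 0), (nat_lit 1, nat_lit 2, nat_lit 0), (nat_lit 0, nat_lit 22, nat_lit 12), (nat_lit 0, nat_lit 0, nat_lit 13), (nat_lit 0, nat_lit 0, nat_lit 34), (nat_lit 0, nat_lit 0, nat_lit 47), (nat_lit 0, nat_lit 0, nat_lit 36), (nat_lit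 0, nat_lit 0, nat_lit 49), (nat_lit 0, nat_lit 0, nat_lit 38), (nat_lit 0, nat_lit 9, nat_lit 7), (nat_lit 0, nat_lit 0, nat_lit 1), (nat_lit 0, nat_lit 41, nat_lit 41), (nat_lit 0, nat_lit 0, nat_lit 32), (nat_lit 0, nat_lit 0, nat_lit 64), (nat_lit 0, nat_lit 0, nat_lit 65), (nat_lit 0, nat_lit 0, nat_lit 25), (nat_lit 0, nat_lit 0, nat_lit 17), (nat_lit 0, nat_lit 0, nat_lit 18), (nat_lit 0, nat_lit 8, nat_lit 0), (nat_lit 0, nat_lit 61, nat_lit 29), (nat_lit 0, nat_lit 0, nat_lit 62), (nat_lit 0, nat_lit 0, nat_lit 22), (nat_lit 0, nat_lit 0, nat_lit 52), (nat_lit 0, nat_lit 0, nat_lit 65), (nat_lit 0, nat_lit 0, nat_lit 54), (nat_lit 0, nat_lit 0, nat_lit 67), (nat_lit 0, nat_lit 25, nat_lit 0), (nat_lit 1, nat_lit 8, nat_lit 0), (nat_lit 0, nat_lit 1, nat_lit 1), (nat_lit 0, nat_lit 0, nat_lit 2), (nat_lit 0, nat_lit 0, nat_lit 19), (nat_lit 0, nat_lit 0, nat_lit 20), (nat_lit 0, nat_lit 0, nat_lit 5), (nat_lit 0, nat_lit 0, nat_lit 14),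 (nat_lit 0, nat_lit 0, nat_lit 15), (nat_lit 0, nat_lit 0, nat_lit 8), (nat_lit 0, nat_lit 0, nat_lit 25), (nat_lit 0, nat_lit 9, nat_lit 0)]
def c2c_s0 : Nat := nat_lit 0xaabe3938f71dc318a35151877de34cefaa681445d6860cf261928bf3dbaf0834119a7d35b6cffe2486dadf69644d2040
def c2c_s1 : Nat := nat_lit 0xf79ffbd71df36df65d4d7455a6daef8658e73cb3491c3141f38fbad30db269e61c496414a2caae8248a638a308182100
def c2c_s2 : Nat := nat_lit 0xfbff3d61969bd35db7493411aeaa6834c3ce8608e21c6144ebbe3971d79fc31cb3597515beeb6c2482ca9649e60c2040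
def c2c_s3 : Nat := nat_lit 0xffef7cefae78d35db7c31cb3b2dbafa29aab9e69648e28607de75c6da65851559741149330d38f20928b1c61440c2040
def c2c_s4 : Nat := nat_lit 0xe78efaf7cffed35db7c31cb3b6cbeea68aea8218a39259a779f71d69b6194d24505d655428b20938f30d1c61440c2040
def c2c_s5 : Nat := nat_lit 0xebbe39fbff3dcf2c70df6d74b2dbafa29aab9649e68608e261969b71d79f4504d25545d638f30d28b2091c61440c2040
def c2c_s6 : Nat := nat_lit 0xe78efaf7cffec70cf2d74df6b6cbeea68aea9649e68608e26da6587de75c4d24505d65543ce34c2ca2481c61440c2040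
def c2c_s7 : Nat := nat_lit 0xffef7cefae78df6d74cf2c70a68aeab6cbee8608e29649e66586da75c7de4504d25545d63ce34c2ca2481c61440c2040
def c2c_s8 : Nat := nat_lit 0xefae78ffef7ccf2c70df6d74aeaa68beeb6c8e28609e69647de75c6da6585d65544d24503ce34c2ca2481c61440c2040
noncomputable def c2c_lev0 : Core.Lev := Core.mkLev c2c_n c2c_w c2c_mask c2c_L c2c_maskL c2c_idc (nat_lit 2) [c2c_s8, c2c_s6, c2c_s7, c2c_s3, c2c_s4, c2c_s5, c2c_s2, c2c_s1, c2c_s0] [(nat_lit 18, c2c_s0, nat_lit 2), (nat_lit 22, c2c_s6, nat_lit 18), (nat_lit 20, c2c_s7, nat_lit 18), (nat_lit 17, c2c_s3, nat_lit 18), (nat_lit 23, c2c_s2, nat_lit 18), (nat_lit 39, c2c_s0, nat_lit 18), (nat_lit 16, c2c_s7, nat_lit 22), (nat_lit 21, c2c_s3, nat_lit 22), (nat_lit 49, c2c_s2, nat_lit 22), (nat_lit 30, c2c_s1, nat_lit 22), (nat_lit 3, c2c_s0, nat_lit 22), (nat_lit 51, c2c_s2, nat_lit 20), (nat_lit 28, c2c_s1, nat_lit 20), (nat_lit 52, c2c_s0, nat_lit 17), (nat_lit 19, c2c_s6, nat_lit 23), (nat_lit 48,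 c2c_s2, nat_lit 23), (nat_lit 26, c2c_s1, nat_lit 23), (nat_lit 35, c2c_s8, nat_lit 39), (nat_lit 37, c2c_s6, nat_lit 39), (nat_lit 33, c2c_s7, nat_lit 39), (nat_lit 32, c2c_s4, nat_lit 39), (nat_lit 15, c2c_s1, nat_lit 39), (nat_lit 5, c2c_s0, nat_lit 39), (nat_lit 53, c2c_s0, nat_lit 16), (nat_lit 50, c2c_s2, nat_lit 21), (nat_lit 24, c2c_s1, nat_lit 21), (nat_lit 55, c2c_s6, nat_lit 49), (nat_lit 6, c2c_s0, nat_lit 49), (nat_lit 31, c2c_s4, nat_lit 30), (nat_lit 25, c2c_s5, nat_lit 30), (nat_lit 59, c2c_s2, nat_lit 30), (nat_lit 56, c2c_s1, nat_lit 30), (nat_lit 29, c2c_s4, nat_lit 28), (nat_lit 27, c2c_s5, nat_lit 28), (nat_lit 57, c2c_s2, nat_lit 28), (nat_lit 58, c2c_s1, nat_lit 28), (nat_lit 11, c2c_s0, nat_lit 28), (nat_lit 38, c2c_s0, nat_lit 19), (nat_lit 54, c2c_s6, nat_lit 48), (nat_lit 7, c2c_s0, nat_lit 48), (nat_lit 61, c2c_s0, nat_lit 26), (nat_lit 36, c2c_s4, nat_lit 35), (nat_lit 34, c2c_s4, nat_lit 37), (nat_lit 13, c2c_s1, nat_lit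 37), (nat_lit 4, c2c_s2, nat_lit 32), (nat_lit 1, c2c_s1, nat_lit 32), (nat_lit 12, c2c_s3, nat_lit 15), (nat_lit 10, c2c_s4, nat_lit 15), (nat_lit 14, c2c_s5, nat_lit 15), (nat_lit 47, c2c_s2, nat_lit 15), (nat_lit 40, c2c_s1, nat_lit 15), (nat_lit 45, c2c_s0, nat_lit 15), (nat_lit 60, c2c_s1, nat_lit 31), (nat_lit 46, c2c_s0, nat_lit 25), (nat_lit 63, c2c_s8, nat_lit 59), (nat_lit 62, c2c_s5, nat_lit 59), (nat_lit 8, c2c_s3, nat_lit 11), (nat_lit 9, c2c_s2, nat_lit 11), (nat_lit 42, c2c_s1, nat_lit 13), (nat_lit 44, c2c_s2, nat_lit 12), (nat_lit 43, c2c_s8, nat_lit 47), (nat_lit 41, c2c_s7, nat_lit 47)]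
noncomputable def c2c_lev1 : Core.Lev := Core.mkLev c2c_n c2c_w c2c_mask c2c_L c2c_maskL c2c_idc (nat_lit 1) [c2c_s8, c2c_s6, c2c_s7, c2c_s3, c2c_s4, c2c_s5, c2c_s2, c2c_s1] [(nat_lit 4, c2c_s1, nat_lit 1), (nat_lit 38, c2c_s2, nat_lit 4), (nat_lit 8, c2c_s1, nat_lit 4), (nat_lit 34, c2c_s8, nat_lit 38), (nat_lit 36, c2c_s6, nat_lit 38), (nat_lit 32, c2c_s7, nat_lit 38), (nat_lit 33, c2c_s4, nat_lit 38), (nat_lit 11, c2c_s1, nat_lit 38), (nat_lit 13, c2c_s4, nat_lit 8), (nat_lit 9, c2c_s5, nat_lit 8), (nat_lit 10, c2c_s2, nat_lit 8), (nat_lit 37, c2c_s4, nat_lit 34), (nat_lit 6, c2c_s2, nat_lit 34), (nat_lit 3, c2c_s1, nat_lit 34), (nat_lit 35, c2c_s4, nat_lit 36), (nat_lit 39, c2c_s4, nat_lit 32), (nat_lit 5, c2c_s2, nat_lit 33), (nat_lit 14, c2c_s4, nat_lit 11), (nat_lit 12, c2c_s5, nat_lit 13), (nat_lit 45, c2c_s2, nat_lit 13), (nat_lit 42, c2c_s1, nat_lit 13), (nat_lit 15, c2c_s4, nat_lit 10), (nat_lit 7, c2c_s2, nat_lit 35), (nat_lit 46, c2c_s2,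 nat_lit 14), (nat_lit 44, c2c_s1, nat_lit 14), (nat_lit 41, c2c_s8, nat_lit 45), (nat_lit 47, c2c_s6, nat_lit 45), (nat_lit 43, c2c_s7, nat_lit 45), (nat_lit 40, c2c_s6, nat_lit 42)]
noncomputable def c2c_lev2 : Core.Lev := Core.mkLev c2c_n c2c_w c2c_mask c2c_L c2c_maskL c2c_idc (nat_lit 4) [c2c_s8, c2c_s6, c2c_s7, c2c_s3, c2c_s4, c2c_s5, c2c_s2] [(nat_lit 38, c2c_s2, nat_lit 4), (nat_lit 34, c2c_s8, nat_lit 38), (nat_lit 36, c2c_s6, nat_lit 38), (nat_lit 32, c2c_s7, nat_lit 38), (nat_lit 33, c2c_s4, nat_lit 38), (nat_lit 37, c2c_s4, nat_lit 34), (nat_lit 6, c2c_s2, nat_lit 34), (nat_lit 35, c2c_s4, nat_lit 36), (nat_lit 39, c2c_s4, nat_lit 32), (nat_lit 5, c2c_s2, nat_lit 33), (nat_lit 7, c2c_s2, nat_lit 35)]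
noncomputable def c2c_lev3 : Core.Lev := Core.mkLev c2c_n c2c_w c2c_mask c2c_L c2c_maskL c2c_idc (nat_lit 8) [c2c_s8, c2c_s6, c2c_s7, c2c_s3, c2c_s4, c2c_s5] [(nat_lit 11, c2c_s3, nat_lit 8), (nat_lit 13, c2c_s4, nat_lit 8), (nat_lit 9, c2c_s5, nat_lit 8), (nat_lit 14, c2c_s4, nat_lit 11), (nat_lit 10, c2c_s5, nat_lit 11), (nat_lit 12, c2c_s5, nat_lit 13), (nat_lit 15, c2c_s5, nat_lit 14)]
noncomputable def c2c_lev4 : Core.Lev := Core.mkLev c2c_n c2c_w c2c_mask c2c_L c2c_maskL c2c_idc (nat_lit 16) [c2c_s8, c2c_s6, c2c_s7] [(nat_lit 20, c2c_s6, nat_lit 16), (nat_lit 22, c2c_s7, nat_lit 16), (nat_lit 18, c2c_s7, nat_lit 20)]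
noncomputable def c2c_lev5 : Core.Lev := Core.mkLev c2c_n c2c_w c2c_mask c2c_L c2c_maskL c2c_idc (nat_lit 32) [c2c_s8] [(nat_lit 36, c2c_s8, nat_lit 32)]
noncomputable def c2c_levels : List Core.Lev := [c2c_lev0, c2c_lev1, c2c_lev2, c2c_lev3, c2c_lev4, c2c_lev5]

set_option maxRecDepth 100000 in
theorem c2c_check : Core.checkAll c2c_n c2c_w c2c_mask c2c_L c2c_maskL c2c_idc c2c_T c2c_prog
    c2c_levels = true := by decide +kernel

theorem c2c_order : Core.orderC c2c_levels = 1451520 := by decide +kernel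

end Cfsg.Agent.Lib.Leech.C2iData
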