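import Cfsg.Agent.Lib.Leech.Packed
import Cfsg.Agent.Lib.Golay.Stab

/-!
# The centre of `Co0`
-/

set_option autoImplicit false

namespace Cfsg.Agent.Lib.Leech.Center

open Cfsg Cfsg.Agent.Lib.Golay.Core Cfsg.Agent.Lib.Golay.Perm Cfsg.Agent.Lib.Leech.Lat
  Cfsg.Agent.Lib.Leech.Mon Cfsg.Agent.Lib.Leech.Packed

theorem negG_ne_one : negG ≠ 1 := by
  intro h
  have h1 : negG • e8L none = (1 : Co0) • e8L none := by rw [h]
  have h2 := congrFun (congrArg Subtype.val h1) none
  have h3 : ((negG • e8L none : L) : GolayPt → ℤ) none = - 8 := by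
    simp [e8L, e8]
  have h4 : (((1 : Co0) • e8L none : L) : GolayPt → ℤ) none = 8 := by
    simp [e8L, e8]
  rw [h3, h4] at h2
  norm_num at h2

theorem negG_mem_center : negG ∈ Subgroup.center Co0 := by
  rw [Subgroup.mem_center_iff]
  exact fun g => (negG_central g).symm

/-- The code separates points. -/
theorem code_separates : ∀ i < 24, ∀ j < 24, i ≠ j →
    ∃ m < 4096, (code m).testBit j = true ∧ (code m).testBit i = false := by
  have h : allUpTo (fun i => allUpTo (fun j =>
      cond (Nat.beq i j) true (!(allUpTo (fun m =>
        !((code m).testBit j && !(code m).testBit i)) 4096))) 24) 24 = true := by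
    decide +kernel
  intro i hi j hj hij
  have h1 := allUpTo_iff.1 (allUpTo_iff.1 h i hi) j hj
  have h2 : Nat.beq i j = false := by
    cases hh : Nat.beq i j with
    | false => rfl
    | true => exact absurd (Nat.eq_of_beq_eq_true hh) hij
  rw [h2] at h1
  simp only [cond_false, Bool.not_eq_true', Bool.not_eq_eq_eq_not, Bool.not_true] at h1
  by_contra hcon
  have h3 : allUpTo (fun m => !((code m).testBit j && !(code m).testBit i)) 4096 = true := by
    apply allUpTo_iff.2
    intro m hm
    by_contra h4
    apply hcon
    refine ⟨m, hm, ?_⟩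
    simpa using h4
  rw [h3] at h1
  exact Bool.noConfusion h1

/-- A central element sends `8 e_i` to `±8 e_i`. -/
theorem central_single {g : Co0} (hg : g ∈ Subgroup.center Co0) (i : GolayPt) :
    ∃ s : ℤ, (s = 8 ∨ s = -8) ∧ ((g • e8L i : L) : GolayPt → ℤ) = Pi.single i s := by
  have hz : ∀ j, j ≠ i → ((g • e8L i : L) : GolayPt → ℤ) j = 0 := by
    intro j hj
    have hji : idx i ≠ idx j := fun h => hj (idx_injective h).symm
    obtain ⟨m, hm, h1, h2⟩ := code_separates (idx i) (idx_lt i) (idx j) (idx_lt j) hji
    let h : Co0 := monG 1 (Subgroup.one_mem _) (setOf (code m)) (setOf_code_mem hm)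
    have hc : h * g = g * h := (Subgroup.mem_center_iff.1 hg h)
    have h3 : h • e8L i = e8L i := by
      apply Subtype.ext
      show signedPerm 1 (setOf (code m)) (e8 i) = e8 i
      unfold e8
      rw [signedPerm_single]
      have : i ∉ setOf (code m) := by
        rw [mem_setOf, h2]
        simp
      simp [this]
    have h4 : h • (g • e8L i) = g • e8L i := by
      calc h • (g • e8L i) = (h * g) • e8L i := rfl
        _ = (g * h) • e8L i := by rw [hc]
        _ = g • (h • e8L i) := rfl
        _ = g • e8L i := by rw [h3]
    have h5 := congrFun (congrArg Subtype.val h4) j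
    have h6 : ((h • (g • e8L i) : L) : GolayPt → ℤ) j =
        signedPerm 1 (setOf (code m)) ((g • e8L i : L) : GolayPt → ℤ) j := rfl
    rw [h6, signedPerm_apply] at h5
    have h7 : j ∈ setOf (code m) := by
      rw [mem_setOf, h1]
    rw [if_pos h7] at h5
    have h8 : (1 : Equiv.Perm GolayPt).symm j = j := rfl
    rw [h8] at h5
    omega
  have hn := smul_sqNorm g (e8L i)
  have h1 : sqNorm (e8L i : GolayPt → ℤ) = 64 := by
    show sqNorm (e8 i) = 64
    unfold sqNorm e8
    rw [Finset.sum_eq_single i]
    · simp
    · intro b _ hb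
      simp [Pi.single_eq_of_ne hb]
    · simp
  have h2 : sqNorm ((g • e8L i : L) : GolayPt → ℤ) = ((g • e8L i : L) : GolayPt → ℤ) i ^ 2 := by
    unfold sqNorm
    rw [Finset.sum_eq_single i]
    · intro b _ hb
      rw [hz b hb]
      norm_num
    · simp
  rw [h1, h2] at hn
  refine ⟨((g • e8L i : L) : GolayPt → ℤ) i, ?_, ?_⟩
  · have h3 : (((g • e8L i : L) : GolayPt → ℤ) i - 8) * (((g • e8L i : L) : GolayPt → ℤ) i + 8) = 0 := by
      ring_nf
      rw [hn]
      norm_num
    rcases mul_eq_zero.1 h3 with h4 | h4
    · left; omega
    · right; omega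
  · funext j
    by_cases hj : j = i
    · subst hj
      simp
    · rw [hz j hj, Pi.single_eq_of_ne hj]

/-- The centre of `Co0` is `{1, -1}`. -/
theorem mem_center_iff {g : Co0} : g ∈ Subgroup.center Co0 ↔ g = 1 ∨ g = negG := by
  constructor
  · intro hg
    choose s hs hgs using central_single hg
    -- the signs are constant
    have hconst : ∀ i j, s i = s j := by
      intro i j
      obtain ⟨τ, hτ, hij⟩ := Cfsg.Agent.Lib.Golay.Stab.exists_map_one i j
      let h : Co0 := monG τ hτ ∅ ⟨0, Submodule.zero_mem _, by ext; simp [support₂]⟩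
      have hc : h * g = g * h := (Subgroup.mem_center_iff.1 hg h)
      have h1 : h • e8L i = e8L j := by
        apply Subtype.ext
        show signedPerm τ ∅ (e8 i) = e8 j
        unfold e8
        rw [signedPerm_single, hij]
        simp
      have h2 : h • (g • e8L i) = g • e8L j := by
        calc h • (g • e8L i) = (h * g) • e8L i := rfl
          _ = (g * h) • e8L i := by rw [hc]
          _ = g • (h • e8L i) := rfl
          _ = g • e8L j := by rw [h1]
      have h3 := congrArg (Subtype.val) h2
      have h4 : ((h • (g • e8L i) : L) : GolayPt → ℤ) =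
          signedPerm τ ∅ ((g • e8L i : L) : GolayPt → ℤ) := rfl
      rw [h4, hgs i, hgs j, signedPerm_single, hij] at h3
      simpa using h3
    have hall : ∀ v : L, (8 : ℤ) • (g • v) = (s none / 8) • ((8 : ℤ) • v) := by
      intro v
      have h1 : (8 : ℤ) • (g • v) = ∑ i, (v.1 i) • (g • e8L i) := by
        rw [← smul_zsmul, eight_nsmul_eq_sum v]
        have := map_sum (toHom g) (fun i => (v.1 i) • e8L i) Finset.univ
        simp only [toHom_apply, smul_zsmul] at this
        exact this
      have h2 : ∀ i, g • e8L i = (s none / 8) • e8L i := by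
        intro i
        apply Subtype.ext
        rw [show (((s none / 8) • e8L i : L) : GolayPt → ℤ) = (s none / 8) • e8 i from rfl, hgs i,
          hconst i none]
        unfold e8
        rw [← Pi.single_smul]
        congr 1
        rcases hs none with h | h <;> rw [h] <;> norm_num
      rw [h1, eight_nsmul_eq_sum v, Finset.smul_sum]
      refine Finset.sum_congr rfl fun i _ => ?_
      rw [h2 i, smul_comm]
    rcases hs none with h | h
    · left
      apply ext_smul
      intro v
      have := hall v
      rw [h] at this
      norm_num at this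
      exact this
    · right
      apply ext_smul
      intro v
      have := hall v
      rw [h] at this
      norm_num at this
      apply Subtype.ext
      funext j
      have h3 := congrFun (congrArg Subtype.val this) j
      have h4 : ((8 : ℤ) • (g • v) : L).1 j = 8 * ((g • v : L) : GolayPt → ℤ) j := rfl
      have h5 : (-((8 : ℤ) • v) : L).1 j = - (8 * v.1 j) := rfl
      rw [h4, h5] at h3
      show ((g • v : L) : GolayPt → ℤ) j = - v.1 j
      omega
  · rintro (rfl | rfl)
    · exact Subgroup.one_mem _
    · exact negG_mem_center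

theorem card_center : Nat.card (Subgroup.center Co0) = 2 := by
  have h : ((Subgroup.center Co0 : Subgroup Co0) : Set Co0) = {1, negG} := by
    ext g
    simp only [SetLike.mem_coe, mem_center_iff, Set.mem_insert_iff, Set.mem_singleton_iff]
  rw [show Nat.card (Subgroup.center Co0) = Nat.card ((Subgroup.center Co0 : Subgroup Co0) : Set Co0) from rfl,
    Nat.card_coe_set_eq, h, Set.ncard_pair (Ne.symm negG_ne_one)]

end Cfsg.Agent.Lib.Leech.Center
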