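import Cfsg.Agent.Lib.Leech.CertB16x0
import Cfsg.Agent.Lib.Leech.CertB8x0
import Cfsg.Agent.Lib.Leech.CertB8x1
import Cfsg.Agent.Lib.Leech.CertB8x2
import Cfsg.Agent.Lib.Leech.CertB8x3
import Cfsg.Agent.Lib.Leech.CertB8x4
import Cfsg.Agent.Lib.Leech.CertB0x0
import Cfsg.Agent.Lib.Leech.CertB0x1
import Cfsg.Agent.Lib.Leech.CertB0x2
import Cfsg.Agent.Lib.Leech.CertB0x3
import Cfsg.Agent.Lib.Leech.CertB0x4

/-!
# The census of the minimal vectors

The minimal vectors, up to sign, sorted by their inner product with a reference vector, with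
descent to a root in each class.
-/

set_option autoImplicit false

namespace Cfsg.Agent.Lib.Leech.CertBase

open Cfsg Cfsg.Agent.Lib.Golay.Core Cfsg.Agent.Lib.Leech.Basic Cfsg.Agent.Lib.Leech.Vec
  Cfsg.Agent.Lib.Leech.Cert Cfsg.Agent.Lib.Leech.CertData Cfsg.Agent.Lib.Leech.Word
  Cfsg.Agent.Lib.Leech.Lat Cfsg.Agent.Lib.Leech.Reach Cfsg.Agent.Lib.Leech.Count

/-- The list of chunks for the inner product 16. -/
def L16 : List Chunk := [Cfsg.Agent.Lib.Leech.CertB16x0.e0,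
  Cfsg.Agent.Lib.Leech.CertB16x0.e1,
  Cfsg.Agent.Lib.Leech.CertB16x0.e2]

theorem all16 : ∀ e ∈ L16, chunkB P16 e = true := by
  intro e he
  simp only [L16, List.mem_cons, List.not_mem_nil, or_false] at he
  rcases he with rfl | rfl | rfl
  · exact Cfsg.Agent.Lib.Leech.CertB16x0.ok0
  · exact Cfsg.Agent.Lib.Leech.CertB16x0.ok1
  · exact Cfsg.Agent.Lib.Leech.CertB16x0.ok2

theorem chain16 : chainB L16 0 1329227995784915872903807060280344576 = true := by decide +kernel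

theorem total16 : totalL L16 = 4600 := by decide +kernel

/-- The elements for the inner product 16. -/
noncomputable def U16 : Finset ℕ := unionL L16

theorem card_U16 : U16.card = 4600 := by
  rw [U16, card_unionL all16 chain16, total16]

theorem cl_U16 {x : ℕ} (hx : x ∈ U16) : Cl 32 [(nV1, 16, 0)] (dec x) := by
  obtain ⟨k, hk⟩ := mem_unionL_P all16 hx
  simp only [P16, pointB, Bool.and_eq_true] at hk
  exact classB_iff.1 hk.1

/-- The list of chunks for the inner product 8. -/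
def L8 : List Chunk := [Cfsg.Agent.Lib.Leech.CertB8x0.e0,
  Cfsg.Agent.Lib.Leech.CertB8x0.e1,
  Cfsg.Agent.Lib.Leech.CertB8x0.e2,
  Cfsg.Agent.Lib.Leech.CertB8x0.e3,
  Cfsg.Agent.Lib.Leech.CertB8x0.e4,
  Cfsg.Agent.Lib.Leech.CertB8x1.e5,
  Cfsg.Agent.Lib.Leech.CertB8x1.e6,
  Cfsg.Agent.Lib.Leech.CertB8x1.e7,
  Cfsg.Agent.Lib.Leech.CertB8x1.e8,
  Cfsg.Agent.Lib.Leech.CertB8x1.e9,
  Cfsg.Agent.Lib.Leech.CertB8x2.e10,
  Cfsg.Agent.Lib.Leech.CertB8x2.e11,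
  Cfsg.Agent.Lib.Leech.CertB8x2.e12,
  Cfsg.Agent.Lib.Leech.CertB8x2.e13,
  Cfsg.Agent.Lib.Leech.CertB8x2.e14,
  Cfsg.Agent.Lib.Leech.CertB8x3.e15,
  Cfsg.Agent.Lib.Leech.CertB8x3.e16,
  Cfsg.Agent.Lib.Leech.CertB8x3.e17,
  Cfsg.Agent.Lib.Leech.CertB8x3.e18,
  Cfsg.Agent.Lib.Leech.CertB8x3.e19,
  Cfsg.Agent.Lib.Leech.CertB8x4.e20,
  Cfsg.Agent.Lib.Leech.CertB8x4.e21,
  Cfsg.Agent.Lib.Leech.CertB8x4.e22,
  Cfsg.Agent.Lib.Leech.CertB8x4.e23]

theorem all8 : ∀ e ∈ L8, chunkB P8 e = true := by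
  intro e he
  simp only [L8, List.mem_cons, List.not_mem_nil, or_false] at he
  rcases he with rfl | rfl | rfl | rfl | rfl | rfl | rfl | rfl | rfl | rfl | rfl | rfl | rfl | rfl | rfl | rfl | rfl | rfl | rfl | rfl | rfl | rfl | rfl | rfl
  · exact Cfsg.Agent.Lib.Leech.CertB8x0.ok0
  · exact Cfsg.Agent.Lib.Leech.CertB8x0.ok1
  · exact Cfsg.Agent.Lib.Leech.CertB8x0.ok2
  · exact Cfsg.Agent.Lib.Leech.CertB8x0.ok3
  · exact Cfsg.Agent.Lib.Leech.CertB8x0.ok4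
  · exact Cfsg.Agent.Lib.Leech.CertB8x1.ok5
  · exact Cfsg.Agent.Lib.Leech.CertB8x1.ok6
  · exact Cfsg.Agent.Lib.Leech.CertB8x1.ok7
  · exact Cfsg.Agent.Lib.Leech.CertB8x1.ok8
  · exact Cfsg.Agent.Lib.Leech.CertB8x1.ok9
  · exact Cfsg.Agent.Lib.Leech.CertB8x2.ok10
  · exact Cfsg.Agent.Lib.Leech.CertB8x2.ok11
  · exact Cfsg.Agent.Lib.Leech.CertB8x2.ok12
  · exact Cfsg.Agent.Lib.Leech.CertB8x2.ok13
  · exact Cfsg.Agent.Lib.Leech.CertB8x2.ok14
  · exact Cfsg.Agent.Lib.Leech.CertB8x3.ok15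
  · exact Cfsg.Agent.Lib.Leech.CertB8x3.ok16
  · exact Cfsg.Agent.Lib.Leech.CertB8x3.ok17
  · exact Cfsg.Agent.Lib.Leech.CertB8x3.ok18
  · exact Cfsg.Agent.Lib.Leech.CertB8x3.ok19
  · exact Cfsg.Agent.Lib.Leech.CertB8x4.ok20
  · exact Cfsg.Agent.Lib.Leech.CertB8x4.ok21
  · exact Cfsg.Agent.Lib.Leech.CertB8x4.ok22
  · exact Cfsg.Agent.Lib.Leech.CertB8x4.ok23

theorem chain8 : chainB L8 0 1329227995784915872903807060280344576 = true := by decide +kernel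

theorem total8 : totalL L8 = 47104 := by decide +kernel

/-- The elements for the inner product 8. -/
noncomputable def U8 : Finset ℕ := unionL L8

theorem card_U8 : U8.card = 47104 := by
  rw [U8, card_unionL all8 chain8, total8]

theorem cl_U8 {x : ℕ} (hx : x ∈ U8) : Cl 32 [(nV1, 8, 0)] (dec x) := by
  obtain ⟨k, hk⟩ := mem_unionL_P all8 hx
  simp only [P8, pointB, Bool.and_eq_true] at hk
  exact classB_iff.1 hk.1

/-- The list of chunks for the inner product 0. -/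
def L0 : List Chunk := [Cfsg.Agent.Lib.Leech.CertB0x0.e0,
  Cfsg.Agent.Lib.Leech.CertB0x0.e1,
  Cfsg.Agent.Lib.Leech.CertB0x0.e2,
  Cfsg.Agent.Lib.Leech.CertB0x0.e3,
  Cfsg.Agent.Lib.Leech.CertB0x0.e4,
  Cfsg.Agent.Lib.Leech.CertB0x1.e5,
  Cfsg.Agent.Lib.Leech.CertB0x1.e6,
  Cfsg.Agent.Lib.Leech.CertB0x1.e7,
  Cfsg.Agent.Lib.Leech.CertB0x1.e8,
  Cfsg.Agent.Lib.Leech.CertB0x1.e9,
  Cfsg.Agent.Lib.Leech.CertB0x2.e10,
  Cfsg.Agent.Lib.Leech.CertB0x2.e11,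
  Cfsg.Agent.Lib.Leech.CertB0x2.e12,
  Cfsg.Agent.Lib.Leech.CertB0x2.e13,
  Cfsg.Agent.Lib.Leech.CertB0x2.e14,
  Cfsg.Agent.Lib.Leech.CertB0x3.e15,
  Cfsg.Agent.Lib.Leech.CertB0x3.e16,
  Cfsg.Agent.Lib.Leech.CertB0x3.e17,
  Cfsg.Agent.Lib.Leech.CertB0x3.e18,
  Cfsg.Agent.Lib.Leech.CertB0x3.e19,
  Cfsg.Agent.Lib.Leech.CertB0x4.e20,
  Cfsg.Agent.Lib.Leech.CertB0x4.e21,
  Cfsg.Agent.Lib.Leech.CertB0x4.e22,
  Cfsg.Agent.Lib.Leech.CertB0x4.e23]

theorem all0 : ∀ e ∈ L0, chunkB P0 e = true := by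
  intro e he
  simp only [L0, List.mem_cons, List.not_mem_nil, or_false] at he
  rcases he with rfl | rfl | rfl | rfl | rfl | rfl | rfl | rfl | rfl | rfl | rfl | rfl | rfl | rfl | rfl | rfl | rfl | rfl | rfl | rfl | rfl | rfl | rfl | rfl
  · exact Cfsg.Agent.Lib.Leech.CertB0x0.ok0
  · exact Cfsg.Agent.Lib.Leech.CertB0x0.ok1
  · exact Cfsg.Agent.Lib.Leech.CertB0x0.ok2
  · exact Cfsg.Agent.Lib.Leech.CertB0x0.ok3
  · exact Cfsg.Agent.Lib.Leech.CertB0x0.ok4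
  · exact Cfsg.Agent.Lib.Leech.CertB0x1.ok5
  · exact Cfsg.Agent.Lib.Leech.CertB0x1.ok6
  · exact Cfsg.Agent.Lib.Leech.CertB0x1.ok7
  · exact Cfsg.Agent.Lib.Leech.CertB0x1.ok8
  · exact Cfsg.Agent.Lib.Leech.CertB0x1.ok9
  · exact Cfsg.Agent.Lib.Leech.CertB0x2.ok10
  · exact Cfsg.Agent.Lib.Leech.CertB0x2.ok11
  · exact Cfsg.Agent.Lib.Leech.CertB0x2.ok12
  · exact Cfsg.Agent.Lib.Leech.CertB0x2.ok13
  · exact Cfsg.Agent.Lib.Leech.CertB0x2.ok14
  · exact Cfsg.Agent.Lib.Leech.CertB0x3.ok15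
  · exact Cfsg.Agent.Lib.Leech.CertB0x3.ok16
  · exact Cfsg.Agent.Lib.Leech.CertB0x3.ok17
  · exact Cfsg.Agent.Lib.Leech.CertB0x3.ok18
  · exact Cfsg.Agent.Lib.Leech.CertB0x3.ok19
  · exact Cfsg.Agent.Lib.Leech.CertB0x4.ok20
  · exact Cfsg.Agent.Lib.Leech.CertB0x4.ok21
  · exact Cfsg.Agent.Lib.Leech.CertB0x4.ok22
  · exact Cfsg.Agent.Lib.Leech.CertB0x4.ok23

theorem chain0 : chainB L0 0 nZero = true := by decide +kernel

theorem total0 : totalL L0 = 46575 := by decide +kernel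

/-- The elements for the inner product 0. -/
noncomputable def U0 : Finset ℕ := unionL L0

theorem card_U0 : U0.card = 46575 := by
  rw [U0, card_unionL all0 chain0, total0]

theorem cl_U0 {x : ℕ} (hx : x ∈ U0) : Cl 32 [(nV1, 0, 0)] (dec x) := by
  obtain ⟨k, hk⟩ := mem_unionL_P all0 hx
  simp only [P0, pointB, Bool.and_eq_true] at hk
  exact classB_iff.1 hk.1

theorem U0_lt {x : ℕ} (hx : x ∈ U0) : x < nZero := ((chain_bounds all0 chain0).2 x hx).2

theorem cl_dot {a x : ℕ} (h : Cl 32 [(nV1, a, 0)] (dec x)) : dotInt (dec x) (dec nV1) = a := by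
  have := h.2.2 (nV1, a, 0) (by simp)
  simpa using this

theorem nV1_mem : dec nV1 ∈ leechLattice := mem_of_inL nV1_inL

theorem nV1_sq : sqNorm (dec nV1) = 32 := by
  have := dotIs_iff.1 nV1_norm
  rw [dotInt_self] at this
  simpa using this

/-- All the vectors, up to sign. -/
noncomputable def Uall : Finset ℕ := U16 ∪ U8 ∪ U0 ∪ {nV1}

theorem Uall_cases {x : ℕ} (hx : x ∈ Uall) :
    (x ∈ U16 ∧ dotInt (dec x) (dec nV1) = 16) ∨ (x ∈ U8 ∧ dotInt (dec x) (dec nV1) = 8) ∨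
      (x ∈ U0 ∧ dotInt (dec x) (dec nV1) = 0) ∨ (x = nV1 ∧ dotInt (dec x) (dec nV1) = 32) := by
  simp only [Uall, Finset.mem_union, Finset.mem_singleton] at hx
  rcases hx with ((h | h) | h) | h
  · exact Or.inl ⟨h, by simpa using cl_dot (cl_U16 h)⟩
  · exact Or.inr (Or.inl ⟨h, by simpa using cl_dot (cl_U8 h)⟩)
  · exact Or.inr (Or.inr (Or.inl ⟨h, by simpa using cl_dot (cl_U0 h)⟩))
  · subst h
    refine Or.inr (Or.inr (Or.inr ⟨rfl, ?_⟩))
    rw [dotInt_self, nV1_sq]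

theorem Uall_C {x : ℕ} (hx : x ∈ Uall) : dec x ∈ leechLattice ∧ sqNorm (dec x) = 32 := by
  simp only [Uall, Finset.mem_union, Finset.mem_singleton] at hx
  rcases hx with ((h | h) | h) | h
  · exact ⟨(cl_U16 h).1, (cl_U16 h).2.1⟩
  · exact ⟨(cl_U8 h).1, (cl_U8 h).2.1⟩
  · exact ⟨(cl_U0 h).1, (cl_U0 h).2.1⟩
  · subst h
    exact ⟨nV1_mem, nV1_sq⟩

theorem nV1_lt : nV1 < 2 ^ 120 := by decide +kernel

theorem Uall_lt {x : ℕ} (hx : x ∈ Uall) : x < 2 ^ 120 := by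
  simp only [Uall, Finset.mem_union, Finset.mem_singleton] at hx
  rcases hx with ((h | h) | h) | h
  · exact mem_unionL_lt h
  · exact mem_unionL_lt h
  · exact mem_unionL_lt h
  · subst h
    exact nV1_lt

theorem Uall_half : ∀ x ∈ Uall, ∀ y ∈ Uall, dec x ≠ -dec y := by
  intro x hx y hy h
  have h1 : dotInt (dec x) (dec nV1) = -dotInt (dec y) (dec nV1) := by
    rw [h, dotInt_neg_left]
  rcases Uall_cases hx with ⟨h2, h3⟩ | ⟨h2, h3⟩ | ⟨h2, h3⟩ | ⟨h2, h3⟩ <;>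
  rcases Uall_cases hy with ⟨h4, h5⟩ | ⟨h4, h5⟩ | ⟨h4, h5⟩ | ⟨h4, h5⟩ <;>
  rw [h3, h5] at h1 <;> try omega
  exact not_neg_of_lt (U0_lt h2) (U0_lt h4) h

theorem card_Uall : Uall.card = 98280 := by
  have h1 : Disjoint U16 U8 := by
    rw [Finset.disjoint_left]
    intro x hx hx'
    have h2 := cl_dot (cl_U16 hx)
    have h3 := cl_dot (cl_U8 hx')
    rw [h2] at h3
    norm_num at h3
  have h2 : Disjoint (U16 ∪ U8) U0 := by
    rw [Finset.disjoint_left]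
    intro x hx hx'
    have h3 := cl_dot (cl_U0 hx')
    rcases Finset.mem_union.1 hx with h | h
    · rw [cl_dot (cl_U16 h)] at h3
      norm_num at h3
    · rw [cl_dot (cl_U8 h)] at h3
      norm_num at h3
  have h3 : Disjoint (U16 ∪ U8 ∪ U0) {nV1} := by
    rw [Finset.disjoint_singleton_right]
    intro hx
    have h4 : dotInt (dec nV1) (dec nV1) = 32 := by
      rw [dotInt_self, nV1_sq]
    rcases Finset.mem_union.1 hx with h | h
    · rcases Finset.mem_union.1 h with h | h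
      · rw [cl_dot (cl_U16 h)] at h4
        norm_num at h4
      · rw [cl_dot (cl_U8 h)] at h4
        norm_num at h4
    · rw [cl_dot (cl_U0 h)] at h4
      norm_num at h4
  rw [Uall, Finset.card_union_of_disjoint h3, Finset.card_union_of_disjoint h2,
    Finset.card_union_of_disjoint h1, card_U16, card_U8, card_U0, Finset.card_singleton]

/-- All minimal vectors, up to sign, are in the list. -/
theorem cover32 : ∀ w, (w ∈ leechLattice ∧ sqNorm w = 32) →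
    ∃ x ∈ Uall, w = dec x ∨ w = -dec x := by
  refine cover_half (C := fun w => w ∈ leechLattice ∧ sqNorm w = 32) ?_ (fun x hx => Uall_C hx)
    (fun x hx => Uall_lt hx) Uall_half ?_ ?_
  · rintro w ⟨h1, h2⟩
    exact ⟨neg_mem h1, by rw [sqNorm_neg, h2]⟩
  · apply Set.finite_of_ncard_ne_zero
    show {x : GolayPt → ℤ | x ∈ leechLattice ∧ sqNorm x = 32}.ncard ≠ 0
    rw [ncard_norm32]
    norm_num
  · show {x : GolayPt → ℤ | x ∈ leechLattice ∧ sqNorm x = 32}.ncard ≤ _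
    rw [ncard_norm32, card_Uall]

theorem mem_U16_of {w : GolayPt → ℤ} (hw : Cl 32 [(nV1, 16, 0)] w) : ∃ x ∈ U16, dec x = w := by
  have h0 : dotInt w (dec nV1) = 16 := by simpa using hw.2.2 (nV1, 16, 0) (by simp)
  obtain ⟨x, hx, h | h⟩ := cover32 w ⟨hw.1, hw.2.1⟩
  · subst h
    rcases Uall_cases hx with ⟨h2, h3⟩ | ⟨h2, h3⟩ | ⟨h2, h3⟩ | ⟨h2, h3⟩
    · exact ⟨x, h2, rfl⟩
    all_goals
      rw [h3] at h0
      norm_num at h0
  · subst h
    rw [dotInt_neg_left] at h0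
    rcases Uall_cases hx with ⟨h2, h3⟩ | ⟨h2, h3⟩ | ⟨h2, h3⟩ | ⟨h2, h3⟩ <;> rw [h3] at h0 <;> norm_num at h0

theorem mem_U8_of {w : GolayPt → ℤ} (hw : Cl 32 [(nV1, 8, 0)] w) : ∃ x ∈ U8, dec x = w := by
  have h0 : dotInt w (dec nV1) = 8 := by simpa using hw.2.2 (nV1, 8, 0) (by simp)
  obtain ⟨x, hx, h | h⟩ := cover32 w ⟨hw.1, hw.2.1⟩
  · subst h
    rcases Uall_cases hx with ⟨h2, h3⟩ | ⟨h2, h3⟩ | ⟨h2, h3⟩ | ⟨h2, h3⟩
    · rw [h3] at h0
      norm_num at h0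
    · exact ⟨x, h2, rfl⟩
    all_goals
      rw [h3] at h0
      norm_num at h0
  · subst h
    rw [dotInt_neg_left] at h0
    rcases Uall_cases hx with ⟨h2, h3⟩ | ⟨h2, h3⟩ | ⟨h2, h3⟩ | ⟨h2, h3⟩ <;> rw [h3] at h0 <;> norm_num at h0

theorem mem_U0_of {w : GolayPt → ℤ} (hw : Cl 32 [(nV1, 0, 0)] w) :
    ∃ x ∈ U0, w = dec x ∨ w = -dec x := by
  have h0 : dotInt w (dec nV1) = 0 := by simpa using hw.2.2 (nV1, 0, 0) (by simp)
  obtain ⟨x, hx, h⟩ := cover32 w ⟨hw.1, hw.2.1⟩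
  have h1 : dotInt (dec x) (dec nV1) = 0 := by
    rcases h with h | h <;> subst h
    · exact h0
    · rw [dotInt_neg_left] at h0
      omega
  rcases Uall_cases hx with ⟨h2, h3⟩ | ⟨h2, h3⟩ | ⟨h2, h3⟩ | ⟨h2, h3⟩
  · rw [h3] at h1
    norm_num at h1
  · rw [h3] at h1
    norm_num at h1
  · exact ⟨x, h2, h⟩
  · rw [h3] at h1
    norm_num at h1

theorem nV1_dec_mem {x : ℕ} (h : x ∈ U16) : x < 2 ^ 120 := mem_unionL_lt h

/-- Transitivity on the inner product 16. -/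
theorem rel16 {w : GolayPt → ℤ} (hw : Cl 32 [(nV1, 16, 0)] w) :
    Rel (FixG [nV1]) w (dec root16) := by
  obtain ⟨x, hx, rfl⟩ := mem_U16_of hw
  refine rel_of_chunks (clB := classB 32 [(nV1, 16, 0)]) (fun x h => (classB_iff.1 h).1) all16
    tab16_in words16_in ?_ x hx
  refine closed_of_cover (N := 32) (conds := [(nV1, 16, 0)]) ?_ (fun x hx => mem_unionL_lt hx)
    (fun x hx => cl_U16 hx) (fun w hw => mem_U16_of hw)
  intro c hc
  have : c = (nV1, 16, 0) := by simpa using hc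
  subst this
  exact ⟨by simp, nV1_mem⟩

/-- Transitivity on the inner product 8. -/
theorem rel8 {w : GolayPt → ℤ} (hw : Cl 32 [(nV1, 8, 0)] w) :
    Rel (FixG [nV1]) w (dec root8) := by
  obtain ⟨x, hx, rfl⟩ := mem_U8_of hw
  refine rel_of_chunks (clB := classB 32 [(nV1, 8, 0)]) (fun x h => (classB_iff.1 h).1) all8
    tab8_in words8_in ?_ x hx
  refine closed_of_cover (N := 32) (conds := [(nV1, 8, 0)]) ?_ (fun x hx => mem_unionL_lt hx)
    (fun x hx => cl_U8 hx) (fun w hw => mem_U8_of hw)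
  intro c hc
  have : c = (nV1, 8, 0) := by simpa using hc
  subst this
  exact ⟨by simp, nV1_mem⟩

theorem negG_mem_PMG (n : ℕ) : negG ∈ PMG n := fun _ => Or.inr rfl

theorem rel0_aux (x : ℕ) (hx : x ∈ U0) : Rel (PMG nV1) (dec x) (dec root0) := by
  refine rel_of_chunks (clB := classB 32 [(nV1, 0, 0)]) (fun x h => (classB_iff.1 h).1) all0
    tab0_in words0_in ?_ x hx
  intro x hx y hy h
  have h2 : Cl 32 [(nV1, 0, 0)] (dec y) := Cl_of_rel_PM nV1_mem h (cl_U0 hx)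
  have h3 : y < nZero := hy.trans (U0_lt hx)
  obtain ⟨z, hz, h4 | h4⟩ := mem_U0_of h2
  · have h5 : nZero < 2 ^ 120 := by decide +kernel
    have := dec_inj (h3.trans h5) (mem_unionL_lt hz) h4
    rwa [this]
  · exact absurd h4 (not_neg_of_lt h3 (U0_lt hz))

/-- Transitivity up to sign on the orthogonal vectors. -/
theorem rel0 {w : GolayPt → ℤ} (hw : Cl 32 [(nV1, 0, 0)] w) :
    Rel (PMG nV1) w (dec root0) := by
  obtain ⟨x, hx, rfl | rfl⟩ := mem_U0_of hw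
  · exact rel0_aux x hx
  · have h1 : Rel (PMG nV1) (-dec x) (dec x) := by
      refine ⟨hw.1, negG, negG_mem_PMG _, ?_⟩
      show - -dec x = _
      exact neg_neg _
    exact h1.trans (rel0_aux x hx)

theorem ncard_of_cover {U : Finset ℕ} {C : (GolayPt → ℤ) → Prop} (hcl : ∀ x ∈ U, C (dec x))
    (hlt : ∀ x ∈ U, x < 2 ^ 120) (hc : ∀ w, C w → ∃ x ∈ U, dec x = w) :
    {w | C w}.ncard = U.card := by
  classical
  have h2 : (U.image dec).card = U.card := Finset.card_image_of_injOn fun a ha b hb hab =>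
    dec_inj (hlt a ha) (hlt b hb) hab
  have h3 : (U.image dec : Set (GolayPt → ℤ)) = {w | C w} := by
    ext w
    simp only [Finset.coe_image, Set.mem_image, Finset.mem_coe, Set.mem_setOf_eq]
    constructor
    · rintro ⟨x, hx, rfl⟩
      exact hcl x hx
    · exact hc w
  rw [← h3, Set.ncard_coe_finset, h2]

theorem ncard16 : {w | Cl 32 [(nV1, 16, 0)] w}.ncard = 4600 := by
  rw [ncard_of_cover (fun x hx => cl_U16 hx) (fun x hx => mem_unionL_lt hx) (fun w hw => mem_U16_of hw),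
    card_U16]

theorem ncard8 : {w | Cl 32 [(nV1, 8, 0)] w}.ncard = 47104 := by
  rw [ncard_of_cover (fun x hx => cl_U8 hx) (fun x hx => mem_unionL_lt hx) (fun w hw => mem_U8_of hw),
    card_U8]

theorem ncard0 : {w | Cl 32 [(nV1, 0, 0)] w}.ncard = 93150 := by
  classical
  set T1 := U0.image dec with hT1
  set T2 := U0.image (fun x => -dec x) with hT2
  have hlt : ∀ x ∈ U0, x < 2 ^ 120 := fun x hx => mem_unionL_lt hx
  have hd : Disjoint T1 T2 := by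
    rw [Finset.disjoint_left]
    intro w hw hw'
    obtain ⟨x, hx, rfl⟩ := Finset.mem_image.1 hw
    obtain ⟨y, hy, hxy⟩ := Finset.mem_image.1 hw'
    exact not_neg_of_lt (U0_lt hx) (U0_lt hy) hxy.symm
  have h1 : T1.card = U0.card := Finset.card_image_of_injOn fun a ha b hb hab =>
    dec_inj (hlt a ha) (hlt b hb) hab
  have h2 : T2.card = U0.card := Finset.card_image_of_injOn fun a ha b hb hab =>
    dec_inj (hlt a ha) (hlt b hb) (neg_injective hab)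
  have h3 : ((T1 ∪ T2 : Finset _) : Set (GolayPt → ℤ)) = {w | Cl 32 [(nV1, 0, 0)] w} := by
    ext w
    simp only [Finset.coe_union, Set.mem_union, Finset.mem_coe, Set.mem_setOf_eq]
    constructor
    · rintro (h | h)
      · obtain ⟨x, hx, rfl⟩ := Finset.mem_image.1 h
        exact cl_U0 hx
      · obtain ⟨x, hx, rfl⟩ := Finset.mem_image.1 h
        have h4 := cl_U0 hx
        refine ⟨neg_mem h4.1, by rw [sqNorm_neg]; exact h4.2.1, fun c hc => ?_⟩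
        have : c = (nV1, 0, 0) := by simpa using hc
        subst this
        have h5 := cl_dot h4
        rw [dotInt_neg_left, h5]
        simp
    · intro hw
      obtain ⟨x, hx, rfl | rfl⟩ := mem_U0_of hw
      · exact Or.inl (Finset.mem_image_of_mem _ hx)
      · exact Or.inr (Finset.mem_image.2 ⟨x, hx, rfl⟩)
  rw [← h3, Set.ncard_coe_finset, Finset.card_union_of_disjoint hd, h1, h2, card_U0]

end Cfsg.Agent.Lib.Leech.CertBase
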