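import Cfsg.Agent.Lib.Leech.CertC100

/-! # A list of minimal vectors in a configuration, with descent -/

set_option autoImplicit false

namespace Cfsg.Agent.Lib.Leech.CertC22

open Cfsg Cfsg.Agent.Lib.Golay.Core Cfsg.Agent.Lib.Leech.Vec Cfsg.Agent.Lib.Leech.Cert Cfsg.Agent.Lib.Leech.CertData Cfsg.Agent.Lib.Leech.CertBase Cfsg.Agent.Lib.Leech.CertLev Cfsg.Agent.Lib.Leech.CertRefs
  Cfsg.Agent.Lib.Leech.Word Cfsg.Agent.Lib.Leech.Reach

/-- The conditions. -/
def conds : List (ℕ × ℕ × ℕ) := [(nU0, 24, 0), (nX1, 0, 0), (nV1, 8, 0)]

/-- The vectors fixed. -/
def R : List ℕ := [nU0, nX1, nV1]

/-- The table of signed permutations. -/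
def tab : ℕ := 2770842783103771084189818219142835708890870595120067329748912310149433148204836718243156980000718800522388713285641194732549232178463789023193208146063663222284023707612063776727767934517301403301142437048959592424358862922318576709576157566996651147853612927058458890209480479063863666889198712753844235516296028800319493624881234173262811589454700354965965309190296830372715701878015730836819551850674798233323197954171772363973730138390675151904990247276716461066086391543304371550133166080608327200873282313556602385478520561886161295080371096009259226255021733695797072156045793907488701538946398782746447181047570820784470425059438845496458407769826909840469228714073500279146990956183552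

/-- The length of the table. -/
def NT : ℕ := 16

/-- The words. -/
def words : List (List (ℕ × ℕ)) := []

/-- The root. -/
def root : ℕ := 728769222282640781454825196982158897

/-- The check of a point. -/
def P : ℕ → ℕ → Bool := pointB (classB 32 conds) root tab NT words

/-- A chunk of the list. -/
def e0 : Chunk := (8515195742819443568182272048913818320122255790062060951715143598003930669804020754876139089856180411667529520086036006339894699446818001874093320618965267999218875275920117886624951746386701072536445130149596277166033115105420223075391397343785550010341387698486093296391687736408134776568799770983081315914244063305234193429370565512973602292252539255347840600777601601410595088207273613267004381228058814908289357967058008871382478031423002178019719837977518984454627694311359332032699270792428855867879450662449053433278723696550042072240419238977577592011300246201825319237594938179945686884524355913681163509980261714942407191619916207602032108222417898347192075087982620784079769849901247840547684491935282732962712782935364216065054270663124248397234062799006195363189752477784511176633328485507782543051160620890312323023100265904814656082474716072812070363394674688, 22, 728769222282640781454825196982158896,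 728931481559469994818216774992447022)

theorem ok0 : chunkB P e0 = true := by decide +kernel

/-- The list of chunks. -/
def L : List Chunk := [e0]

theorem all : ∀ e ∈ L, chunkB P e = true := by
  intro e he
  simp only [L, List.mem_cons, List.not_mem_nil, or_false] at he
  rcases he with rfl
  · exact ok0

theorem chain : chainB L 0 1329227995784915872903807060280344576 = true := by decide +kernel

theorem total : totalL L = 22 := by decide +kernel

theorem card_U : (unionL L).card = 22 := by
  rw [card_unionL all chain, total]

theorem tab_chk : allUpTo (fun i => validOp (tabP tab i) (tabC tab i) &&
    R.all (fun r => monCheck (tabP tab i) (tabC tab i) r r)) NT = true := by decide +kernel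

theorem tab_in : TabIn (FixG R) tab NT :=
  tabIn_of_check (fun _ _ hv h => opG_mem_FixG hv h) tab_chk

theorem words_chk : words.all (fun w => R.all fun r => runW w r r) = true := by decide +kernel

theorem words_in : ∀ w ∈ words, wG w ∈ FixG R := fun w hw =>
  wG_mem_FixG (List.all_eq_true.1 words_chk w hw)

theorem hR : ∀ c ∈ conds, c.1 ∈ R ∧ dec c.1 ∈ Cfsg.leechLattice := by
  intro c hc
  simp only [conds, List.mem_cons, List.not_mem_nil, or_false] at hc
  rcases hc with rfl | rfl | rfl
  · exact ⟨by simp [R], nU0_mem⟩
  · exact ⟨by simp [R], nX1_mem⟩
  · exact ⟨by simp [R], nV1_mem⟩

theorem cnt_eq : cntL (condsB conds) Cfsg.Agent.Lib.Leech.CertC100.L = 22 := by decide +kernel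

theorem count_le : {w | Cl 32 conds w}.ncard ≤ (unionL L).card := by
  have h1 := count_child (c0 := Cfsg.Agent.Lib.Leech.CertC100.conds) (c1 := conds) (by
    intro c hc
    simp only [Cfsg.Agent.Lib.Leech.CertC100.conds, conds, List.mem_cons, List.not_mem_nil, or_false] at hc ⊢
    tauto) Cfsg.Agent.Lib.Leech.CertC100.cover
  rw [card_filter_unionL Cfsg.Agent.Lib.Leech.CertC100.all Cfsg.Agent.Lib.Leech.CertC100.chain, cnt_eq] at h1
  rw [card_U]
  exact h1

theorem cover : ∀ w, Cl 32 conds w → ∃ x ∈ unionL L, dec x = w := cover_of_le all count_le

theorem ncard_eq : {w | Cl 32 conds w}.ncard = 22 := by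
  rw [level_ncard all cover, card_U]

theorem rel {w : Cfsg.GolayPt → ℤ} (hw : Cl 32 conds w) : Rel (FixG R) w (dec root) :=
  level_rel all tab_in words_in hR cover hw

theorem root_cl : Cl 32 conds (dec root) := classB_iff.1 (by decide +kernel)

end Cfsg.Agent.Lib.Leech.CertC22
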