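import Cfsg.Agent.Lib.Leech.CertQ

/-! # Counting minimal vectors by inner product with a vector of norm 48: a part of the lists -/

set_option autoImplicit false

namespace Cfsg.Agent.Lib.Leech.CertQ0x0

open Cfsg.Agent.Lib.Leech.Cert Cfsg.Agent.Lib.Leech.CertQ

theorem c0 : cntB Q1 Cfsg.Agent.Lib.Leech.CertB0x0.e0 = 0 ∧ cntB Q2 Cfsg.Agent.Lib.Leech.CertB0x0.e0 = 0 ∧ cntB Q3 Cfsg.Agent.Lib.Leech.CertB0x0.e0 = 0 ∧ cntB Q4 Cfsg.Agent.Lib.Leech.CertB0x0.e0 = 442 := by decide +kernel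

theorem c1 : cntB Q1 Cfsg.Agent.Lib.Leech.CertB0x0.e1 = 0 ∧ cntB Q2 Cfsg.Agent.Lib.Leech.CertB0x0.e1 = 0 ∧ cntB Q3 Cfsg.Agent.Lib.Leech.CertB0x0.e1 = 0 ∧ cntB Q4 Cfsg.Agent.Lib.Leech.CertB0x0.e1 = 317 := by decide +kernel

theorem c2 : cntB Q1 Cfsg.Agent.Lib.Leech.CertB0x0.e2 = 0 ∧ cntB Q2 Cfsg.Agent.Lib.Leech.CertB0x0.e2 = 0 ∧ cntB Q3 Cfsg.Agent.Lib.Leech.CertB0x0.e2 = 0 ∧ cntB Q4 Cfsg.Agent.Lib.Leech.CertB0x0.e2 = 241 := by decide +kernel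

theorem c3 : cntB Q1 Cfsg.Agent.Lib.Leech.CertB0x0.e3 = 0 ∧ cntB Q2 Cfsg.Agent.Lib.Leech.CertB0x0.e3 = 0 ∧ cntB Q3 Cfsg.Agent.Lib.Leech.CertB0x0.e3 = 0 ∧ cntB Q4 Cfsg.Agent.Lib.Leech.CertB0x0.e3 = 119 := by decide +kernel

theorem c4 : cntB Q1 Cfsg.Agent.Lib.Leech.CertB0x0.e4 = 0 ∧ cntB Q2 Cfsg.Agent.Lib.Leech.CertB0x0.e4 = 0 ∧ cntB Q3 Cfsg.Agent.Lib.Leech.CertB0x0.e4 = 0 ∧ cntB Q4 Cfsg.Agent.Lib.Leech.CertB0x0.e4 = 160 := by decide +kernel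

theorem c5 : cntB Q1 Cfsg.Agent.Lib.Leech.CertB0x1.e5 = 0 ∧ cntB Q2 Cfsg.Agent.Lib.Leech.CertB0x1.e5 = 0 ∧ cntB Q3 Cfsg.Agent.Lib.Leech.CertB0x1.e5 = 0 ∧ cntB Q4 Cfsg.Agent.Lib.Leech.CertB0x1.e5 = 68 := by decide +kernel

theorem c6 : cntB Q1 Cfsg.Agent.Lib.Leech.CertB0x1.e6 = 0 ∧ cntB Q2 Cfsg.Agent.Lib.Leech.CertB0x1.e6 = 0 ∧ cntB Q3 Cfsg.Agent.Lib.Leech.CertB0x1.e6 = 0 ∧ cntB Q4 Cfsg.Agent.Lib.Leech.CertB0x1.e6 = 33 := by decide +kernel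

theorem c7 : cntB Q1 Cfsg.Agent.Lib.Leech.CertB0x1.e7 = 0 ∧ cntB Q2 Cfsg.Agent.Lib.Leech.CertB0x1.e7 = 0 ∧ cntB Q3 Cfsg.Agent.Lib.Leech.CertB0x1.e7 = 0 ∧ cntB Q4 Cfsg.Agent.Lib.Leech.CertB0x1.e7 = 172 := by decide +kernel

theorem c8 : cntB Q1 Cfsg.Agent.Lib.Leech.CertB0x1.e8 = 0 ∧ cntB Q2 Cfsg.Agent.Lib.Leech.CertB0x1.e8 = 0 ∧ cntB Q3 Cfsg.Agent.Lib.Leech.CertB0x1.e8 = 0 ∧ cntB Q4 Cfsg.Agent.Lib.Leech.CertB0x1.e8 = 57 := by decide +kernel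

theorem c9 : cntB Q1 Cfsg.Agent.Lib.Leech.CertB0x1.e9 = 0 ∧ cntB Q2 Cfsg.Agent.Lib.Leech.CertB0x1.e9 = 0 ∧ cntB Q3 Cfsg.Agent.Lib.Leech.CertB0x1.e9 = 0 ∧ cntB Q4 Cfsg.Agent.Lib.Leech.CertB0x1.e9 = 58 := by decide +kernel

end Cfsg.Agent.Lib.Leech.CertQ0x0
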