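import Cfsg.Agent.Lib.Leech.CertQ

/-! # Counting minimal vectors by inner product with a vector of norm 48: a part of the lists -/

set_option autoImplicit false

namespace Cfsg.Agent.Lib.Leech.CertQ0x1

open Cfsg.Agent.Lib.Leech.Cert Cfsg.Agent.Lib.Leech.CertQ

theorem c10 : cntB Q1 Cfsg.Agent.Lib.Leech.CertB0x2.e10 = 0 ∧ cntB Q2 Cfsg.Agent.Lib.Leech.CertB0x2.e10 = 0 ∧ cntB Q3 Cfsg.Agent.Lib.Leech.CertB0x2.e10 = 0 ∧ cntB Q4 Cfsg.Agent.Lib.Leech.CertB0x2.e10 = 22 := by decide +kernel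

theorem c11 : cntB Q1 Cfsg.Agent.Lib.Leech.CertB0x2.e11 = 0 ∧ cntB Q2 Cfsg.Agent.Lib.Leech.CertB0x2.e11 = 0 ∧ cntB Q3 Cfsg.Agent.Lib.Leech.CertB0x2.e11 = 0 ∧ cntB Q4 Cfsg.Agent.Lib.Leech.CertB0x2.e11 = 6 := by decide +kernel

theorem c12 : cntB Q1 Cfsg.Agent.Lib.Leech.CertB0x2.e12 = 0 ∧ cntB Q2 Cfsg.Agent.Lib.Leech.CertB0x2.e12 = 0 ∧ cntB Q3 Cfsg.Agent.Lib.Leech.CertB0x2.e12 = 0 ∧ cntB Q4 Cfsg.Agent.Lib.Leech.CertB0x2.e12 = 40 := by decide +kernel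

theorem c13 : cntB Q1 Cfsg.Agent.Lib.Leech.CertB0x2.e13 = 0 ∧ cntB Q2 Cfsg.Agent.Lib.Leech.CertB0x2.e13 = 0 ∧ cntB Q3 Cfsg.Agent.Lib.Leech.CertB0x2.e13 = 0 ∧ cntB Q4 Cfsg.Agent.Lib.Leech.CertB0x2.e13 = 59 := by decide +kernel

theorem c14 : cntB Q1 Cfsg.Agent.Lib.Leech.CertB0x2.e14 = 0 ∧ cntB Q2 Cfsg.Agent.Lib.Leech.CertB0x2.e14 = 0 ∧ cntB Q3 Cfsg.Agent.Lib.Leech.CertB0x2.e14 = 0 ∧ cntB Q4 Cfsg.Agent.Lib.Leech.CertB0x2.e14 = 21 := by decide +kernel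

theorem c15 : cntB Q1 Cfsg.Agent.Lib.Leech.CertB0x3.e15 = 0 ∧ cntB Q2 Cfsg.Agent.Lib.Leech.CertB0x3.e15 = 0 ∧ cntB Q3 Cfsg.Agent.Lib.Leech.CertB0x3.e15 = 0 ∧ cntB Q4 Cfsg.Agent.Lib.Leech.CertB0x3.e15 = 0 := by decide +kernel

theorem c16 : cntB Q1 Cfsg.Agent.Lib.Leech.CertB0x3.e16 = 0 ∧ cntB Q2 Cfsg.Agent.Lib.Leech.CertB0x3.e16 = 0 ∧ cntB Q3 Cfsg.Agent.Lib.Leech.CertB0x3.e16 = 0 ∧ cntB Q4 Cfsg.Agent.Lib.Leech.CertB0x3.e16 = 47 := by decide +kernel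

theorem c17 : cntB Q1 Cfsg.Agent.Lib.Leech.CertB0x3.e17 = 0 ∧ cntB Q2 Cfsg.Agent.Lib.Leech.CertB0x3.e17 = 0 ∧ cntB Q3 Cfsg.Agent.Lib.Leech.CertB0x3.e17 = 0 ∧ cntB Q4 Cfsg.Agent.Lib.Leech.CertB0x3.e17 = 33 := by decide +kernel

theorem c18 : cntB Q1 Cfsg.Agent.Lib.Leech.CertB0x3.e18 = 0 ∧ cntB Q2 Cfsg.Agent.Lib.Leech.CertB0x3.e18 = 0 ∧ cntB Q3 Cfsg.Agent.Lib.Leech.CertB0x3.e18 = 0 ∧ cntB Q4 Cfsg.Agent.Lib.Leech.CertB0x3.e18 = 6 := by decide +kernel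

theorem c19 : cntB Q1 Cfsg.Agent.Lib.Leech.CertB0x3.e19 = 0 ∧ cntB Q2 Cfsg.Agent.Lib.Leech.CertB0x3.e19 = 0 ∧ cntB Q3 Cfsg.Agent.Lib.Leech.CertB0x3.e19 = 0 ∧ cntB Q4 Cfsg.Agent.Lib.Leech.CertB0x3.e19 = 46 := by decide +kernel

end Cfsg.Agent.Lib.Leech.CertQ0x1
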