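import Cfsg.Agent.Lib.Leech.CertQ

/-! # Counting minimal vectors by inner product with a vector of norm 48: a part of the lists -/

set_option autoImplicit false

namespace Cfsg.Agent.Lib.Leech.CertQ8x2

open Cfsg.Agent.Lib.Leech.Cert Cfsg.Agent.Lib.Leech.CertQ

theorem c20 : cntB Q1 Cfsg.Agent.Lib.Leech.CertB8x4.e20 = 44 ∧ cntB Q2 Cfsg.Agent.Lib.Leech.CertB8x4.e20 = 0 ∧ cntB Q3 Cfsg.Agent.Lib.Leech.CertB8x4.e20 = 803 ∧ cntB Q4 Cfsg.Agent.Lib.Leech.CertB8x4.e20 = 0 := by decide +kernel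

theorem c21 : cntB Q1 Cfsg.Agent.Lib.Leech.CertB8x4.e21 = 55 ∧ cntB Q2 Cfsg.Agent.Lib.Leech.CertB8x4.e21 = 0 ∧ cntB Q3 Cfsg.Agent.Lib.Leech.CertB8x4.e21 = 906 ∧ cntB Q4 Cfsg.Agent.Lib.Leech.CertB8x4.e21 = 0 := by decide +kernel

theorem c22 : cntB Q1 Cfsg.Agent.Lib.Leech.CertB8x4.e22 = 66 ∧ cntB Q2 Cfsg.Agent.Lib.Leech.CertB8x4.e22 = 0 ∧ cntB Q3 Cfsg.Agent.Lib.Leech.CertB8x4.e22 = 966 ∧ cntB Q4 Cfsg.Agent.Lib.Leech.CertB8x4.e22 = 0 := by decide +kernel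

theorem c23 : cntB Q1 Cfsg.Agent.Lib.Leech.CertB8x4.e23 = 88 ∧ cntB Q2 Cfsg.Agent.Lib.Leech.CertB8x4.e23 = 0 ∧ cntB Q3 Cfsg.Agent.Lib.Leech.CertB8x4.e23 = 676 ∧ cntB Q4 Cfsg.Agent.Lib.Leech.CertB8x4.e23 = 0 := by decide +kernel

end Cfsg.Agent.Lib.Leech.CertQ8x2
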