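import Cfsg.Agent.Lib.Leech.CertQ16x0
import Cfsg.Agent.Lib.Leech.CertQ8x0
import Cfsg.Agent.Lib.Leech.CertQ8x1
import Cfsg.Agent.Lib.Leech.CertQ8x2
import Cfsg.Agent.Lib.Leech.CertQ0x0
import Cfsg.Agent.Lib.Leech.CertQ0x1
import Cfsg.Agent.Lib.Leech.CertQ0x2

/-! # Counts of minimal vectors by inner product with a vector of norm 48 -/

set_option autoImplicit false

namespace Cfsg.Agent.Lib.Leech.CertCnt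

open Cfsg Cfsg.Agent.Lib.Leech.Vec Cfsg.Agent.Lib.Leech.Cert Cfsg.Agent.Lib.Leech.CertData Cfsg.Agent.Lib.Leech.CertBase Cfsg.Agent.Lib.Leech.CertLev Cfsg.Agent.Lib.Leech.CertQ Cfsg.Agent.Lib.Leech.Basic

theorem cntL_cons {Q : ℕ → Bool} {e : Chunk} {L : List Chunk} {a b : ℕ} (h : cntB Q e = a)
    (h' : cntL Q L = b) : cntL Q (e :: L) = a + b := by
  show cntB Q e + cntL Q L = a + b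
  rw [h, h']

theorem t16Q1 : cntL Q1 L16 = 275 := by
  have h : cntL Q1 L16 = 0 + (117 + (158 + (0))) :=
    cntL_cons Cfsg.Agent.Lib.Leech.CertQ16x0.c0.1 (cntL_cons Cfsg.Agent.Lib.Leech.CertQ16x0.c1.1 (cntL_cons Cfsg.Agent.Lib.Leech.CertQ16x0.c2.1 (rfl)))
  exact h

theorem t16Q2 : cntL Q2 L16 = 0 := by
  have h : cntL Q2 L16 = 0 + (0 + (0 + (0))) :=
    cntL_cons Cfsg.Agent.Lib.Leech.CertQ16x0.c0.2.1 (cntL_cons Cfsg.Agent.Lib.Leech.CertQ16x0.c1.2.1 (cntL_cons Cfsg.Agent.Lib.Leech.CertQ16x0.c2.2.1 (rfl)))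
  exact h

theorem t16Q3 : cntL Q3 L16 = 2025 := by
  have h : cntL Q3 L16 = 466 + (1173 + (386 + (0))) :=
    cntL_cons Cfsg.Agent.Lib.Leech.CertQ16x0.c0.2.2.1 (cntL_cons Cfsg.Agent.Lib.Leech.CertQ16x0.c1.2.2.1 (cntL_cons Cfsg.Agent.Lib.Leech.CertQ16x0.c2.2.2.1 (rfl)))
  exact h

theorem t16Q4 : cntL Q4 L16 = 0 := by
  have h : cntL Q4 L16 = 0 + (0 + (0 + (0))) :=
    cntL_cons Cfsg.Agent.Lib.Leech.CertQ16x0.c0.2.2.2 (cntL_cons Cfsg.Agent.Lib.Leech.CertQ16x0.c1.2.2.2 (cntL_cons Cfsg.Agent.Lib.Leech.CertQ16x0.c2.2.2.2 (rfl)))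
  exact h

theorem t8Q1 : cntL Q1 L8 = 275 := by
  have h : cntL Q1 L8 = 0 + (0 + (0 + (0 + (0 + (0 + (1 + (0 + (0 + (0 + (0 + (1 + (0 + (0 + (1 + (1 + (18 + (0 + (0 + (0 + (44 + (55 + (66 + (88 + (0)))))))))))))))))))))))) :=
    cntL_cons Cfsg.Agent.Lib.Leech.CertQ8x0.c0.1 (cntL_cons Cfsg.Agent.Lib.Leech.CertQ8x0.c1.1 (cntL_cons Cfsg.Agent.Lib.Leech.CertQ8x0.c2.1 (cntL_cons Cfsg.Agent.Lib.Leech.CertQ8x0.c3.1 (cntL_cons Cfsg.Agent.Lib.Leech.CertQ8x0.c4.1 (cntL_cons Cfsg.Agent.Lib.Leech.CertQ8x0.c5.1 (cntL_cons Cfsg.Agent.Lib.Leech.CertQ8x0.c6.1 (cntL_cons Cfsg.Agent.Lib.Leech.CertQ8x0.c7.1 (cntL_cons Cfsg.Agent.Lib.Leech.CertQ8x0.c8.1 (cntL_cons Cfsg.Agent.Lib.Leech.CertQ8x0.c9.1 (cntL_cons Cfsg.Agent.Lib.Leech.CertQ8x1.c10.1 (cntL_cons Cfsg.Agent.Lib.Leech.CertQ8x1.c11.1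 (cntL_cons Cfsg.Agent.Lib.Leech.CertQ8x1.c12.1 (cntL_cons Cfsg.Agent.Lib.Leech.CertQ8x1.c13.1 (cntL_cons Cfsg.Agent.Lib.Leech.CertQ8x1.c14.1 (cntL_cons Cfsg.Agent.Lib.Leech.CertQ8x1.c15.1 (cntL_cons Cfsg.Agent.Lib.Leech.CertQ8x1.c16.1 (cntL_cons Cfsg.Agent.Lib.Leech.CertQ8x1.c17.1 (cntL_cons Cfsg.Agent.Lib.Leech.CertQ8x1.c18.1 (cntL_cons Cfsg.Agent.Lib.Leech.CertQ8x1.c19.1 (cntL_cons Cfsg.Agent.Lib.Leech.CertQ8x2.c20.1 (cntL_cons Cfsg.Agent.Lib.Leech.CertQ8x2.c21.1 (cntL_cons Cfsg.Agent.Lib.Leech.CertQ8x2.c22.1 (cntL_cons Cfsg.Agent.Lib.Leech.CertQ8x2.c23.1 (rfl))))))))))))))))))))))))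
  exact h

theorem t8Q2 : cntL Q2 L8 = 1 := by
  have h : cntL Q2 L8 = 1 + (0 + (0 + (0 + (0 + (0 + (0 + (0 + (0 + (0 + (0 + (0 + (0 + (0 + (0 + (0 + (0 + (0 + (0 + (0 + (0 + (0 + (0 + (0 + (0)))))))))))))))))))))))) :=
    cntL_cons Cfsg.Agent.Lib.Leech.CertQ8x0.c0.2.1 (cntL_cons Cfsg.Agent.Lib.Leech.CertQ8x0.c1.2.1 (cntL_cons Cfsg.Agent.Lib.Leech.CertQ8x0.c2.2.1 (cntL_cons Cfsg.Agent.Lib.Leech.CertQ8x0.c3.2.1 (cntL_cons Cfsg.Agent.Lib.Leech.CertQ8x0.c4.2.1 (cntL_cons Cfsg.Agent.Lib.Leech.CertQ8x0.c5.2.1 (cntL_cons Cfsg.Agent.Lib.Leech.CertQ8x0.c6.2.1 (cntL_cons Cfsg.Agent.Lib.Leech.CertQ8x0.c7.2.1 (cntL_cons Cfsg.Agent.Lib.Leech.CertQ8x0.c8.2.1 (cntL_cons Cfsg.Agent.Lib.Leech.CertQ8x0.c9.2.1 (cntL_cons Cfsg.Agent.Lib.Leech.CertQ8x1.c10.2.1 (cntL_cons Cfsg.Agent.Lib.Leech.CertQ8x1.c11.2.1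 (cntL_cons Cfsg.Agent.Lib.Leech.CertQ8x1.c12.2.1 (cntL_cons Cfsg.Agent.Lib.Leech.CertQ8x1.c13.2.1 (cntL_cons Cfsg.Agent.Lib.Leech.CertQ8x1.c14.2.1 (cntL_cons Cfsg.Agent.Lib.Leech.CertQ8x1.c15.2.1 (cntL_cons Cfsg.Agent.Lib.Leech.CertQ8x1.c16.2.1 (cntL_cons Cfsg.Agent.Lib.Leech.CertQ8x1.c17.2.1 (cntL_cons Cfsg.Agent.Lib.Leech.CertQ8x1.c18.2.1 (cntL_cons Cfsg.Agent.Lib.Leech.CertQ8x1.c19.2.1 (cntL_cons Cfsg.Agent.Lib.Leech.CertQ8x2.c20.2.1 (cntL_cons Cfsg.Agent.Lib.Leech.CertQ8x2.c21.2.1 (cntL_cons Cfsg.Agent.Lib.Leech.CertQ8x2.c22.2.1 (cntL_cons Cfsg.Agent.Lib.Leech.CertQ8x2.c23.2.1 (rfl))))))))))))))))))))))))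
  exact h

theorem t8Q3 : cntL Q3 L8 = 7128 := by
  have h : cntL Q3 L8 = 0 + (0 + (0 + (33 + (56 + (66 + (26 + (58 + (157 + (81 + (221 + (318 + (100 + (215 + (300 + (349 + (607 + (372 + (437 + (381 + (803 + (906 + (966 + (676 + (0)))))))))))))))))))))))) :=
    cntL_cons Cfsg.Agent.Lib.Leech.CertQ8x0.c0.2.2.1 (cntL_cons Cfsg.Agent.Lib.Leech.CertQ8x0.c1.2.2.1 (cntL_cons Cfsg.Agent.Lib.Leech.CertQ8x0.c2.2.2.1 (cntL_cons Cfsg.Agent.Lib.Leech.CertQ8x0.c3.2.2.1 (cntL_cons Cfsg.Agent.Lib.Leech.CertQ8x0.c4.2.2.1 (cntL_cons Cfsg.Agent.Lib.Leech.CertQ8x0.c5.2.2.1 (cntL_cons Cfsg.Agent.Lib.Leech.CertQ8x0.c6.2.2.1 (cntL_cons Cfsg.Agent.Lib.Leech.CertQ8x0.c7.2.2.1 (cntL_cons Cfsg.Agent.Lib.Leech.CertQ8x0.c8.2.2.1 (cntL_cons Cfsg.Agent.Lib.Leech.CertQ8x0.c9.2.2.1 (cntL_cons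 Cfsg.Agent.Lib.Leech.CertQ8x1.c10.2.2.1 (cntL_cons Cfsg.Agent.Lib.Leech.CertQ8x1.c11.2.2.1 (cntL_cons Cfsg.Agent.Lib.Leech.CertQ8x1.c12.2.2.1 (cntL_cons Cfsg.Agent.Lib.Leech.CertQ8x1.c13.2.2.1 (cntL_cons Cfsg.Agent.Lib.Leech.CertQ8x1.c14.2.2.1 (cntL_cons Cfsg.Agent.Lib.Leech.CertQ8x1.c15.2.2.1 (cntL_cons Cfsg.Agent.Lib.Leech.CertQ8x1.c16.2.2.1 (cntL_cons Cfsg.Agent.Lib.Leech.CertQ8x1.c17.2.2.1 (cntL_cons Cfsg.Agent.Lib.Leech.CertQ8x1.c18.2.2.1 (cntL_cons Cfsg.Agent.Lib.Leech.CertQ8x1.c19.2.2.1 (cntL_cons Cfsg.Agent.Lib.Leech.CertQ8x2.c20.2.2.1 (cntL_cons Cfsg.Agent.Lib.Leech.CertQ8x2.c21.2.2.1 (cntL_cons Cfsg.Agent.Lib.Leech.CertQ8x2.c22.2.2.1 (cntL_cons Cfsg.Agent.Lib.Leech.CertQ8x2.c23.2.2.1 (rfl))))))))))))))))))))))))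
  exact h

theorem t8Q4 : cntL Q4 L8 = 0 := by
  have h : cntL Q4 L8 = 0 + (0 + (0 + (0 + (0 + (0 + (0 + (0 + (0 + (0 + (0 + (0 + (0 + (0 + (0 + (0 + (0 + (0 + (0 + (0 + (0 + (0 + (0 + (0 + (0)))))))))))))))))))))))) :=
    cntL_cons Cfsg.Agent.Lib.Leech.CertQ8x0.c0.2.2.2 (cntL_cons Cfsg.Agent.Lib.Leech.CertQ8x0.c1.2.2.2 (cntL_cons Cfsg.Agent.Lib.Leech.CertQ8x0.c2.2.2.2 (cntL_cons Cfsg.Agent.Lib.Leech.CertQ8x0.c3.2.2.2 (cntL_cons Cfsg.Agent.Lib.Leech.CertQ8x0.c4.2.2.2 (cntL_cons Cfsg.Agent.Lib.Leech.CertQ8x0.c5.2.2.2 (cntL_cons Cfsg.Agent.Lib.Leech.CertQ8x0.c6.2.2.2 (cntL_cons Cfsg.Agent.Lib.Leech.CertQ8x0.c7.2.2.2 (cntL_cons Cfsg.Agent.Lib.Leech.CertQ8x0.c8.2.2.2 (cntL_cons Cfsg.Agent.Lib.Leech.CertQ8x0.c9.2.2.2 (cntL_cons Cfsg.Agent.Lib.Leech.CertQ8x1.c10.2.2.2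 (cntL_cons Cfsg.Agent.Lib.Leech.CertQ8x1.c11.2.2.2 (cntL_cons Cfsg.Agent.Lib.Leech.CertQ8x1.c12.2.2.2 (cntL_cons Cfsg.Agent.Lib.Leech.CertQ8x1.c13.2.2.2 (cntL_cons Cfsg.Agent.Lib.Leech.CertQ8x1.c14.2.2.2 (cntL_cons Cfsg.Agent.Lib.Leech.CertQ8x1.c15.2.2.2 (cntL_cons Cfsg.Agent.Lib.Leech.CertQ8x1.c16.2.2.2 (cntL_cons Cfsg.Agent.Lib.Leech.CertQ8x1.c17.2.2.2 (cntL_cons Cfsg.Agent.Lib.Leech.CertQ8x1.c18.2.2.2 (cntL_cons Cfsg.Agent.Lib.Leech.CertQ8x1.c19.2.2.2 (cntL_cons Cfsg.Agent.Lib.Leech.CertQ8x2.c20.2.2.2 (cntL_cons Cfsg.Agent.Lib.Leech.CertQ8x2.c21.2.2.2 (cntL_cons Cfsg.Agent.Lib.Leech.CertQ8x2.c22.2.2.2 (cntL_cons Cfsg.Agent.Lib.Leech.CertQ8x2.c23.2.2.2 (rfl))))))))))))))))))))))))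
  exact h

theorem t0Q1 : cntL Q1 L0 = 0 := by
  have h : cntL Q1 L0 = 0 + (0 + (0 + (0 + (0 + (0 + (0 + (0 + (0 + (0 + (0 + (0 + (0 + (0 + (0 + (0 + (0 + (0 + (0 + (0 + (0 + (0 + (0 + (0 + (0)))))))))))))))))))))))) :=
    cntL_cons Cfsg.Agent.Lib.Leech.CertQ0x0.c0.1 (cntL_cons Cfsg.Agent.Lib.Leech.CertQ0x0.c1.1 (cntL_cons Cfsg.Agent.Lib.Leech.CertQ0x0.c2.1 (cntL_cons Cfsg.Agent.Lib.Leech.CertQ0x0.c3.1 (cntL_cons Cfsg.Agent.Lib.Leech.CertQ0x0.c4.1 (cntL_cons Cfsg.Agent.Lib.Leech.CertQ0x0.c5.1 (cntL_cons Cfsg.Agent.Lib.Leech.CertQ0x0.c6.1 (cntL_cons Cfsg.Agent.Lib.Leech.CertQ0x0.c7.1 (cntL_cons Cfsg.Agent.Lib.Leech.CertQ0x0.c8.1 (cntL_cons Cfsg.Agent.Lib.Leech.CertQ0x0.c9.1 (cntL_cons Cfsg.Agent.Lib.Leech.CertQ0x1.c10.1 (cntL_cons Cfsg.Agent.Lib.Leech.CertQ0x1.c11.1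 (cntL_cons Cfsg.Agent.Lib.Leech.CertQ0x1.c12.1 (cntL_cons Cfsg.Agent.Lib.Leech.CertQ0x1.c13.1 (cntL_cons Cfsg.Agent.Lib.Leech.CertQ0x1.c14.1 (cntL_cons Cfsg.Agent.Lib.Leech.CertQ0x1.c15.1 (cntL_cons Cfsg.Agent.Lib.Leech.CertQ0x1.c16.1 (cntL_cons Cfsg.Agent.Lib.Leech.CertQ0x1.c17.1 (cntL_cons Cfsg.Agent.Lib.Leech.CertQ0x1.c18.1 (cntL_cons Cfsg.Agent.Lib.Leech.CertQ0x1.c19.1 (cntL_cons Cfsg.Agent.Lib.Leech.CertQ0x2.c20.1 (cntL_cons Cfsg.Agent.Lib.Leech.CertQ0x2.c21.1 (cntL_cons Cfsg.Agent.Lib.Leech.CertQ0x2.c22.1 (cntL_cons Cfsg.Agent.Lib.Leech.CertQ0x2.c23.1 (rfl))))))))))))))))))))))))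
  exact h

theorem t0Q2 : cntL Q2 L0 = 0 := by
  have h : cntL Q2 L0 = 0 + (0 + (0 + (0 + (0 + (0 + (0 + (0 + (0 + (0 + (0 + (0 + (0 + (0 + (0 + (0 + (0 + (0 + (0 + (0 + (0 + (0 + (0 + (0 + (0)))))))))))))))))))))))) :=
    cntL_cons Cfsg.Agent.Lib.Leech.CertQ0x0.c0.2.1 (cntL_cons Cfsg.Agent.Lib.Leech.CertQ0x0.c1.2.1 (cntL_cons Cfsg.Agent.Lib.Leech.CertQ0x0.c2.2.1 (cntL_cons Cfsg.Agent.Lib.Leech.CertQ0x0.c3.2.1 (cntL_cons Cfsg.Agent.Lib.Leech.CertQ0x0.c4.2.1 (cntL_cons Cfsg.Agent.Lib.Leech.CertQ0x0.c5.2.1 (cntL_cons Cfsg.Agent.Lib.Leech.CertQ0x0.c6.2.1 (cntL_cons Cfsg.Agent.Lib.Leech.CertQ0x0.c7.2.1 (cntL_cons Cfsg.Agent.Lib.Leech.CertQ0x0.c8.2.1 (cntL_cons Cfsg.Agent.Lib.Leech.CertQ0x0.c9.2.1 (cntL_cons Cfsg.Agent.Lib.Leech.CertQ0x1.c10.2.1 (cntL_cons Cfsg.Agent.Lib.Leech.CertQ0x1.c11.2.1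 (cntL_cons Cfsg.Agent.Lib.Leech.CertQ0x1.c12.2.1 (cntL_cons Cfsg.Agent.Lib.Leech.CertQ0x1.c13.2.1 (cntL_cons Cfsg.Agent.Lib.Leech.CertQ0x1.c14.2.1 (cntL_cons Cfsg.Agent.Lib.Leech.CertQ0x1.c15.2.1 (cntL_cons Cfsg.Agent.Lib.Leech.CertQ0x1.c16.2.1 (cntL_cons Cfsg.Agent.Lib.Leech.CertQ0x1.c17.2.1 (cntL_cons Cfsg.Agent.Lib.Leech.CertQ0x1.c18.2.1 (cntL_cons Cfsg.Agent.Lib.Leech.CertQ0x1.c19.2.1 (cntL_cons Cfsg.Agent.Lib.Leech.CertQ0x2.c20.2.1 (cntL_cons Cfsg.Agent.Lib.Leech.CertQ0x2.c21.2.1 (cntL_cons Cfsg.Agent.Lib.Leech.CertQ0x2.c22.2.1 (cntL_cons Cfsg.Agent.Lib.Leech.CertQ0x2.c23.2.1 (rfl))))))))))))))))))))))))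
  exact h

theorem t0Q3 : cntL Q3 L0 = 0 := by
  have h : cntL Q3 L0 = 0 + (0 + (0 + (0 + (0 + (0 + (0 + (0 + (0 + (0 + (0 + (0 + (0 + (0 + (0 + (0 + (0 + (0 + (0 + (0 + (0 + (0 + (0 + (0 + (0)))))))))))))))))))))))) :=
    cntL_cons Cfsg.Agent.Lib.Leech.CertQ0x0.c0.2.2.1 (cntL_cons Cfsg.Agent.Lib.Leech.CertQ0x0.c1.2.2.1 (cntL_cons Cfsg.Agent.Lib.Leech.CertQ0x0.c2.2.2.1 (cntL_cons Cfsg.Agent.Lib.Leech.CertQ0x0.c3.2.2.1 (cntL_cons Cfsg.Agent.Lib.Leech.CertQ0x0.c4.2.2.1 (cntL_cons Cfsg.Agent.Lib.Leech.CertQ0x0.c5.2.2.1 (cntL_cons Cfsg.Agent.Lib.Leech.CertQ0x0.c6.2.2.1 (cntL_cons Cfsg.Agent.Lib.Leech.CertQ0x0.c7.2.2.1 (cntL_cons Cfsg.Agent.Lib.Leech.CertQ0x0.c8.2.2.1 (cntL_cons Cfsg.Agent.Lib.Leech.CertQ0x0.c9.2.2.1 (cntL_cons Cfsg.Agent.Lib.Leech.CertQ0x1.c10.2.2.1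 (cntL_cons Cfsg.Agent.Lib.Leech.CertQ0x1.c11.2.2.1 (cntL_cons Cfsg.Agent.Lib.Leech.CertQ0x1.c12.2.2.1 (cntL_cons Cfsg.Agent.Lib.Leech.CertQ0x1.c13.2.2.1 (cntL_cons Cfsg.Agent.Lib.Leech.CertQ0x1.c14.2.2.1 (cntL_cons Cfsg.Agent.Lib.Leech.CertQ0x1.c15.2.2.1 (cntL_cons Cfsg.Agent.Lib.Leech.CertQ0x1.c16.2.2.1 (cntL_cons Cfsg.Agent.Lib.Leech.CertQ0x1.c17.2.2.1 (cntL_cons Cfsg.Agent.Lib.Leech.CertQ0x1.c18.2.2.1 (cntL_cons Cfsg.Agent.Lib.Leech.CertQ0x1.c19.2.2.1 (cntL_cons Cfsg.Agent.Lib.Leech.CertQ0x2.c20.2.2.1 (cntL_cons Cfsg.Agent.Lib.Leech.CertQ0x2.c21.2.2.1 (cntL_cons Cfsg.Agent.Lib.Leech.CertQ0x2.c22.2.2.1 (cntL_cons Cfsg.Agent.Lib.Leech.CertQ0x2.c23.2.2.1 (rfl))))))))))))))))))))))))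
  exact h

theorem t0Q4 : cntL Q4 L0 = 2025 := by
  have h : cntL Q4 L0 = 442 + (317 + (241 + (119 + (160 + (68 + (33 + (172 + (57 + (58 + (22 + (6 + (40 + (59 + (21 + (0 + (47 + (33 + (6 + (46 + (25 + (27 + (20 + (6 + (0)))))))))))))))))))))))) :=
    cntL_cons Cfsg.Agent.Lib.Leech.CertQ0x0.c0.2.2.2 (cntL_cons Cfsg.Agent.Lib.Leech.CertQ0x0.c1.2.2.2 (cntL_cons Cfsg.Agent.Lib.Leech.CertQ0x0.c2.2.2.2 (cntL_cons Cfsg.Agent.Lib.Leech.CertQ0x0.c3.2.2.2 (cntL_cons Cfsg.Agent.Lib.Leech.CertQ0x0.c4.2.2.2 (cntL_cons Cfsg.Agent.Lib.Leech.CertQ0x0.c5.2.2.2 (cntL_cons Cfsg.Agent.Lib.Leech.CertQ0x0.c6.2.2.2 (cntL_cons Cfsg.Agent.Lib.Leech.CertQ0x0.c7.2.2.2 (cntL_cons Cfsg.Agent.Lib.Leech.CertQ0x0.c8.2.2.2 (cntL_cons Cfsg.Agent.Lib.Leech.CertQ0x0.c9.2.2.2 (cntL_cons Cfsg.Agent.Lib.Leech.CertQ0x1.c10.2.2.2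 (cntL_cons Cfsg.Agent.Lib.Leech.CertQ0x1.c11.2.2.2 (cntL_cons Cfsg.Agent.Lib.Leech.CertQ0x1.c12.2.2.2 (cntL_cons Cfsg.Agent.Lib.Leech.CertQ0x1.c13.2.2.2 (cntL_cons Cfsg.Agent.Lib.Leech.CertQ0x1.c14.2.2.2 (cntL_cons Cfsg.Agent.Lib.Leech.CertQ0x1.c15.2.2.2 (cntL_cons Cfsg.Agent.Lib.Leech.CertQ0x1.c16.2.2.2 (cntL_cons Cfsg.Agent.Lib.Leech.CertQ0x1.c17.2.2.2 (cntL_cons Cfsg.Agent.Lib.Leech.CertQ0x1.c18.2.2.2 (cntL_cons Cfsg.Agent.Lib.Leech.CertQ0x1.c19.2.2.2 (cntL_cons Cfsg.Agent.Lib.Leech.CertQ0x2.c20.2.2.2 (cntL_cons Cfsg.Agent.Lib.Leech.CertQ0x2.c21.2.2.2 (cntL_cons Cfsg.Agent.Lib.Leech.CertQ0x2.c22.2.2.2 (cntL_cons Cfsg.Agent.Lib.Leech.CertQ0x2.c23.2.2.2 (rfl))))))))))))))))))))))))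
  exact h

theorem v1_Q : Q1 nV1 = true ∧ Q2 nV1 = false ∧ Q3 nV1 = false ∧ Q4 nV1 = false := by decide +kernel

theorem ncard_le_Q {r p q : ℕ} {Q Q' : ℕ → Bool} (h1 : ∀ x, dotIs x r p q = true → Q x = true)
    (h2 : ∀ x, dotIs x r q p = true → Q' x = true) : {w | Cl 32 [(r, p, q)] w}.ncard ≤
      (cntL Q L16 + cntL Q L8 + cntL Q L0 + cond (Q nV1) 1 0) +
      (cntL Q' L16 + cntL Q' L8 + cntL Q' L0 + cond (Q' nV1) 1 0) := by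
  refine (ncard_le_of_cover (C := fun w => w ∈ Cfsg.leechLattice ∧ sqNorm w = 32) cover32
    (fun w hw => ⟨hw.1, hw.2.1⟩) Q Q' (fun x hx => ?_) (fun x hx => ?_)).trans
    (Nat.add_le_add (Uall_filter_le Q) (Uall_filter_le Q'))
  · have := hx.2.2 (r, p, q) (by simp)
    exact h1 x (dotIs_iff.2 this)
  · have := hx.2.2 (r, p, q) (by simp)
    rw [Cfsg.Agent.Lib.Leech.Lat.dotInt_neg_left] at this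
    refine h2 x (dotIs_iff.2 ?_)
    simp only at this
    linarith

theorem count24 : {w | Cl 32 [(nU0, 24, 0)] w}.ncard ≤ 552 := by
  refine (ncard_le_Q (Q := Q1) (Q' := Q2) (fun x h => h) (fun x h => h)).trans ?_
  rw [t16Q1, t8Q1, t0Q1, t16Q2, t8Q2, t0Q2, v1_Q.1, v1_Q.2.1]
  decide

theorem count16 : {w | Cl 32 [(nU0, 16, 0)] w}.ncard ≤ 11178 := by
  refine (ncard_le_Q (Q := Q3) (Q' := Q4) (fun x h => h) (fun x h => h)).trans ?_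
  rw [t16Q3, t8Q3, t0Q3, t16Q4, t8Q4, t0Q4, v1_Q.2.2.1, v1_Q.2.2.2]
  decide

end Cfsg.Agent.Lib.Leech.CertCnt
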