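import Cfsg.Agent.Lib.Leech.CertBase

/-!
# Lists of vectors in deeper configurations

Completeness of a list from the count inside a list already known to be complete.
-/

set_option autoImplicit false

namespace Cfsg.Agent.Lib.Leech.CertLev

open Cfsg Cfsg.Agent.Lib.Golay.Core Cfsg.Agent.Lib.Leech.Basic Cfsg.Agent.Lib.Leech.Vec
  Cfsg.Agent.Lib.Leech.Cert Cfsg.Agent.Lib.Leech.CertData Cfsg.Agent.Lib.Leech.CertBase
  Cfsg.Agent.Lib.Leech.Word Cfsg.Agent.Lib.Leech.Lat Cfsg.Agent.Lib.Leech.Reach
  Cfsg.Agent.Lib.Leech.Count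

/-- The reference vector of norm 48. -/
def nU0 : ℕ := 895084981032584478931192657527490097

theorem nU0_inL : inL nU0 = true := by decide +kernel

theorem nU0_mem : dec nU0 ∈ leechLattice := mem_of_inL nU0_inL

theorem finite32 : {w : GolayPt → ℤ | w ∈ leechLattice ∧ sqNorm w = 32}.Finite := by
  apply Set.finite_of_ncard_ne_zero
  rw [ncard_norm32]
  norm_num

theorem finite_Cl (conds : List (ℕ × ℕ × ℕ)) : {w | Cl 32 conds w}.Finite :=
  finite32.subset fun _ hw => ⟨hw.1, hw.2.1⟩

/-- The count over the half system. -/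
theorem Uall_filter_le (Q : ℕ → Bool) :
    (Uall.filter fun x => Q x = true).card ≤ cntL Q L16 + cntL Q L8 + cntL Q L0 + cond (Q nV1) 1 0 := by
  classical
  have h1 := card_filter_unionL all16 chain16 Q
  have h2 := card_filter_unionL all8 chain8 Q
  have h3 := card_filter_unionL all0 chain0 Q
  unfold Uall U16 U8 U0
  rw [Finset.filter_union, Finset.filter_union, Finset.filter_union]
  refine (Finset.card_union_le _ _).trans (Nat.add_le_add ?_ ?_)
  · refine (Finset.card_union_le _ _).trans (Nat.add_le_add ?_ h3.le)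
    refine (Finset.card_union_le _ _).trans (Nat.add_le_add h1.le h2.le)
  · cases h : Q nV1 with
    | true =>
      show _ ≤ 1
      exact (Finset.card_filter_le _ _).trans (by simp)
    | false =>
      show _ ≤ 0
      rw [Finset.filter_singleton, if_neg (by simp [h])]
      simp

/-- The class of vectors with an inner product with one vector, from the half system. -/
theorem ncard_le_Uall (r p q : ℕ) : {w | Cl 32 [(r, p, q)] w}.ncard ≤
    (Uall.filter fun x => dotIs x r p q = true).card + (Uall.filter fun x => dotIs x r q p = true).card := by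
  refine ncard_le_of_cover (C := fun w => w ∈ leechLattice ∧ sqNorm w = 32) cover32
    (fun w hw => ⟨hw.1, hw.2.1⟩) _ _ (fun x hx => ?_) (fun x hx => ?_)
  · have := hx.2.2 (r, p, q) (by simp)
    exact dotIs_iff.2 this
  · have := hx.2.2 (r, p, q) (by simp)
    rw [dotInt_neg_left] at this
    refine dotIs_iff.2 ?_
    simp only at this
    linarith

/-- The class with more conditions is a filter of the class with fewer. -/
theorem count_child {c0 c1 : List (ℕ × ℕ × ℕ)} (hsub : ∀ c ∈ c0, c ∈ c1) {U : Finset ℕ}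
    (hc : ∀ w, Cl 32 c0 w → ∃ x ∈ U, dec x = w) :
    {w | Cl 32 c1 w}.ncard ≤ (U.filter fun x => condsB c1 x = true).card := by
  classical
  have h1 : {w | Cl 32 c1 w} ⊆ (((U.filter fun x => condsB c1 x = true).image dec : Finset _) :
      Set (GolayPt → ℤ)) := by
    intro w hw
    obtain ⟨x, hx, rfl⟩ := hc w ⟨hw.1, hw.2.1, fun c h => hw.2.2 c (hsub c h)⟩
    refine Finset.mem_coe.2 (Finset.mem_image_of_mem _ (Finset.mem_filter.2 ⟨hx, ?_⟩))
    unfold condsB
    rw [List.all_eq_true]
    intro c h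
    exact dotIs_iff.2 (hw.2.2 c h)
  refine (Set.ncard_le_ncard h1 (Finset.finite_toSet _)).trans ?_
  rw [Set.ncard_coe_finset]
  exact Finset.card_image_le

section

variable {conds : List (ℕ × ℕ × ℕ)} {R : List ℕ} {root tab NT : ℕ} {words : List (List (ℕ × ℕ))}
  {L : List Chunk}

theorem cl_of_chunks (hL : ∀ e ∈ L, chunkB (pointB (classB 32 conds) root tab NT words) e = true)
    {x : ℕ} (hx : x ∈ unionL L) : Cl 32 conds (dec x) := by
  obtain ⟨k, hk⟩ := mem_unionL_P hL hx
  simp only [pointB, Bool.and_eq_true] at hk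
  exact classB_iff.1 hk.1

theorem cover_of_le (hL : ∀ e ∈ L, chunkB (pointB (classB 32 conds) root tab NT words) e = true)
    (hc : {w | Cl 32 conds w}.ncard ≤ (unionL L).card) :
    ∀ w, Cl 32 conds w → ∃ x ∈ unionL L, dec x = w :=
  cover_of_card (fun x hx => cl_of_chunks hL hx) (fun x hx => mem_unionL_lt hx) (finite_Cl conds) hc

theorem level_rel (hL : ∀ e ∈ L, chunkB (pointB (classB 32 conds) root tab NT words) e = true)
    (hT : TabIn (FixG R) tab NT) (hW : ∀ w ∈ words, wG w ∈ FixG R)
    (hR : ∀ c ∈ conds, c.1 ∈ R ∧ dec c.1 ∈ leechLattice)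
    (hc : ∀ w, Cl 32 conds w → ∃ x ∈ unionL L, dec x = w) {w : GolayPt → ℤ}
    (hw : Cl 32 conds w) : Rel (FixG R) w (dec root) := by
  obtain ⟨x, hx, rfl⟩ := hc w hw
  refine rel_of_chunks (clB := classB 32 conds) (fun x h => (classB_iff.1 h).1) hL hT hW ?_ x hx
  exact closed_of_cover hR (fun x hx => mem_unionL_lt hx) (fun x hx => cl_of_chunks hL hx) hc

theorem level_ncard (hL : ∀ e ∈ L, chunkB (pointB (classB 32 conds) root tab NT words) e = true)
    (hc : ∀ w, Cl 32 conds w → ∃ x ∈ unionL L, dec x = w) :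
    {w | Cl 32 conds w}.ncard = (unionL L).card :=
  ncard_of_cover (fun x hx => cl_of_chunks hL hx) (fun x hx => mem_unionL_lt hx) hc

end

end Cfsg.Agent.Lib.Leech.CertLev
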