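import Cfsg.Agent.Lib.Leech.CertRefs

/-! # Counting minimal vectors by inner product with a vector of norm 48: the predicates -/

set_option autoImplicit false

namespace Cfsg.Agent.Lib.Leech.CertQ

open Cfsg Cfsg.Agent.Lib.Leech.Vec Cfsg.Agent.Lib.Leech.Cert Cfsg.Agent.Lib.Leech.CertData Cfsg.Agent.Lib.Leech.CertBase Cfsg.Agent.Lib.Leech.CertLev

/-- Inner product 24. -/
def Q1 (x : ℕ) : Bool := dotIs x nU0 24 0

/-- Inner product -24. -/
def Q2 (x : ℕ) : Bool := dotIs x nU0 0 24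

/-- Inner product 16. -/
def Q3 (x : ℕ) : Bool := dotIs x nU0 16 0

/-- Inner product -16. -/
def Q4 (x : ℕ) : Bool := dotIs x nU0 0 16

end Cfsg.Agent.Lib.Leech.CertQ
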