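import Cfsg.Agent.Lib.Leech.CertQ

/-! # Counting minimal vectors by inner product with a vector of norm 48: a part of the lists -/

set_option autoImplicit false

namespace Cfsg.Agent.Lib.Leech.CertQ16x0

open Cfsg.Agent.Lib.Leech.Cert Cfsg.Agent.Lib.Leech.CertQ

theorem c0 : cntB Q1 Cfsg.Agent.Lib.Leech.CertB16x0.e0 = 0 ∧ cntB Q2 Cfsg.Agent.Lib.Leech.CertB16x0.e0 = 0 ∧ cntB Q3 Cfsg.Agent.Lib.Leech.CertB16x0.e0 = 466 ∧ cntB Q4 Cfsg.Agent.Lib.Leech.CertB16x0.e0 = 0 := by decide +kernel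

theorem c1 : cntB Q1 Cfsg.Agent.Lib.Leech.CertB16x0.e1 = 117 ∧ cntB Q2 Cfsg.Agent.Lib.Leech.CertB16x0.e1 = 0 ∧ cntB Q3 Cfsg.Agent.Lib.Leech.CertB16x0.e1 = 1173 ∧ cntB Q4 Cfsg.Agent.Lib.Leech.CertB16x0.e1 = 0 := by decide +kernel

theorem c2 : cntB Q1 Cfsg.Agent.Lib.Leech.CertB16x0.e2 = 158 ∧ cntB Q2 Cfsg.Agent.Lib.Leech.CertB16x0.e2 = 0 ∧ cntB Q3 Cfsg.Agent.Lib.Leech.CertB16x0.e2 = 386 ∧ cntB Q4 Cfsg.Agent.Lib.Leech.CertB16x0.e2 = 0 := by decide +kernel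

end Cfsg.Agent.Lib.Leech.CertQ16x0
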