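import Cfsg.Agent.Lib.Leech.CertLev

/-! # Reference vectors of the deeper configurations -/

set_option autoImplicit false

namespace Cfsg.Agent.Lib.Leech.CertRefs

open Cfsg Cfsg.Agent.Lib.Leech.Vec Cfsg.Agent.Lib.Leech.Cert

/-- A vector in the configuration of the third Conway group. -/
def nX0 : ℕ := 852368917864738986717042072302928400

theorem nX0_mem : dec nX0 ∈ Cfsg.leechLattice := mem_of_inL (by decide +kernel)

/-- A vector in the configuration of the Higman-Sims group. -/
def nX1 : ℕ := 847014361729374945725119997963420176

theorem nX1_mem : dec nX1 ∈ Cfsg.leechLattice := mem_of_inL (by decide +kernel)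

end Cfsg.Agent.Lib.Leech.CertRefs
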