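import Cfsg.Agent.Lib.Leech.Index

/-!
# Classes of the lattice modulo twice the lattice

Every class contains a vector of sum of squares at most 64; classes of norm 64 vectors have
exactly 48 short vectors.
-/

set_option autoImplicit false
set_option maxRecDepth 100000

namespace Cfsg.Agent.Lib.Leech.Classes

open Cfsg Cfsg.Agent.Lib.Golay.Core Cfsg.Agent.Lib.Leech.Basic Cfsg.Agent.Lib.Leech.Even
  Cfsg.Agent.Lib.Leech.Lat Cfsg.Agent.Lib.Leech.Mon Cfsg.Agent.Lib.Leech.Count
  Cfsg.Agent.Lib.Leech.Index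

/-! ### Frames have at most 48 vectors -/

section Frame

variable (C : Finset (GolayPt → ℤ))

theorem dotInt_sum_right (x : GolayPt → ℤ) (a : (GolayPt → ℤ) → ℤ) :
    dotInt x (∑ w ∈ C, a w • w) = ∑ w ∈ C, a w * dotInt x w := by
  unfold dotInt
  simp only [Finset.sum_apply, Pi.smul_apply, smul_eq_mul, Finset.mul_sum]
  rw [Finset.sum_comm]
  refine Finset.sum_congr rfl fun w _ => Finset.sum_congr rfl fun i _ => by ring

theorem card_le_48 (hn : ∀ v ∈ C, sqNorm v = 64) (hs : ∀ v ∈ C, -v ∈ C)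
    (ho : ∀ v ∈ C, ∀ w ∈ C, w ≠ v → w ≠ -v → dotInt v w = 0) : C.card ≤ 48 := by
  set s : GolayPt → ℤ := fun j => ∑ v ∈ C, v j ^ 2 with hsdef
  set u : GolayPt → (GolayPt → ℤ) := fun j => ∑ v ∈ C, v j • v with hu
  have hne : ∀ v ∈ C, -v ≠ v := by
    intro v hv h
    have h1 := hn v hv
    have h2 : v = 0 := by
      funext i
      have := congrFun h i
      simp only [Pi.neg_apply] at this
      simp only [Pi.zero_apply]
      omega
    rw [h2] at h1
    simp [sqNorm] at h1
  have hinner : ∀ j, ∀ v ∈ C, ∑ w ∈ C, w j * dotInt v w = 128 * v j := by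
    intro j v hv
    have h1 : ∑ w ∈ C, w j * dotInt v w = v j * dotInt v v + (-v) j * dotInt v (-v) := by
      apply Finset.sum_eq_add_of_mem v (-v) hv (hs v hv) (Ne.symm (hne v hv))
      intro w hw hwne
      rw [ho v hv w hw hwne.1 hwne.2, mul_zero]
    rw [h1, dotInt_neg_right, dotInt_self, hn v hv, Pi.neg_apply]
    ring
  have hnorm : ∀ j, sqNorm (u j) = 128 * s j := by
    intro j
    rw [← dotInt_self]
    show dotInt (∑ v ∈ C, v j • v) (u j) = _
    have h1 : dotInt (∑ v ∈ C, v j • v) (u j) = ∑ v ∈ C, v j * dotInt v (u j) := by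
      rw [dotInt_comm, dotInt_sum_right]
      exact Finset.sum_congr rfl fun v _ => by rw [dotInt_comm]
    rw [h1]
    have h2 : ∀ v ∈ C, v j * dotInt v (u j) = 128 * v j ^ 2 := by
      intro v hv
      rw [hu, dotInt_sum_right, hinner j v hv]
      ring
    rw [Finset.sum_congr rfl h2, ← Finset.mul_sum]
  have hcoord : ∀ j, u j j = s j := by
    intro j
    simp only [hu, hsdef, Finset.sum_apply, Pi.smul_apply, smul_eq_mul]
    exact Finset.sum_congr rfl fun v _ => by ring
  have hle : ∀ j, s j ≤ 128 := by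
    intro j
    have h1 : u j j ^ 2 ≤ sqNorm (u j) :=
      Finset.single_le_sum (f := fun i => u j i ^ 2) (fun _ _ => sq_nonneg _) (Finset.mem_univ j)
    rw [hcoord, hnorm] at h1
    have h2 : 0 ≤ s j := Finset.sum_nonneg fun _ _ => sq_nonneg _
    by_contra hc
    push Not at hc
    nlinarith
  have hsum : ∑ j, s j = 64 * C.card := by
    simp only [hsdef]
    rw [Finset.sum_comm]
    have : ∀ v ∈ C, ∑ j, v j ^ 2 = 64 := fun v hv => hn v hv
    rw [Finset.sum_congr rfl this, Finset.sum_const]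
    simp [mul_comm]
  have hfin : ∑ j, s j ≤ ∑ _j : GolayPt, 128 := Finset.sum_le_sum fun j _ => hle j
  rw [Finset.sum_const] at hfin
  have h3 : (Finset.univ : Finset GolayPt).card = 24 := by simpa using card_golayPt
  rw [h3, hsum] at hfin
  simp only [nsmul_eq_mul, Nat.cast_ofNat] at hfin
  omega

end Frame

/-! ### The quotient -/

/-- Twice the lattice, as a subgroup of the lattice. -/
def K0 : AddSubgroup L := twoL.addSubgroupOf leechLattice

/-- The quotient. -/
abbrev Q := L ⧸ K0

theorem card_Q : Nat.card Q = 2 ^ 24 := relIndex_twoL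

theorem finite_Q : Finite Q := Nat.finite_of_card_ne_zero (by rw [card_Q]; norm_num)

/-- The class of a vector. -/
def cl (v : L) : Q := QuotientAddGroup.mk v

theorem cl_eq_iff {v w : L} : cl v = cl w ↔ ∃ z ∈ leechLattice, (v : GolayPt → ℤ) - w = (2 : ℕ) • z := by
  unfold cl
  rw [eq_comm, QuotientAddGroup.eq]
  show ((-w + v : L) : GolayPt → ℤ) ∈ twoL ↔ _
  rw [mem_twoL]
  have : ((-w + v : L) : GolayPt → ℤ) = (v : GolayPt → ℤ) - w := by
    show -(w : GolayPt → ℤ) + v = _
    abel
  rw [this]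

/-- Vectors of small norm have norm 0, 32, 48 or 64. -/
theorem norm_cases (v : L) (h : sqNorm (v : GolayPt → ℤ) ≤ 64) :
    sqNorm (v : GolayPt → ℤ) = 0 ∨ sqNorm (v : GolayPt → ℤ) = 32 ∨ sqNorm (v : GolayPt → ℤ) = 48 ∨
      sqNorm (v : GolayPt → ℤ) = 64 := by
  have h1 := dvd_sqNorm _ v.2
  by_cases h0 : (v : GolayPt → ℤ) = 0
  · left
    rw [h0]
    simp [sqNorm]
  · have h2 := min_norm' v.2 h0
    omega

/-- The finite set of short vectors. -/
theorem finite_short : {v : L | sqNorm (v : GolayPt → ℤ) ≤ 64}.Finite := by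
  apply Set.Finite.of_finite_image (f := Subtype.val) _ Subtype.val_injective.injOn
  apply Set.Finite.subset (Fintype.piFinset fun _ : GolayPt => Vall).finite_toSet
  rintro _ ⟨v, hv, rfl⟩
  simp only [Finset.mem_coe, Fintype.mem_piFinset]
  intro i
  exact mem_Vall_of_natAbs (natAbs_le_of_sqNorm rfl hv i)

/-- The short vectors. -/
noncomputable def Sh : Finset L := finite_short.toFinset

@[simp] theorem mem_Sh {v : L} : v ∈ Sh ↔ sqNorm (v : GolayPt → ℤ) ≤ 64 := by
  simp [Sh]

/-- The weight of a short vector. -/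
def wt (v : L) : ℕ :=
  if sqNorm (v : GolayPt → ℤ) = 0 then 48 else if sqNorm (v : GolayPt → ℤ) = 64 then 1 else 24

theorem ncard_L (N : ℤ) (S : Set (GolayPt → ℤ)) (h : S = {x | x ∈ leechLattice ∧ sqNorm x = N}) :
    {v : L | sqNorm (v : GolayPt → ℤ) = N}.ncard = S.ncard := by
  rw [← Set.ncard_image_of_injective _ Subtype.val_injective]
  congr 1
  rw [h]
  ext x
  simp only [Set.mem_image, Set.mem_setOf_eq]
  constructor
  · rintro ⟨v, hv, rfl⟩
    exact ⟨v.2, hv⟩
  · rintro ⟨h1, h2⟩
    exact ⟨⟨x, h1⟩, h2, rfl⟩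

open Classical in
/-- Counting a finite filter through the `ncard`. -/
theorem card_filter_Sh (N : ℤ) (hN : N ≤ 64) :
    (Sh.filter fun v : L => sqNorm (v : GolayPt → ℤ) = N).card =
      {v : L | sqNorm (v : GolayPt → ℤ) = N}.ncard := by
  rw [← Set.ncard_coe_finset]
  congr 1
  ext v
  simp only [Finset.coe_filter, mem_Sh, Set.mem_setOf_eq]
  constructor
  · exact fun h => h.2
  · exact fun h => ⟨by omega, h⟩

open Classical in
theorem sum_wt : ∑ v ∈ Sh, wt v = 48 * 2 ^ 24 := by
  have h0 : {v : L | sqNorm (v : GolayPt → ℤ) = 0}.ncard = 1 := by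
    rw [Set.ncard_eq_one]
    refine ⟨0, ?_⟩
    ext v
    simp only [Set.mem_setOf_eq, Set.mem_singleton_iff]
    constructor
    · intro h
      exact Subtype.ext (sqNorm_eq_zero h)
    · rintro rfl
      simp [sqNorm]
  have h32 : {v : L | sqNorm (v : GolayPt → ℤ) = 32}.ncard = 196560 := by
    rw [ncard_L 32 _ rfl]; exact ncard_norm32
  have h48 : {v : L | sqNorm (v : GolayPt → ℤ) = 48}.ncard = 16773120 := by
    rw [ncard_L 48 _ rfl]; exact ncard_norm48
  have h64 : {v : L | sqNorm (v : GolayPt → ℤ) = 64}.ncard = 398034000 := by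
    rw [ncard_L 64 _ rfl]; exact ncard_norm64
  have h1 : ∑ v ∈ Sh, wt v = ∑ N ∈ ({0, 32, 48, 64} : Finset ℤ),
      ∑ v ∈ Sh.filter (fun v : L => sqNorm (v : GolayPt → ℤ) = N), wt v := by
    symm
    apply Finset.sum_fiberwise_of_maps_to
    intro v hv
    have := norm_cases v (mem_Sh.1 hv)
    simpa using this
  rw [h1, Finset.sum_insert (by decide), Finset.sum_insert (by decide), Finset.sum_insert (by decide),
    Finset.sum_singleton]
  have h2 : ∀ N : ℤ, ∑ v ∈ Sh.filter (fun v : L => sqNorm (v : GolayPt → ℤ) = N), wt v =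
      (Sh.filter (fun v : L => sqNorm (v : GolayPt → ℤ) = N)).card *
        (if N = 0 then 48 else if N = 64 then 1 else 24) := by
    intro N
    rw [Finset.sum_congr rfl (g := fun _ => (if N = 0 then 48 else if N = 64 then 1 else 24))
      fun v hv => by
        unfold wt
        rw [(Finset.mem_filter.1 hv).2], Finset.sum_const, smul_eq_mul]
  rw [h2, h2, h2, h2, card_filter_Sh 0 (by norm_num), card_filter_Sh 32 (by norm_num),
    card_filter_Sh 48 (by norm_num), card_filter_Sh 64 (by norm_num), h0, h32, h48, h64]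
  norm_num

open Classical in
/-- The vectors of `Sh` in a class. -/
noncomputable def cls (q : Q) : Finset L := Sh.filter fun v => cl v = q

theorem mem_cls {q : Q} {v : L} : v ∈ cls q ↔ sqNorm (v : GolayPt → ℤ) ≤ 64 ∧ cl v = q := by
  simp [cls]

theorem cls_of_lt {q : Q} {v u : L} (hv : v ∈ cls q) (hu : u ∈ cls q)
    (hlt : sqNorm (v : GolayPt → ℤ) < 64) : u = v ∨ u = -v := by
  by_cases h : u = v
  · exact Or.inl h
  right
  obtain ⟨h1, h2⟩ := mem_cls.1 hv
  obtain ⟨h3, h4⟩ := mem_cls.1 hu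
  have h5 : cl u = cl v := h4.trans h2.symm
  rcases short_congruent u.2 v.2 (fun h' => h (Subtype.ext h')) h3 h1 (cl_eq_iff.1 h5) with h6 | h6
  · exact Subtype.ext h6
  · omega

theorem cl_neg (v : L) : cl (-v) = cl v := by
  rw [cl_eq_iff]
  refine ⟨-v.1, leechLattice.neg_mem v.2, ?_⟩
  show -(v : GolayPt → ℤ) - v = (2 : ℕ) • (-(v : GolayPt → ℤ))
  rw [two_nsmul]
  abel

theorem sqNorm_neg_L (v : L) : sqNorm ((-v : L) : GolayPt → ℤ) = sqNorm (v : GolayPt → ℤ) :=
  sqNorm_neg _

open Classical in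
theorem sum_cls_le (q : Q) : ∑ v ∈ cls q, wt v ≤ 48 := by
  by_cases hex : ∃ v ∈ cls q, sqNorm (v : GolayPt → ℤ) < 64
  · obtain ⟨v, hv, hlt⟩ := hex
    have hsub : cls q ⊆ {v, -v} := by
      intro u hu
      simp only [Finset.mem_insert, Finset.mem_singleton]
      exact cls_of_lt hv hu hlt
    have h1 := Finset.sum_le_sum_of_subset_of_nonneg (f := wt) hsub (fun _ _ _ => Nat.zero_le _)
    refine h1.trans ?_
    rcases norm_cases v (by omega) with h | h | h | h
    · have h0 : v = 0 := Subtype.ext (sqNorm_eq_zero h)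
      subst h0
      simp [wt, sqNorm]
    · by_cases hvv : v = -v
      · rw [← hvv]
        simp [wt, h]
      · rw [Finset.sum_pair hvv]
        simp [wt, sqNorm_neg, h]
    · by_cases hvv : v = -v
      · rw [← hvv]
        simp [wt, h]
      · rw [Finset.sum_pair hvv]
        simp [wt, sqNorm_neg, h]
    · omega
  · push Not at hex
    have hn : ∀ v ∈ cls q, sqNorm (v : GolayPt → ℤ) = 64 := by
      intro v hv
      have h1 := hex v hv
      have h2 := (mem_cls.1 hv).1
      omega
    have h1 : ∑ v ∈ cls q, wt v = (cls q).card := by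
      rw [Finset.card_eq_sum_ones]
      refine Finset.sum_congr rfl fun v hv => ?_
      simp [wt, hn v hv]
    rw [h1]
    have h2 : ((cls q).image Subtype.val).card = (cls q).card :=
      Finset.card_image_of_injective _ Subtype.val_injective
    rw [← h2]
    apply card_le_48
    · intro x hx
      obtain ⟨v, hv, rfl⟩ := Finset.mem_image.1 hx
      exact hn v hv
    · intro x hx
      obtain ⟨v, hv, rfl⟩ := Finset.mem_image.1 hx
      refine Finset.mem_image.2 ⟨-v, ?_, rfl⟩
      obtain ⟨h3, h4⟩ := mem_cls.1 hv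
      exact mem_cls.2 ⟨by rw [sqNorm_neg_L]; exact h3, by rw [cl_neg]; exact h4⟩
    · intro x hx y hy hne hne'
      obtain ⟨v, hv, rfl⟩ := Finset.mem_image.1 hx
      obtain ⟨u, hu, rfl⟩ := Finset.mem_image.1 hy
      obtain ⟨h3, h4⟩ := mem_cls.1 hv
      obtain ⟨h5, h6⟩ := mem_cls.1 hu
      have h7 : cl v = cl u := h4.trans h6.symm
      rcases short_congruent v.2 u.2 (fun h => hne h.symm) h3 h5 (cl_eq_iff.1 h7) with h8 | h8
      · exact absurd (by rw [h8]; simp) hne'
      · exact h8.2.2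

open Classical in
/-- Every class carries total weight 48. -/
theorem sum_cls (q : Q) : ∑ v ∈ cls q, wt v = 48 := by
  haveI := finite_Q
  haveI : Fintype Q := Fintype.ofFinite Q
  have h1 : ∑ q : Q, ∑ v ∈ cls q, wt v = ∑ _q : Q, 48 := by
    have h2 : ∑ q : Q, ∑ v ∈ cls q, wt v = ∑ v ∈ Sh, wt v := by
      apply Finset.sum_fiberwise_of_maps_to
      intro v _
      exact Finset.mem_univ _
    rw [h2, sum_wt, Finset.sum_const, Finset.card_univ, ← Nat.card_eq_fintype_card, card_Q]
    simp [mul_comm]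
  exact (Finset.sum_eq_sum_iff_of_le fun q _ => sum_cls_le q).1 h1 q (Finset.mem_univ q)

/-- Every class contains a short vector. -/
theorem exists_short (v : L) : ∃ u ∈ cls (cl v), True := by
  by_contra hcon
  push Not at hcon
  have h1 := sum_cls (cl v)
  have h2 : cls (cl v) = ∅ := by
    apply Finset.eq_empty_of_forall_notMem
    intro u hu
    exact hcon u hu
  rw [h2] at h1
  simp at h1

/-- Every class modulo twice the lattice has a representative of sum of squares at most 64. -/
theorem short_rep {x : GolayPt → ℤ} (hx : x ∈ leechLattice) :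
    ∃ y ∈ leechLattice, sqNorm y ≤ 64 ∧ ∃ z ∈ leechLattice, x - y = (2 : ℕ) • z := by
  obtain ⟨u, hu, -⟩ := exists_short ⟨x, hx⟩
  obtain ⟨h1, h2⟩ := mem_cls.1 hu
  obtain ⟨z, hz, h3⟩ := cl_eq_iff.1 h2.symm
  exact ⟨u, u.2, h1, z, hz, h3⟩

open Classical in
/-- The cross of a vector of norm 64 has 48 members. -/
theorem ncard_cross {x : GolayPt → ℤ} (hx : x ∈ leechLattice) (hn : sqNorm x = 64) :
    (cross x).ncard = 48 := by
  let v : L := ⟨x, hx⟩
  have hall : ∀ u ∈ cls (cl v), sqNorm (u : GolayPt → ℤ) = 64 := by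
    intro u hu
    by_contra hne
    obtain ⟨h1, h2⟩ := mem_cls.1 hu
    have hv : v ∈ cls (cl v) := mem_cls.2 ⟨by show sqNorm x ≤ 64; omega, rfl⟩
    have h3 : sqNorm (u : GolayPt → ℤ) < 64 := by omega
    rcases cls_of_lt hu hv h3 with h4 | h4
    · rw [← h4] at hne
      exact hne hn
    · have := sqNorm_neg_L u
      rw [← h4] at this
      have h5 : sqNorm (v : GolayPt → ℤ) = 64 := hn
      omega
  have h1 := sum_cls (cl v)
  have h2 : ∑ u ∈ cls (cl v), wt u = (cls (cl v)).card := by
    rw [Finset.card_eq_sum_ones]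
    refine Finset.sum_congr rfl fun u hu => ?_
    simp [wt, hall u hu]
  rw [h2] at h1
  have h3 : cross x = ((cls (cl v)).image Subtype.val : Finset (GolayPt → ℤ)) := by
    ext y
    simp only [cross, Set.mem_setOf_eq, Finset.coe_image, Set.mem_image, Finset.mem_coe]
    constructor
    · rintro ⟨hy, hyn, hz⟩
      refine ⟨⟨y, hy⟩, mem_cls.2 ⟨?_, ?_⟩, rfl⟩
      · show sqNorm y ≤ 64
        omega
      · symm
        exact cl_eq_iff.2 hz
    · rintro ⟨u, hu, rfl⟩
      obtain ⟨h4, h5⟩ := mem_cls.1 hu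
      refine ⟨u.2, by rw [hall u hu, hn], cl_eq_iff.1 h5.symm⟩
  rw [h3, Set.ncard_coe_finset, Finset.card_image_of_injective _ Subtype.val_injective, h1]

end Cfsg.Agent.Lib.Leech.Classes
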