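import Cfsg.Agent.Lib.Leech.Order
import Cfsg.Agent.Lib.Leech.Center

/-!
# The module `Λ / 2Λ`

An automorphism acting trivially modulo twice the lattice is central, and the module is irreducible.
-/

set_option autoImplicit false

namespace Cfsg.Agent.Lib.Leech.Module

open Cfsg Cfsg.Agent.Lib.Golay.Core Cfsg.Agent.Lib.Golay.Perm
  Cfsg.Agent.Lib.Leech.Basic Cfsg.Agent.Lib.Leech.Lat Cfsg.Agent.Lib.Leech.Gen
  Cfsg.Agent.Lib.Leech.Mon Cfsg.Agent.Lib.Leech.Packed Cfsg.Agent.Lib.Leech.Vec
  Cfsg.Agent.Lib.Leech.Reach Cfsg.Agent.Lib.Leech.Trans Cfsg.Agent.Lib.Leech.Count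
  Cfsg.Agent.Lib.Leech.Order Cfsg.Agent.Lib.Leech.Center Cfsg.Agent.Lib.Leech.NF
open scoped Pointwise

/-! ### Vectors `± 4 e_i ± 4 e_j` -/

/-- The vector `4 e_i + s e_j`. -/
def u44 (i j : GolayPt) (s : ℤ) : GolayPt → ℤ := Pi.single i 4 + Pi.single j s

theorem u44_mem (i j : GolayPt) {s : ℤ} (hs : s = 4 ∨ s = -4) : u44 i j s ∈ leechLattice := by
  apply mem_of_four
  · intro k
    simp only [u44, Pi.add_apply]
    apply dvd_add
    · by_cases hk : k = i
      · subst hk
        simp
      · simp [Pi.single_eq_of_ne hk]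
    · by_cases hk : k = j
      · subst hk
        rw [Pi.single_eq_same]
        rcases hs with rfl | rfl <;> norm_num
      · simp [Pi.single_eq_of_ne hk]
  · simp only [u44, Pi.add_apply]
    rw [Finset.sum_add_distrib, Finset.sum_pi_single', Finset.sum_pi_single']
    simp only [Finset.mem_univ, if_true]
    rcases hs with rfl | rfl <;> norm_num

theorem sqNorm_u44 {i j : GolayPt} (hij : i ≠ j) {s : ℤ} (hs : s = 4 ∨ s = -4) :
    sqNorm (u44 i j s) = 32 := by
  unfold sqNorm u44
  have h : ∀ k, ((Pi.single i 4 + Pi.single j s : GolayPt → ℤ) k) ^ 2 =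
      (Pi.single i 16 : GolayPt → ℤ) k + (Pi.single j 16 : GolayPt → ℤ) k := by
    intro k
    simp only [Pi.add_apply]
    by_cases hk : k = i
    · subst hk
      rw [Pi.single_eq_same, Pi.single_eq_same, Pi.single_eq_of_ne hij, Pi.single_eq_of_ne hij]
      norm_num
    · rw [Pi.single_eq_of_ne hk, Pi.single_eq_of_ne hk]
      by_cases hk' : k = j
      · subst hk'
        rw [Pi.single_eq_same, Pi.single_eq_same]
        rcases hs with rfl | rfl <;> norm_num
      · rw [Pi.single_eq_of_ne hk', Pi.single_eq_of_ne hk']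
        norm_num
  rw [Finset.sum_congr rfl fun k _ => h k, Finset.sum_add_distrib, Finset.sum_pi_single',
    Finset.sum_pi_single']
  simp

/-! ### The kernel of the action on `Λ / 2Λ` -/

section kernel

variable {g : Co0} (H : ∀ v : L, ∃ w : L, ((g • v : L) : GolayPt → ℤ) - (v : GolayPt → ℤ) = 2 • (w : GolayPt → ℤ))
include H

theorem smul_short {v : L} (hv : sqNorm (v : GolayPt → ℤ) < 64) : g • v = v ∨ g • v = -v := by
  by_cases h : g • v = v
  · exact Or.inl h
  · right
    have hne : ((g • v : L) : GolayPt → ℤ) ≠ v := fun h' => h (Subtype.ext h')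
    obtain ⟨w, hw⟩ := H v
    rcases short_congruent (g • v).2 v.2 hne (by rw [sqNorm_smul]; omega) (by omega)
      ⟨w.1, w.2, hw⟩ with h1 | h1
    · exact Subtype.ext h1
    · omega

theorem smul_e8_single (i : GolayPt) : ∃ s : ℤ, (s = 8 ∨ s = -8) ∧
    ((g • e8L i : L) : GolayPt → ℤ) = Pi.single i s := by
  have key : ∀ j, j ≠ i → ∃ (k : GolayPt) (s : ℤ), (k = i ∨ k = j) ∧ (s = 8 ∨ s = -8) ∧
      ((g • e8L i : L) : GolayPt → ℤ) = Pi.single k s := by
    intro j hj
    let a : L := ⟨u44 i j 4, u44_mem i j (Or.inl rfl)⟩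
    let b : L := ⟨u44 i j (-4), u44_mem i j (Or.inr rfl)⟩
    have hab : e8L i = a + b := by
      apply Subtype.ext
      funext k
      show e8 i k = (Pi.single i 4 + Pi.single j 4 : GolayPt → ℤ) k + (Pi.single i 4 + Pi.single j (-4) : GolayPt → ℤ) k
      simp only [Pi.add_apply, e8]
      by_cases hk : k = i
      · subst hk
        rw [Pi.single_eq_same, Pi.single_eq_same]
        rw [Pi.single_eq_of_ne hj.symm, Pi.single_eq_of_ne hj.symm]
        norm_num
      · rw [Pi.single_eq_of_ne hk, Pi.single_eq_of_ne hk]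
        by_cases hk' : k = j
        · subst hk'
          rw [Pi.single_eq_same, Pi.single_eq_same]
          norm_num
        · rw [Pi.single_eq_of_ne hk', Pi.single_eq_of_ne hk']
          norm_num
    have ha := smul_short H (v := a) (by
      show sqNorm (u44 i j 4) < 64
      rw [sqNorm_u44 hj.symm (Or.inl rfl)]
      norm_num)
    have hb := smul_short H (v := b) (by
      show sqNorm (u44 i j (-4)) < 64
      rw [sqNorm_u44 hj.symm (Or.inr rfl)]
      norm_num)
    rw [hab, Lat.smul_add]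
    rcases ha with ha | ha <;> rcases hb with hb | hb <;> rw [ha, hb]
    · refine ⟨i, 8, Or.inl rfl, Or.inl rfl, ?_⟩
      rw [← hab]
      rfl
    · refine ⟨j, 8, Or.inr rfl, Or.inl rfl, ?_⟩
      funext k
      show (Pi.single i 4 + Pi.single j 4 : GolayPt → ℤ) k + -(Pi.single i 4 + Pi.single j (-4) : GolayPt → ℤ) k = _
      simp only [Pi.add_apply]
      by_cases hk : k = j
      · subst hk
        simp [Pi.single_eq_of_ne hj]
      · rw [Pi.single_eq_of_ne hk, Pi.single_eq_of_ne hk, Pi.single_eq_of_ne hk]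
        ring
    · refine ⟨j, -8, Or.inr rfl, Or.inr rfl, ?_⟩
      funext k
      show -(Pi.single i 4 + Pi.single j 4 : GolayPt → ℤ) k + (Pi.single i 4 + Pi.single j (-4) : GolayPt → ℤ) k = _
      simp only [Pi.add_apply]
      by_cases hk : k = j
      · subst hk
        simp [Pi.single_eq_of_ne hj]
      · rw [Pi.single_eq_of_ne hk, Pi.single_eq_of_ne hk, Pi.single_eq_of_ne hk]
        ring
    · refine ⟨i, -8, Or.inl rfl, Or.inr rfl, ?_⟩
      funext k
      show -(Pi.single i 4 + Pi.single j 4 : GolayPt → ℤ) k + -(Pi.single i 4 + Pi.single j (-4) : GolayPt → ℤ) k = _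
      simp only [Pi.add_apply]
      by_cases hk : k = i
      · subst hk
        simp [Pi.single_eq_of_ne hj.symm]
      · rw [Pi.single_eq_of_ne hk, Pi.single_eq_of_ne hk]
        by_cases hk' : k = j
        · subst hk'
          simp
        · simp [Pi.single_eq_of_ne hk']
  obtain ⟨j1, j2, h1, h2, h12⟩ : ∃ j1 j2 : GolayPt, j1 ≠ i ∧ j2 ≠ i ∧ j1 ≠ j2 := by
    have hc : 1 < (({i} : Finset GolayPt)ᶜ).card := by
      rw [Finset.card_compl, card_golayPt]
      simp
    obtain ⟨a, ha, b, hb, hab⟩ := Finset.one_lt_card.1 hc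
    refine ⟨a, b, ?_, ?_, hab⟩
    · simpa using ha
    · simpa using hb
  obtain ⟨k1, s1, hk1, hs1, e1⟩ := key j1 h1
  obtain ⟨k2, s2, hk2, hs2, e2⟩ := key j2 h2
  have h3 : (Pi.single k1 s1 : GolayPt → ℤ) = Pi.single k2 s2 := e1.symm.trans e2
  have h4 := single_ne_neg (by rcases hs1 with rfl | rfl <;> norm_num) h3
  have h5 : k1 = i := by
    rcases hk1 with rfl | rfl
    · rfl
    · rcases hk2 with rfl | rfl
      · exact h4.1
      · exact absurd h4.1 h12
  refine ⟨s1, hs1, ?_⟩
  rw [e1, h5]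

theorem smul_e8_same (i j : GolayPt) (hij : j ≠ i) {s t : ℤ}
    (hs : ((g • e8L i : L) : GolayPt → ℤ) = Pi.single i s)
    (ht : ((g • e8L j : L) : GolayPt → ℤ) = Pi.single j t) : s = t := by
  let a : L := ⟨u44 i j 4, u44_mem i j (Or.inl rfl)⟩
  have h2a : e8L i + e8L j = a + a := by
    apply Subtype.ext
    funext k
    show (Pi.single i 8 + Pi.single j 8 : GolayPt → ℤ) k = (Pi.single i 4 + Pi.single j 4 : GolayPt → ℤ) k + (Pi.single i 4 + Pi.single j 4 : GolayPt → ℤ) k
    simp only [Pi.add_apply]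
    by_cases hk : k = i
    · subst hk
      simp [Pi.single_eq_of_ne hij.symm]
    · rw [Pi.single_eq_of_ne hk, Pi.single_eq_of_ne hk]
      by_cases hk' : k = j
      · subst hk'
        simp
      · rw [Pi.single_eq_of_ne hk', Pi.single_eq_of_ne hk']
        norm_num
  have ha := smul_short H (v := a) (by
    show sqNorm (u44 i j 4) < 64
    rw [sqNorm_u44 hij.symm (Or.inl rfl)]
    norm_num)
  have h3 : g • e8L i + g • e8L j = g • a + g • a := by
    rw [← Lat.smul_add, h2a, Lat.smul_add]
  have h4 := congrArg (fun v : L => (v : GolayPt → ℤ)) h3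
  simp only [AddSubgroup.coe_add] at h4
  rw [hs, ht] at h4
  have h5 := congrFun h4 i
  have h6 := congrFun h4 j
  simp only [Pi.add_apply, Pi.single_eq_same, Pi.single_eq_of_ne hij.symm, Pi.single_eq_of_ne hij] at h5 h6
  rcases ha with ha | ha
  · rw [ha] at h5 h6
    have h7 : ((a : L) : GolayPt → ℤ) i = 4 := by
      show (Pi.single i 4 + Pi.single j 4 : GolayPt → ℤ) i = 4
      simp [Pi.single_eq_of_ne hij.symm]
    have h8 : ((a : L) : GolayPt → ℤ) j = 4 := by
      show (Pi.single i 4 + Pi.single j 4 : GolayPt → ℤ) j = 4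
      simp [Pi.single_eq_of_ne hij]
    rw [h7] at h5
    rw [h8] at h6
    omega
  · rw [ha] at h5 h6
    have h7 : ((a : L) : GolayPt → ℤ) i = 4 := by
      show (Pi.single i 4 + Pi.single j 4 : GolayPt → ℤ) i = 4
      simp [Pi.single_eq_of_ne hij.symm]
    have h8 : ((a : L) : GolayPt → ℤ) j = 4 := by
      show (Pi.single i 4 + Pi.single j 4 : GolayPt → ℤ) j = 4
      simp [Pi.single_eq_of_ne hij]
    simp only [NegMemClass.coe_neg, Pi.neg_apply] at h5 h6
    rw [h7] at h5
    rw [h8] at h6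
    omega

end kernel

/-- If `g e_i = ε e_i` for all `i`, then `g = ε`. -/
theorem smul_of_e8 {g : Co0} {ε : ℤ} (hε : ε = 1 ∨ ε = -1)
    (h : ∀ i, ((g • e8L i : L) : GolayPt → ℤ) = ε • e8 i) (v : L) :
    ((g • v : L) : GolayPt → ℤ) = ε • (v : GolayPt → ℤ) := by
  have h1 : ((8 : ℤ) • (g • v) : L) = g • ((8 : ℤ) • v) := (smul_zsmul g 8 v).symm
  have h2 := congrArg (fun w : L => (w : GolayPt → ℤ)) h1
  have h3 : ((g • ((8 : ℤ) • v) : L) : GolayPt → ℤ) = (8 : ℤ) • (ε • (v : GolayPt → ℤ)) := by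
    rw [eight_nsmul_eq_sum]
    have h4 : ∀ (s : Finset GolayPt), g • (∑ i ∈ s, (v.1 i) • e8L i) = ∑ i ∈ s, (v.1 i) • (g • e8L i) := by
      intro s
      induction s using Finset.induction_on with
      | empty => simpa using smul_zero' g
      | insert a s ha ih =>
        rw [Finset.sum_insert ha, Finset.sum_insert ha, Lat.smul_add, ih, smul_zsmul]
    rw [h4]
    funext j
    have h5 : ((∑ i, (v.1 i) • (g • e8L i) : L) : GolayPt → ℤ) j = ∑ i, (v.1 i) * (ε • e8 i) j := by
      rw [AddSubgroup.val_finset_sum, Finset.sum_apply]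
      refine Finset.sum_congr rfl fun i _ => ?_
      show (v.1 i) • ((g • e8L i : L) : GolayPt → ℤ) j = _
      rw [h i]
      simp
    rw [h5]
    have h6 : ∀ i, (v.1 i) * (ε • e8 i) j = if i = j then ε * (8 * v.1 i) else 0 := by
      intro i
      simp only [Pi.smul_apply, smul_eq_mul, e8]
      by_cases hij : i = j
      · subst hij
        rw [Pi.single_eq_same, if_pos rfl]
        ring
      · rw [Pi.single_eq_of_ne (Ne.symm hij), if_neg hij]
        ring
    rw [Finset.sum_congr rfl fun i _ => h6 i, Finset.sum_ite_eq' Finset.univ j]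
    simp only [Finset.mem_univ, if_true, Pi.smul_apply, smul_eq_mul]
    ring
  rw [h3] at h2
  funext j
  have h4 := congrFun h2 j
  simp only [AddSubgroup.coe_zsmul, Pi.smul_apply, smul_eq_mul] at h4
  simp only [Pi.smul_apply, smul_eq_mul]
  omega

/-- **Faithfulness** of the action of the central quotient modulo twice the lattice. -/
theorem mem_center_of_trivial (g : Co0)
    (H : ∀ v : L, ∃ w : L, ((g • v : L) : GolayPt → ℤ) - (v : GolayPt → ℤ) = 2 • (w : GolayPt → ℤ)) :
    g ∈ Subgroup.center Co0 := by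
  obtain ⟨s, hs, hs0⟩ := smul_e8_single H none
  have hall : ∀ i, ((g • e8L i : L) : GolayPt → ℤ) = Pi.single i s := by
    intro i
    by_cases hi : i = none
    · subst hi
      exact hs0
    · obtain ⟨t, -, ht⟩ := smul_e8_single H i
      rw [ht, ← smul_e8_same H none i hi hs0 ht]
  rw [mem_center_iff]
  rcases hs with rfl | rfl
  · left
    apply ext_smul
    intro v
    apply Subtype.ext
    have := smul_of_e8 (g := g) (ε := 1) (Or.inl rfl) (fun i => by rw [hall i]; simp [e8]) v
    simpa using this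
  · right
    apply ext_smul
    intro v
    apply Subtype.ext
    have := smul_of_e8 (g := g) (ε := -1) (Or.inr rfl) (fun i => by
      rw [hall i]
      funext k
      simp only [Pi.smul_apply, smul_eq_mul, e8]
      by_cases hk : k = i
      · subst hk
        simp
      · simp [Pi.single_eq_of_ne hk]) v
    rw [negG_smul]
    funext k
    have h2 := congrFun this k
    simpa using h2

/-! ### Irreducibility -/

theorem le_of_all32 {M : AddSubgroup (GolayPt → ℤ)}
    (h : ∀ x, x ∈ leechLattice → sqNorm x = 32 → x ∈ M) : leechLattice ≤ M := by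
  rw [← closure_min]
  exact (AddSubgroup.closure_le _).2 fun x hx => h x hx.1 hx.2

/-- Norm 48: `(5, 1^23)`, `(1, 5, 1^22)`; their difference is minimal. -/
def a48 : ℕ := nA48

/-- The vector `(1, 5, 1^22)`. -/
def b48 : ℕ := 728931481559469994818216774992447029

/-- The minimal difference. -/
def c48 : ℕ := 852206658587909773353650494292640268

theorem data48 : inL a48 = true ∧ inL b48 = true ∧ inL c48 = true ∧ sqNorm (dec a48) = 48 ∧
    sqNorm (dec b48) = 48 ∧ sqNorm (dec c48) = 32 ∧ dec a48 - dec b48 = dec c48 := by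
  refine ⟨by decide +kernel, by decide +kernel, by decide +kernel, by decide +kernel,
    by decide +kernel, by decide +kernel, ?_⟩
  funext i
  revert i
  decide +kernel

/-- Norm 64: `(4, 4, 4, 4, 0^20)` and a vector with minimal difference. -/
def a64 : ℕ := nB64

/-- The second vector of norm 64. -/
def b64 : ℕ := 686053159114795289240674611757470356

/-- The minimal difference. -/
def c64 : ℕ := 852206658587909773353650494292771344

theorem data64 : inL a64 = true ∧ inL b64 = true ∧ inL c64 = true ∧ sqNorm (dec a64) = 64 ∧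
    sqNorm (dec b64) = 64 ∧ sqNorm (dec c64) = 32 ∧ dec a64 - dec b64 = dec c64 := by
  refine ⟨by decide +kernel, by decide +kernel, by decide +kernel, by decide +kernel,
    by decide +kernel, by decide +kernel, ?_⟩
  funext i
  revert i
  decide +kernel

section irr

variable {M : AddSubgroup (GolayPt → ℤ)} (hle : M ≤ leechLattice)
  (hinv : ∀ (g : Co0) (v : L), (v : GolayPt → ℤ) ∈ M → ((g • v : L) : GolayPt → ℤ) ∈ M)
include hle hinv

theorem all_of_one {N : ℤ} (htr : ∀ v w : L, sqNorm (v : GolayPt → ℤ) = N → sqNorm (w : GolayPt → ℤ) = N →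
    ∃ g : Co0, g • v = w) {a : GolayPt → ℤ} (ha : a ∈ M) (hn : sqNorm a = N) :
    ∀ b, b ∈ leechLattice → sqNorm b = N → b ∈ M := by
  intro b hb hbn
  obtain ⟨g, hg⟩ := htr ⟨a, hle ha⟩ ⟨b, hb⟩ hn hbn
  have := hinv g ⟨a, hle ha⟩ ha
  rw [hg] at this
  exact this

/-- **Irreducibility.** -/
theorem irreducible (h2 : ∀ v ∈ leechLattice, (2 : ℤ) • v ∈ M) :
    (∀ x ∈ M, ∃ w ∈ leechLattice, x = (2 : ℤ) • w) ∨ M = leechLattice := by
  by_cases hall : ∀ x ∈ M, ∃ w ∈ leechLattice, x = (2 : ℤ) • w
  · exact Or.inl hall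
  right
  push Not at hall
  obtain ⟨x, hx, hne⟩ := hall
  obtain ⟨y, hy, hyn, z, hz, hxy⟩ := Cfsg.Agent.Lib.Leech.Classes.short_rep (hle hx)
  have hz2 : (2 : ℕ) • z = (2 : ℤ) • z := by
    funext i
    simp
  rw [hz2] at hxy
  have hyM : y ∈ M := by
    have h3 : y = x - (2 : ℤ) • z := by rw [← hxy]; abel
    rw [h3]
    exact M.sub_mem hx (h2 z hz)
  have h32 : ∀ a, a ∈ M → sqNorm a = 32 → leechLattice ≤ M := fun a ha hn =>
    le_of_all32 (all_of_one hle hinv trans32 ha hn)
  have hfin : leechLattice ≤ M := by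
    rcases Cfsg.Agent.Lib.Leech.Classes.norm_cases ⟨y, hy⟩ hyn with h | h | h | h
    · exfalso
      have h0 : y = 0 := sqNorm_eq_zero h
      apply hne z hz
      rw [← hxy, h0]
      abel
    · exact h32 y hyM h
    · have hall48 := all_of_one hle hinv trans48 hyM h
      obtain ⟨h1, h3, h4, h5, h6, h7, h8⟩ := data48
      have hc : dec c48 ∈ M := by
        rw [← h8]
        exact M.sub_mem (hall48 _ (mem_of_inL h1) h5) (hall48 _ (mem_of_inL h3) h6)
      exact h32 _ hc h7
    · have hall64 := all_of_one hle hinv trans64 hyM h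
      obtain ⟨h1, h3, h4, h5, h6, h7, h8⟩ := data64
      have hc : dec c64 ∈ M := by
        rw [← h8]
        exact M.sub_mem (hall64 _ (mem_of_inL h1) h5) (hall64 _ (mem_of_inL h3) h6)
      exact h32 _ hc h7
  exact le_antisymm hle hfin

end irr

end Cfsg.Agent.Lib.Leech.Module
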