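import Cfsg.Agent.Lib.Leech.Maximal
import Cfsg.Agent.Lib.Leech.Module
import Cfsg.Agent.S0365
import Cfsg.Statements.S0399

/-!
# Simplicity of the central quotient of the automorphism group

Iwasawa's argument for the monomial group: a normal subgroup not contained in the monomial group is
everything, and a normal subgroup contained in it is central.
-/

set_option autoImplicit false

namespace Cfsg.Agent.Lib.Leech.Co1

open Cfsg Cfsg.Agent.Lib.Golay.Core Cfsg.Agent.Lib.Golay.Perm Cfsg.Agent.Lib.Leech.Even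
  Cfsg.Agent.Lib.Leech.Basic Cfsg.Agent.Lib.Leech.Lat Cfsg.Agent.Lib.Leech.NFBase
  Cfsg.Agent.Lib.Leech.Mon Cfsg.Agent.Lib.Leech.Packed Cfsg.Agent.Lib.Leech.Vec
  Cfsg.Agent.Lib.Leech.Xi Cfsg.Agent.Lib.Leech.Reach Cfsg.Agent.Lib.Leech.NF
  Cfsg.Agent.Lib.Leech.Trans Cfsg.Agent.Lib.Leech.Order Cfsg.Agent.Lib.Leech.Word
  Cfsg.Agent.Lib.Leech.Maximal Cfsg.Agent.Lib.Leech.Module Cfsg.Agent.Lib.Leech.Center
  Cfsg.Agent.Lib.Leech.Gen
open scoped Pointwise commutatorElement

/-! ### An abstract Iwasawa argument -/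

section abstract

variable {G : Type*} [Group G]

theorem mem_mul_of_sup_eq_top {K H : Subgroup G} [K.Normal] (h : K ⊔ H = ⊤) (g : G) :
    ∃ k ∈ K, ∃ n ∈ H, g = k * n := by
  have h1 : g ∈ ((K ⊔ H : Subgroup G) : Set G) := by
    rw [h]
    trivial
  rw [Subgroup.normal_mul] at h1
  obtain ⟨k, hk, n, hn, rfl⟩ := Set.mem_mul.1 h1
  exact ⟨k, hk, n, hn, rfl⟩

/-- Iwasawa's argument. -/
theorem iwasawa_abs {N A : Subgroup G} (hmax : IsCoatom N) (hcomm : ∀ a ∈ A, ∀ b ∈ A, a * b = b * a)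
    (hnorm : ∀ n ∈ N, ∀ a ∈ A, n * a * n⁻¹ ∈ A)
    (hgen : Subgroup.normalClosure (A : Set G) = ⊤) (hperf : commutator G = ⊤)
    (K : Subgroup G) [hK : K.Normal] (hle : ¬ K ≤ N) : K = ⊤ := by
  have hsup : K ⊔ N = ⊤ := by
    apply hmax.2
    refine lt_of_le_of_ne le_sup_right ?_
    intro h
    exact hle (h ▸ le_sup_left)
  have hKA : K ⊔ A = ⊤ := by
    rw [eq_top_iff, ← hgen]
    show Subgroup.closure (Group.conjugatesOfSet (A : Set G)) ≤ K ⊔ A
    rw [Subgroup.closure_le]
    intro c hc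
    obtain ⟨a, ha, hac⟩ := Group.mem_conjugatesOfSet_iff.1 hc
    obtain ⟨g, rfl⟩ := isConj_iff.1 hac
    obtain ⟨k, hk, n, hn, rfl⟩ := mem_mul_of_sup_eq_top hsup g
    have h1 := hnorm n hn a ha
    set a' := n * a * n⁻¹ with ha'
    have h2 : k * a' * k⁻¹ * a'⁻¹ ∈ K := by
      have h3 := hK.conj_mem k⁻¹ (K.inv_mem hk) a'
      have h4 : k * (a' * k⁻¹ * a'⁻¹) = k * a' * k⁻¹ * a'⁻¹ := by group
      rw [← h4]
      apply K.mul_mem hk
      simpa using h3
    have h5 : k * n * a * (k * n)⁻¹ = (k * a' * k⁻¹ * a'⁻¹) * a' := by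
      rw [ha']
      group
    rw [SetLike.mem_coe, h5]
    exact Subgroup.mul_mem _ (Subgroup.mem_sup_left h2) (Subgroup.mem_sup_right h1)
  have hcomK : commutator G ≤ K := by
    rw [commutator_def, Subgroup.commutator_le]
    intro x _ y _
    obtain ⟨k, hk, a, ha, rfl⟩ := mem_mul_of_sup_eq_top hKA x
    obtain ⟨k', hk', b, hb, rfl⟩ := mem_mul_of_sup_eq_top hKA y
    have h1 : ∀ z : G, z ∈ K ↔ QuotientGroup.mk' K z = 1 := fun z => by
      rw [QuotientGroup.mk'_apply, QuotientGroup.eq_one_iff]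
    rw [h1]
    have h2 : QuotientGroup.mk' K k = 1 := (h1 k).1 hk
    have h3 : QuotientGroup.mk' K k' = 1 := (h1 k').1 hk'
    rw [commutatorElement_def]
    simp only [map_mul, map_inv, h2, h3, one_mul]
    have h4 : QuotientGroup.mk' K a * QuotientGroup.mk' K b = QuotientGroup.mk' K b * QuotientGroup.mk' K a := by
      rw [← map_mul, ← map_mul, hcomm a ha b hb]
    rw [h4]
    group
  rw [eq_top_iff, ← hperf]
  exact hcomK

end abstract

/-! ### Sign changes and permutations -/

theorem monG_mul (σ : Equiv.Perm GolayPt) (hσ : σ ∈ M24) (d : Finset GolayPt) (hd : d ∈ Sup)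
    (τ : Equiv.Perm GolayPt) (hτ : τ ∈ M24) (e : Finset GolayPt) (he : e ∈ Sup) :
    monG σ hσ d hd * monG τ hτ e he = monG (σ * τ) (M24.mul_mem hσ hτ) (symmDiff d (σ • e))
      (symmDiff_mem_Sup hd (perm_mem_supports hσ he)) := by
  apply ext_smul
  intro v
  apply Subtype.ext
  show signedPerm σ d (signedPerm τ e v) = signedPerm (σ * τ) (symmDiff d (σ • e)) v
  funext i
  simp only [signedPerm_apply]
  have h1 : σ.symm i ∈ e ↔ i ∈ σ • e := by
    rw [Finset.mem_smul_finset]
    constructor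
    · intro h
      exact ⟨_, h, by show σ (σ.symm i) = i; simp⟩
    · rintro ⟨j, hj, rfl⟩
      have : σ.symm (σ • j) = j := by
        show σ.symm (σ j) = j
        simp
      rwa [this]
  have h2 : (σ * τ).symm i = τ.symm (σ.symm i) := rfl
  rw [h2]
  have h3 : i ∈ symmDiff d (σ • e) ↔ (i ∈ d ∧ ¬ i ∈ σ • e) ∨ (i ∈ σ • e ∧ ¬ i ∈ d) :=
    Finset.mem_symmDiff
  by_cases h4 : i ∈ d <;> by_cases h5 : σ.symm i ∈ e
  · have h6 : i ∈ σ • e := h1.1 h5
    have h7 : ¬ i ∈ symmDiff d (σ • e) := by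
      rw [h3]
      tauto
    rw [if_pos h4, if_pos h5, if_neg h7]
    ring
  · have h6 : ¬ i ∈ σ • e := fun h => h5 (h1.2 h)
    have h7 : i ∈ symmDiff d (σ • e) := by
      rw [h3]
      tauto
    rw [if_pos h4, if_neg h5, if_pos h7]
  · have h6 : i ∈ σ • e := h1.1 h5
    have h7 : i ∈ symmDiff d (σ • e) := by
      rw [h3]
      tauto
    rw [if_neg h4, if_pos h5, if_pos h7]
  · have h6 : ¬ i ∈ σ • e := fun h => h5 (h1.2 h)
    have h7 : ¬ i ∈ symmDiff d (σ • e) := by
      rw [h3]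
      tauto
    rw [if_neg h4, if_neg h5, if_neg h7]

/-- The sign change. -/
noncomputable def eps (c : Finset GolayPt) (hc : c ∈ Sup) : Co0 := monG 1 M24.one_mem c hc

/-- The permutation. -/
noncomputable def uu (σ : Equiv.Perm GolayPt) (hσ : σ ∈ M24) : Co0 := monG σ hσ ∅ empty_mem_Sup

theorem monG_eq (σ : Equiv.Perm GolayPt) (hσ : σ ∈ M24) (d : Finset GolayPt) (hd : d ∈ Sup) :
    monG σ hσ d hd = eps d hd * uu σ hσ := by
  unfold eps uu
  rw [monG_mul]
  congr 1
  exact (symmDiff_bot d).symm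

theorem eps_mul (c d : Finset GolayPt) (hc : c ∈ Sup) (hd : d ∈ Sup) :
    eps c hc * eps d hd = eps (symmDiff c d) (symmDiff_mem_Sup hc hd) := by
  unfold eps
  rw [monG_mul]
  congr 1
  rw [one_smul]

theorem uu_mul (σ τ : Equiv.Perm GolayPt) (hσ : σ ∈ M24) (hτ : τ ∈ M24) :
    uu σ hσ * uu τ hτ = uu (σ * τ) (M24.mul_mem hσ hτ) := by
  unfold uu
  rw [monG_mul]
  congr 1

theorem uu_one : uu 1 M24.one_mem = 1 := by
  apply ext_smul
  intro v
  apply Subtype.ext
  show signedPerm 1 ∅ v = v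
  funext i
  simp [signedPerm_apply]
  rfl

theorem eps_empty : eps ∅ empty_mem_Sup = 1 := uu_one

theorem eps_sq (c : Finset GolayPt) (hc : c ∈ Sup) : eps c hc * eps c hc = 1 := by
  rw [eps_mul]
  have : eps (symmDiff c c) (symmDiff_mem_Sup hc hc) = eps ∅ empty_mem_Sup := by
    congr 1
    simp
  rw [this, eps_empty]

theorem eps_inv (c : Finset GolayPt) (hc : c ∈ Sup) : (eps c hc)⁻¹ = eps c hc :=
  inv_eq_of_mul_eq_one_left (eps_sq c hc)

theorem uu_conj (σ : Equiv.Perm GolayPt) (hσ : σ ∈ M24) (c : Finset GolayPt) (hc : c ∈ Sup) :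
    uu σ hσ * eps c hc * (uu σ hσ)⁻¹ = eps (σ • c) (perm_mem_supports hσ hc) := by
  rw [mul_inv_eq_iff_eq_mul]
  unfold uu eps
  rw [monG_mul, monG_mul]
  congr 1
  exact symmDiff_comm _ _

/-- The homomorphism from the group of the code. -/
noncomputable def uH : M24 →* Co0 where
  toFun s := uu s.1 s.2
  map_one' := uu_one
  map_mul' a b := (uu_mul a.1 b.1 a.2 b.2).symm

/-- The group of sign changes. -/
noncomputable def AA : Subgroup Co0 where
  carrier := {g | ∃ (c : Finset GolayPt) (hc : c ∈ Sup), g = eps c hc}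
  one_mem' := ⟨∅, empty_mem_Sup, eps_empty.symm⟩
  mul_mem' := by
    rintro _ _ ⟨c, hc, rfl⟩ ⟨d, hd, rfl⟩
    exact ⟨_, _, eps_mul c d hc hd⟩
  inv_mem' := by
    rintro _ ⟨c, hc, rfl⟩
    exact ⟨c, hc, eps_inv c hc⟩

theorem eps_mem_AA (c : Finset GolayPt) (hc : c ∈ Sup) : eps c hc ∈ AA := ⟨c, hc, rfl⟩

theorem AA_comm : ∀ a ∈ AA, ∀ b ∈ AA, a * b = b * a := by
  rintro _ ⟨c, hc, rfl⟩ _ ⟨d, hd, rfl⟩
  rw [eps_mul, eps_mul]
  congr 1
  exact symmDiff_comm c d

theorem AA_norm : ∀ n ∈ NN, ∀ a ∈ AA, n * a * n⁻¹ ∈ AA := by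
  rintro n hn _ ⟨c, hc, rfl⟩
  obtain ⟨σ, hσ, d, hd, rfl⟩ := presCross_eq_monG hn
  rw [monG_eq, mul_inv_rev, eps_inv]
  have h1 : eps d hd * uu σ hσ * eps c hc * ((uu σ hσ)⁻¹ * eps d hd) =
      eps d hd * (uu σ hσ * eps c hc * (uu σ hσ)⁻¹) * eps d hd := by group
  rw [h1, uu_conj]
  exact AA.mul_mem (AA.mul_mem (eps_mem_AA _ _) (eps_mem_AA _ _)) (eps_mem_AA _ _)


/-- The identity permutation, packed. -/
def Pid : ℕ := 984818244535754528103549039458486304

/-- An octad whose sign change is conjugated by `ξ` to a monomial element with non-trivial permutation. -/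
def c0 : ℕ := 9347075

/-- The images: `(j, s)` with `s = 1` for the sign `-`. -/
def TC0 : List (ℕ × ℕ) := [(1, 0), (0, 0), (3, 1), (2, 1), (4, 0), (14, 1), (6, 0), (7, 0), (16, 1), (9, 0), (10, 0), (11, 0), (12, 0), (18, 0), (5, 1), (19, 0), (8, 1), (23, 0), (13, 0), (15, 0), (21, 1), (20, 1), (22, 0), (17, 0)]

/-- A code word whose sign change is conjugated by `ξ` outside the monomial group. -/
def c1 : ℕ := 13062145

/-- The image of `8 e` under the conjugate. -/
def nY1 : ℕ := 519899659796428032404854133095940624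

/-- Commutators giving the basis of the code: `(b, c, P)`. -/
def TB : List (ℕ × ℕ × ℕ) := [(13062145, 1296699, 543273474295665115622658212735760869), (4845570, 15116030, 423968285358220169126339771439845931), (13938692, 12720156, 559887109967207417893504989242961062), (7221256, 9154301, 475238630077070920339006799477974293), (10170384, 2225919, 764620407578913195003070440160732162), (11952160, 1550091, 721328177869082902259867056888388040), (15515712, 14682450, 642020285735811613659745114613123447), (2019456, 10304324, 399827594017560904773978917583332022), (4038912, 3704512, 127749036212741304212063392879477420), (8077824, 4701807, 973155725086389355490903667567315983), (11654144, 9506893, 592214090661015717229367598772469472), (14919680, 5123071, 565242890451174646690195058495595555)]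

/-- Two elements that do not commute. -/
def P1 : ℕ := 956302485175575353788796878166559809

/-- Two elements that do not commute. -/
def P2 : ℕ := 983435072843990828779021698901151808

/-- The zero vector, packed. -/
def nBase : ℕ := 686053159114795289240674611757597200

/-! ### The key lemma -/

/-- Packed `± 8 e_k`. -/
def nE (k s : ℕ) : ℕ :=
  Nat.rec (motive := fun _ => ℕ) (Nat.add nBase (Nat.shiftLeft 8 (Nat.mul 5 k)))
    (fun _ _ => Nat.sub nBase (Nat.shiftLeft 8 (Nat.mul 5 k))) s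

theorem dec_nE : ∀ k < 24, ∀ s < 2, ∀ p : GolayPt,
    dec (nE k s) p = (Pi.single (pt k) (if s = 0 then 8 else -8) : GolayPt → ℤ) p := by
  decide +kernel

theorem g_Pid : g Pid = 1 := by
  have hv : validPerm Pid = true := by decide +kernel
  ext p
  rw [g_apply hv]
  have : ∀ p : GolayPt, pt (img Pid (idx p)) = p := by decide +kernel
  rw [this]
  rfl

theorem hPid : checkAut Pid = true := by decide +kernel

theorem opG_xi : opG (0, 0) = xiG := by
  unfold opG
  simp

theorem opG_eps {c : ℕ} (hc : c < 2 ^ 24) (hc' : isCode c = true) :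
    opG (Pid, c) = eps (setOf c) (setOf_mem_of_isCode hc hc') := by
  have h0 : Pid ≠ 0 := by decide +kernel
  have h1 : ¬ (Pid, c).1 = 0 := h0
  have h2 : (checkAut (Pid, c).1 = true ∧ (Pid, c).2 < 2 ^ 24 ∧ isCode (Pid, c).2 = true) :=
    ⟨hPid, hc, hc'⟩
  unfold opG
  rw [if_neg h1, dif_pos h2]
  unfold eps
  congr 1
  exact g_Pid

/-- The word `ξ ε_c ξ`. -/
def wc (c : ℕ) : List (ℕ × ℕ) := [(0, 0), (Pid, c), (0, 0)]

theorem wG_wc {c : ℕ} (hc : c < 2 ^ 24) (hc' : isCode c = true) :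
    wG (wc c) = xiG * eps (setOf c) (setOf_mem_of_isCode hc hc') * xiG⁻¹ := by
  have h1 : xiG⁻¹ = xiG := inv_eq_of_mul_eq_one_left xiG_sq
  rw [h1]
  unfold wc wG wG wG wG
  rw [opG_xi, opG_eps hc hc', one_mul]

theorem c0_ok : c0 < 2 ^ 24 ∧ isCode c0 = true := by decide +kernel
theorem c1_ok : c1 < 2 ^ 24 ∧ isCode c1 = true := by decide +kernel

theorem TC0_ok : ∀ k < 24, ∀ e ∈ (TC0.drop k).head?,
    e.1 < 24 ∧ e.2 < 2 ∧ inL (nE k 0) = true ∧ runW (wc c0) (nE k 0) (nE e.1 e.2) = true := by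
  decide +kernel

theorem TC0_len : ∀ k < 24, ((TC0.drop k).head?).isSome = true := by decide +kernel

theorem dec_nE_stdCross {k s : ℕ} (hk : k < 24) (hs : s < 2) : dec (nE k s) ∈ stdCross := by
  refine ⟨pt k, if s = 0 then 8 else -8, ?_, funext (dec_nE k hk s hs)⟩
  split_ifs
  · exact Or.inl rfl
  · exact Or.inr rfl

theorem e8_eq_dec {k : ℕ} (hk : k < 24) : e8 (pt k) = dec (nE k 0) := by
  funext p
  rw [dec_nE k hk 0 (by norm_num) p]
  rfl

/-- The conjugate of the octad sign change is monomial. -/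
theorem g0_pres : PresCross (wG (wc c0)) := by
  intro v hv
  obtain ⟨i, s, hs, hvs⟩ := hv
  obtain ⟨e, he⟩ := Option.isSome_iff_exists.1 (TC0_len _ (idx_lt i))
  obtain ⟨h1, h2, h3, h4⟩ := TC0_ok _ (idx_lt i) e (by simp [he])
  have h5 := wG_smul _ h4 (mem_of_inL h3)
  have h6 : (⟨dec (nE (idx i) 0), mem_of_inL h3⟩ : L) = e8L i := by
    apply Subtype.ext
    show dec (nE (idx i) 0) = e8 i
    rw [← e8_eq_dec (idx_lt i), pt_idx]
  rw [h6] at h5
  rcases hs with rfl | rfl
  · have : v = e8L i := Subtype.ext hvs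
    rw [this, h5]
    exact dec_nE_stdCross h1 h2
  · have : v = -e8L i := by
      apply Subtype.ext
      rw [hvs]
      funext k
      show _ = - e8 i k
      unfold e8
      by_cases hk : k = i
      · subst hk
        simp
      · simp [Pi.single_eq_of_ne hk]
    rw [this, Lat.smul_neg]
    show -((wG (wc c0) • e8L i : L) : GolayPt → ℤ) ∈ stdCross
    rw [h5]
    obtain ⟨j, t, ht, hj⟩ := dec_nE_stdCross h1 h2
    refine ⟨j, -t, ?_, ?_⟩
    · rcases ht with rfl | rfl <;> norm_num
    · rw [hj]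
      funext k
      by_cases hk : k = j
      · subst hk
        simp
      · simp [Pi.single_eq_of_ne hk]

/-- Its permutation is not trivial. -/
theorem g0_move : ∃ s, s < 2 ∧ ((wG (wc c0) • e8L (pt 0) : L) : GolayPt → ℤ) = dec (nE 1 s) := by
  have h1 : ∃ s, s < 2 ∧ inL (nE 0 0) = true ∧ runW (wc c0) (nE 0 0) (nE 1 s) = true := by
    decide +kernel
  obtain ⟨s, hs, h2, h3⟩ := h1
  refine ⟨s, hs, ?_⟩
  have h5 := wG_smul _ h3 (mem_of_inL h2)
  have h6 : (⟨dec (nE 0 0), mem_of_inL h2⟩ : L) = e8L (pt 0) := by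
    apply Subtype.ext
    show dec (nE 0 0) = e8 (pt 0)
    rw [← e8_eq_dec (by norm_num)]
  rwa [h6] at h5

/-- The conjugate of another sign change is not monomial. -/
theorem g1_not_pres : wG (wc c1) ∉ NN := by
  intro h
  have h1 : ((wG (wc c1) • e8L none : L) : GolayPt → ℤ) ∈ stdCross := h _ (e8_mem_stdCross none)
  have h2 : runW (wc c1) nA64 nY1 = true := by decide +kernel
  have h3 := wG_smul _ h2 mem_A64
  rw [e8L_eq] at h3
  rw [h3] at h1
  obtain ⟨i, s, -, hs⟩ := h1
  have key : dec nY1 (pt 5) ≠ 0 ∧ dec nY1 (pt 14) ≠ 0 ∧ pt 5 ≠ pt 14 := by decide +kernel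
  have h4 : pt 5 = i := by
    by_contra hne
    apply key.1
    rw [hs, Pi.single_eq_of_ne hne]
  have h5 : pt 14 = i := by
    by_contra hne
    apply key.2.1
    rw [hs, Pi.single_eq_of_ne hne]
  exact key.2.2 (h4.trans h5.symm)

/-- A normal subgroup containing the sign changes is everything. -/
theorem eq_top_of_AA_le (X : Subgroup Co0) [hX : X.Normal] (hA : AA ≤ X) : X = ⊤ := by
  have hg0 : wG (wc c0) ∈ X := by
    rw [wG_wc c0_ok.1 c0_ok.2]
    exact hX.conj_mem _ (hA (eps_mem_AA _ _)) _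
  have hg1 : wG (wc c1) ∈ X := by
    rw [wG_wc c1_ok.1 c1_ok.2]
    exact hX.conj_mem _ (hA (eps_mem_AA _ _)) _
  -- the permutation part
  obtain ⟨σ, hσ, d, hd, hg⟩ := presCross_eq_monG g0_pres
  have hu : uu σ hσ ∈ X := by
    have h1 : uu σ hσ = (eps d hd)⁻¹ * wG (wc c0) := by
      rw [hg, monG_eq, inv_mul_cancel_left]
    rw [h1]
    exact X.mul_mem (X.inv_mem (hA (eps_mem_AA _ _))) hg0
  have hσ1 : σ ≠ 1 := by
    rintro rfl
    obtain ⟨s, hs, h2⟩ := g0_move
    have h3 : ((wG (wc c0) • e8L (pt 0) : L) : GolayPt → ℤ) =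
        signedPerm 1 d (e8 (pt 0)) := by
      rw [hg]
      rfl
    rw [h2] at h3
    unfold e8 at h3
    rw [signedPerm_single] at h3
    have h4 := funext (dec_nE 1 (by norm_num) s hs)
    rw [h4] at h3
    have h5 := single_ne_neg (by split_ifs <;> norm_num) h3
    have h6 : pt 1 ≠ (1 : Equiv.Perm GolayPt) (pt 0) := by decide +kernel
    exact h6 h5.1
  -- simplicity of the group of the code
  have hN : (X.comap uH).Normal := inferInstance
  have hS : IsSimpleGroup M24 := Cfsg.Agent.S0365.result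
  have hall : ∀ τ (hτ : τ ∈ M24), uu τ hτ ∈ X := by
    rcases hS.eq_bot_or_eq_top_of_normal _ hN with h | h
    · exfalso
      have h2 : (⟨σ, hσ⟩ : M24) ∈ X.comap uH := hu
      rw [h, Subgroup.mem_bot] at h2
      exact hσ1 (congrArg Subtype.val h2)
    · intro τ hτ
      have h2 : (⟨τ, hτ⟩ : M24) ∈ X.comap uH := by
        rw [h]
        trivial
      exact h2
  have hNX : NN ≤ X := by
    intro n hn
    obtain ⟨τ, hτ, e, he, rfl⟩ := presCross_eq_monG hn
    rw [monG_eq]
    exact X.mul_mem (hA (eps_mem_AA _ _)) (hall τ hτ)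
  apply coatom_NN.2
  exact lt_of_le_of_ne hNX fun h => g1_not_pres (by rw [h]; exact hg1)

theorem TB_ok : ∀ e ∈ TB, checkAut e.2.2 = true ∧ e.2.1 < 2 ^ 24 ∧ isCode e.2.1 = true ∧
    Nat.xor e.2.1 (mapMask e.2.2 e.2.1) = e.1 := by decide +kernel

theorem TB_cover : ∀ b ∈ basis, ∃ e ∈ TB, e.1 = b := by decide +kernel

theorem eps_setOf_mem_comm {b : ℕ} (hb : b ∈ basis) (hs : setOf b ∈ Sup) :
    eps (setOf b) hs ∈ commutator Co0 := by
  obtain ⟨e, he, rfl⟩ := TB_cover b hb
  obtain ⟨h1, h2, h3, h4⟩ := TB_ok e he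
  have hc := setOf_mem_of_isCode h2 h3
  have hg := g_mem_M24 h1
  have h5 : ⁅eps (setOf e.2.1) hc, uu (g e.2.2) hg⁆ = eps (setOf e.1) hs := by
    rw [commutatorElement_def]
    have h6 : eps (setOf e.2.1) hc * uu (g e.2.2) hg * (eps (setOf e.2.1) hc)⁻¹ * (uu (g e.2.2) hg)⁻¹ =
        eps (setOf e.2.1) hc * (uu (g e.2.2) hg * eps (setOf e.2.1) hc * (uu (g e.2.2) hg)⁻¹) := by
      rw [eps_inv]
      group
    rw [h6, uu_conj, eps_mul]
    congr 1
    rw [smul_setOf (checkAut_valid h1), ← setOf_xor, ← h4]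
    rfl
  rw [← h5]
  exact Subgroup.commutator_mem_commutator (Subgroup.mem_top _) (Subgroup.mem_top _)

/-- All sign changes are commutators. -/
theorem AA_le_commutator : AA ≤ commutator Co0 := by
  have key : ∀ w : GolayPt → ZMod 2, w ∈ golayCode → w ∈ golayCode ∧ ∀ hs : support₂ w ∈ Sup,
      eps (support₂ w) hs ∈ commutator Co0 := by
    intro w hw
    refine Cfsg.Agent.Lib.Golay.Basic.code_induction (C := fun w => w ∈ golayCode ∧
      ∀ hs : support₂ w ∈ Sup, eps (support₂ w) hs ∈ commutator Co0) ?_ ?_ ?_ hw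
    · refine ⟨Submodule.zero_mem _, fun hs => ?_⟩
      have h1 : support₂ (0 : GolayPt → ZMod 2) = ∅ := by
        ext p
        simp [support₂]
      have h2 : eps (support₂ (0 : GolayPt → ZMod 2)) hs = eps ∅ empty_mem_Sup := by
        congr 1
      rw [h2, eps_empty]
      exact Subgroup.one_mem _
    · rintro a b ⟨ha, iha⟩ ⟨hb, ihb⟩
      refine ⟨Submodule.add_mem _ ha hb, fun hs => ?_⟩
      have h1 : support₂ (a + b) = symmDiff (support₂ a) (support₂ b) := by
        ext p
        simp only [support₂, Finset.mem_filter, Finset.mem_univ, true_and, Finset.mem_symmDiff]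
        have h2 : ∀ x : ZMod 2, x = 0 ∨ x = 1 := by decide
        rw [Pi.add_apply]
        rcases h2 (a p) with h3 | h3 <;> rcases h2 (b p) with h4 | h4 <;> rw [h3, h4] <;> decide
      have hs1 : support₂ a ∈ Sup := ⟨a, ha, rfl⟩
      have hs2 : support₂ b ∈ Sup := ⟨b, hb, rfl⟩
      have h5 : eps (support₂ (a + b)) hs = eps (support₂ a) hs1 * eps (support₂ b) hs2 := by
        rw [eps_mul]
        congr 1
      rw [h5]
      exact Subgroup.mul_mem _ (iha hs1) (ihb hs2)
    · intro b hb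
      refine ⟨basis_mem b hb, fun hs => ?_⟩
      have h1 := support_wordOf b
      have h2 : eps (support₂ (wordOf b)) hs = eps (setOf b) (h1 ▸ hs) := by
        congr 1
      rw [h2]
      exact eps_setOf_mem_comm hb _
  rintro _ ⟨c, hc, rfl⟩
  obtain ⟨w, hw, rfl⟩ := hc
  exact (key w hw).2 _

theorem normalClosure_AA : Subgroup.normalClosure (AA : Set Co0) = ⊤ :=
  eq_top_of_AA_le _ (Subgroup.subset_normalClosure)

theorem commutator_eq_top : commutator Co0 = ⊤ :=
  eq_top_of_AA_le _ AA_le_commutator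

/-- A normal subgroup not contained in the monomial group is everything. -/
theorem normal_eq_top (K : Subgroup Co0) [K.Normal] (hle : ¬ K ≤ NN) : K = ⊤ :=
  iwasawa_abs coatom_NN AA_comm AA_norm normalClosure_AA commutator_eq_top K hle

/-! ### Normal subgroups inside the monomial group -/

/-- A normal subgroup in the monomial group is central. -/
theorem central_of_le (K : Subgroup Co0) [hK : K.Normal] (hle : K ≤ NN) : K ≤ Subgroup.center Co0 := by
  intro g hg
  apply mem_center_of_trivial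
  -- the vectors moved by a multiple of two
  let M : AddSubgroup L :=
    { carrier := {v | ∃ w : L, ((g • v : L) : GolayPt → ℤ) - (v : GolayPt → ℤ) = 2 • (w : GolayPt → ℤ)}
      zero_mem' := ⟨0, by simp [smul_zero']⟩
      add_mem' := by
        rintro a b ⟨w, hw⟩ ⟨w', hw'⟩
        refine ⟨w + w', ?_⟩
        rw [Lat.smul_add]
        simp only [AddSubgroup.coe_add, nsmul_eq_mul] at *
        rw [mul_add, ← hw, ← hw']
        abel
      neg_mem' := by
        rintro a ⟨w, hw⟩
        refine ⟨-w, ?_⟩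
        rw [Lat.smul_neg]
        simp only [NegMemClass.coe_neg, nsmul_eq_mul] at *
        rw [mul_neg, ← hw]
        abel }
  have h64 : ∀ y : L, sqNorm (y : GolayPt → ℤ) = 64 → y ∈ M := by
    intro y hy
    obtain ⟨t, rfl⟩ := trans64 (e8L none) y (sqNorm_e8L none) hy
    have h1 : t⁻¹ * g * t ∈ K := by
      have := hK.conj_mem g hg t⁻¹
      simpa using this
    have h2 : ((t⁻¹ * g * t) • e8L none : L).1 ∈ stdCross := hle h1 _ (e8_mem_stdCross none)
    rw [← cross_e8 none] at h2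
    obtain ⟨-, -, z, hz, hz'⟩ := h2
    refine ⟨-(t • (⟨z, hz⟩ : L)), ?_⟩
    have h3 : (e8L none - (t⁻¹ * g * t) • e8L none) = 2 • (⟨z, hz⟩ : L) := Subtype.ext hz'
    have h4 := congrArg (fun v : L => t • v) h3
    simp only [Lat.smul_sub, Lat.smul_nsmul] at h4
    have h5 : t • (t⁻¹ * g * t) • e8L none = g • t • e8L none := by
      simp only [← mul_smul]
      congr 1
      group
    rw [h5] at h4
    have h6 := congrArg (fun v : L => (v : GolayPt → ℤ)) h4
    simp only [AddSubgroup.coe_sub, AddSubgroup.coe_nsmul] at h6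
    simp only [NegMemClass.coe_neg]
    have h7 : (2 : ℕ) • -((t • (⟨z, hz⟩ : L) : L) : GolayPt → ℤ) = -((2 : ℕ) • ((t • (⟨z, hz⟩ : L) : L) : GolayPt → ℤ)) :=
      smul_neg _ _
    rw [h7, ← h6]
    abel
  have h32 : ∀ x : L, sqNorm (x : GolayPt → ℤ) = 32 → x ∈ M := by
    intro x hx
    obtain ⟨h1, h3, h4, h5, h6, h7, h8⟩ := data64
    obtain ⟨t, rfl⟩ := trans32 (⟨dec c64, mem_of_inL h4⟩ : L) x h7 hx
    have h9 : (⟨dec c64, mem_of_inL h4⟩ : L) = ⟨dec a64, mem_of_inL h1⟩ - ⟨dec b64, mem_of_inL h3⟩ :=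
      Subtype.ext h8.symm
    rw [h9, Lat.smul_sub]
    apply M.sub_mem
    · exact h64 _ (by rw [sqNorm_smul]; exact h5)
    · exact h64 _ (by rw [sqNorm_smul]; exact h6)
  have hall : ∀ x : GolayPt → ℤ, x ∈ leechLattice → ∀ hx : x ∈ leechLattice, (⟨x, hx⟩ : L) ∈ M := by
    intro x hx0
    rw [← closure_min] at hx0
    induction hx0 using AddSubgroup.closure_induction with
    | mem y hy =>
      intro hx
      exact h32 _ hy.2
    | zero =>
      intro hx
      exact M.zero_mem
    | add a b ha hb iha ihb =>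
      intro hx
      have ha' : a ∈ leechLattice := by rw [← closure_min]; exact ha
      have hb' : b ∈ leechLattice := by rw [← closure_min]; exact hb
      exact M.add_mem (iha ha') (ihb hb')
    | neg a ha iha =>
      intro hx
      have ha' : a ∈ leechLattice := by rw [← closure_min]; exact ha
      exact M.neg_mem (iha ha')
  intro v
  exact hall v.1 v.2 v.2

/-! ### The quotient -/

/-- **The central quotient is simple of the right order.** -/
theorem isCo1 : IsCo1 (Co0 ⧸ Subgroup.center Co0) := by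
  have hcard : Nat.card (Co0 ⧸ Subgroup.center Co0) = 4157776806543360000 := by
    have h1 := Subgroup.card_eq_card_quotient_mul_card_subgroup (Subgroup.center Co0)
    rw [card_center, card_Co0] at h1
    omega
  refine ⟨?_, hcard⟩
  haveI : Finite (Co0 ⧸ Subgroup.center Co0) := Nat.finite_of_card_ne_zero (by rw [hcard]; norm_num)
  haveI : Nontrivial (Co0 ⧸ Subgroup.center Co0) := by
    apply (Finite.one_lt_card_iff_nontrivial).1
    rw [hcard]
    norm_num
  refine ⟨fun H hH => ?_⟩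
  have hN : (H.comap (QuotientGroup.mk' (Subgroup.center Co0))).Normal := inferInstance
  by_cases hle : H.comap (QuotientGroup.mk' (Subgroup.center Co0)) ≤ NN
  · left
    have h1 := central_of_le _ hle
    rw [eq_bot_iff]
    intro x hx
    obtain ⟨g, rfl⟩ := QuotientGroup.mk'_surjective _ x
    have h2 : g ∈ Subgroup.center Co0 := h1 hx
    rw [Subgroup.mem_bot, QuotientGroup.mk'_apply, QuotientGroup.eq_one_iff]
    exact h2
  · right
    have h1 := normal_eq_top _ hle
    rw [eq_top_iff]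
    intro x _
    obtain ⟨g, rfl⟩ := QuotientGroup.mk'_surjective _ x
    have h2 : g ∈ H.comap (QuotientGroup.mk' (Subgroup.center Co0)) := by
      rw [h1]
      trivial
    exact h2

end Cfsg.Agent.Lib.Leech.Co1
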