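import Cfsg.Agent.Lib.Leech.MinVec
import Cfsg.Agent.Lib.Leech.CertRefs

/-!
# Moving configurations of vectors to reference configurations
-/

set_option autoImplicit false

namespace Cfsg.Agent.Lib.Leech.ConfigB

open Cfsg Cfsg.Agent.Lib.Golay.Core Cfsg.Agent.Lib.Leech.Basic Cfsg.Agent.Lib.Leech.Vec
  Cfsg.Agent.Lib.Leech.Cert Cfsg.Agent.Lib.Leech.CertData Cfsg.Agent.Lib.Leech.CertBase
  Cfsg.Agent.Lib.Leech.CertLev Cfsg.Agent.Lib.Leech.Word Cfsg.Agent.Lib.Leech.Lat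
  Cfsg.Agent.Lib.Leech.Reach Cfsg.Agent.Lib.Leech.Order Cfsg.Agent.Lib.Leech.Trans

/-- `t` sends each vector of the list to the packed vector. -/
def Maps (t : Co0) (l : List (L × ℕ)) : Prop :=
  ∀ p ∈ l, ((t • p.1 : L) : GolayPt → ℤ) = dec p.2

variable {t g : Co0} {l : List (L × ℕ)}

theorem Maps.mem (h : Maps t l) {p : L × ℕ} (hp : p ∈ l) : dec p.2 ∈ leechLattice := by
  rw [← h p hp]
  exact (t • p.1).2

theorem Maps.eq (h : Maps t l) {p : L × ℕ} (hp : p ∈ l) : t • p.1 = ⟨dec p.2, h.mem hp⟩ :=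
  Subtype.ext (h p hp)

theorem Maps.fix (h : Maps t l) {R : List ℕ} (hR : ∀ p ∈ l, p.2 ∈ R) (hg : g ∈ FixG R) {p : L × ℕ}
    (hp : p ∈ l) : g • (t • p.1) = t • p.1 := by
  rw [h.eq hp]
  exact hg p.2 (hR p hp) _

theorem Maps.conj_fix (h : Maps t l) {R : List ℕ} (hR : ∀ p ∈ l, p.2 ∈ R) (hg : g ∈ FixG R)
    {p : L × ℕ} (hp : p ∈ l) : (t⁻¹ * g * t) • p.1 = p.1 := by
  rw [mul_smul, mul_smul, h.fix hR hg hp, inv_smul_smul]

theorem Maps.mul (h : Maps t l) {R : List ℕ} (hR : ∀ p ∈ l, p.2 ∈ R) (hg : g ∈ FixG R) :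
    Maps (g * t) l := by
  intro p hp
  rw [mul_smul, h.fix hR hg hp]
  exact h p hp

theorem Maps.dot (h : Maps t l) {p : L × ℕ} (hp : p ∈ l) (x : L) :
    dotInt ((t • x : L) : GolayPt → ℤ) (dec p.2) = dotInt (x : GolayPt → ℤ) p.1 := by
  rw [← h p hp]
  exact smul_dot t x p.1

/-- Adding a vector to the list. -/
theorem Maps.step (h : Maps t l) {y : L} {n root : ℕ} {R : List ℕ} (hR : ∀ p ∈ l, p.2 ∈ R)
    (h1 : Rel (FixG R) ((t • y : L) : GolayPt → ℤ) (dec root)) (h2 : Rel (FixG R) (dec n) (dec root)) :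
    ∃ t', Maps t' ((y, n) :: l) := by
  obtain ⟨hn, g, hg, hgy⟩ := h1.trans h2.symm
  refine ⟨g * t, ?_⟩
  intro p hp
  rcases List.mem_cons.1 hp with rfl | hp
  · rw [mul_smul]
    exact hgy
  · exact h.mul hR hg p hp

/-- From a relation on the images to an element fixing the list. -/
theorem Maps.trans (h : Maps t l) {y y' : L} {root : ℕ} {R : List ℕ} (hR : ∀ p ∈ l, p.2 ∈ R)
    (h1 : Rel (FixG R) ((t • y : L) : GolayPt → ℤ) (dec root))
    (h2 : Rel (FixG R) ((t • y' : L) : GolayPt → ℤ) (dec root)) :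
    ∃ g : Co0, (∀ p ∈ l, g • p.1 = p.1) ∧ g • y = y' := by
  obtain ⟨a, ha, hay⟩ := rel_iff.1 (h1.trans h2.symm)
  refine ⟨t⁻¹ * a * t, fun p hp => h.conj_fix hR ha hp, ?_⟩
  rw [mul_smul, mul_smul, hay, inv_smul_smul]

theorem cl1 {N r p q : ℕ} {w : GolayPt → ℤ} :
    Cl N [(r, p, q)] w ↔ w ∈ leechLattice ∧ sqNorm w = N ∧ dotInt w (dec r) = (p : ℤ) - q := by
  simp [Cl]

theorem cl2 {N r p q r' p' q' : ℕ} {w : GolayPt → ℤ} :
    Cl N [(r, p, q), (r', p', q')] w ↔ w ∈ leechLattice ∧ sqNorm w = N ∧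
      dotInt w (dec r) = (p : ℤ) - q ∧ dotInt w (dec r') = (p' : ℤ) - q' := by
  simp [Cl]

theorem cl3 {N r p q r' p' q' r'' p'' q'' : ℕ} {w : GolayPt → ℤ} :
    Cl N [(r, p, q), (r', p', q'), (r'', p'', q'')] w ↔ w ∈ leechLattice ∧ sqNorm w = N ∧
      dotInt w (dec r) = (p : ℤ) - q ∧ dotInt w (dec r') = (p' : ℤ) - q' ∧
        dotInt w (dec r'') = (p'' : ℤ) - q'' := by
  simp [Cl]

/-- Cardinalities: sets of lattice points and of vectors. -/
theorem ncard_L_Cl (N : ℕ) (conds : List (ℕ × ℕ × ℕ)) :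
    {x : L | Cl N conds (x : GolayPt → ℤ)}.ncard = {w | Cl N conds w}.ncard := by
  rw [← Set.ncard_image_of_injective _ Subtype.val_injective]
  congr 1
  ext w
  simp only [Set.mem_image, Set.mem_setOf_eq]
  constructor
  · rintro ⟨x, hx, rfl⟩
    exact hx
  · intro h
    exact ⟨⟨w, h.1⟩, h, rfl⟩

/-- A set described through the images under `t`. -/
theorem ncard_of_iff (t : Co0) {S : Set L} {N : ℕ} {conds : List (ℕ × ℕ × ℕ)}
    (h : ∀ x, x ∈ S ↔ Cl N conds ((t • x : L) : GolayPt → ℤ)) :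
    S.ncard = {w | Cl N conds w}.ncard := by
  rw [← ncard_L_Cl, ← Set.ncard_image_of_injective S (MulAction.injective t)]
  congr 1
  ext y
  simp only [Set.mem_image, Set.mem_setOf_eq]
  constructor
  · rintro ⟨x, hx, rfl⟩
    exact (h x).1 hx
  · intro hy
    refine ⟨t⁻¹ • y, (h _).2 ?_, smul_inv_smul t y⟩
    rwa [smul_inv_smul]

/-- The reference vector of norm 48 in the lattice. -/
def uL : L := ⟨dec nU0, nU0_mem⟩

theorem sq_uL : sqNorm (uL : GolayPt → ℤ) = 48 := by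
  have : dotIs nU0 nU0 48 0 = true := by decide +kernel
  have h := dotIs_iff.1 this
  rw [dotInt_self] at h
  show sqNorm (dec nU0) = 48
  simpa using h

theorem exists_to_u (u : L) (hu : sqNorm (u : GolayPt → ℤ) = 48) : ∃ t, Maps t [(u, nU0)] := by
  obtain ⟨t, ht⟩ := trans48 u uL hu sq_uL
  refine ⟨t, fun p hp => ?_⟩
  have : p = (u, nU0) := by simpa using hp
  subst this
  rw [ht]
  rfl

theorem sub_iff {u x : L} (hu : sqNorm (u : GolayPt → ℤ) = 48) (hx : sqNorm (x : GolayPt → ℤ) = 32) :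
    sqNorm ((u : GolayPt → ℤ) - (x : GolayPt → ℤ)) = 32 ↔ dotInt (x : GolayPt → ℤ) u = 24 := by
  rw [sqNorm_sub, hu, hx, dotInt_comm]
  constructor <;> intro h <;> omega

/-- All the elements of a list of chunks satisfy `Q`. -/
def allL (Q : ℕ → Bool) (L : List Chunk) : Bool :=
  L.all fun e => allUpTo (fun i => forceN (xOf e.1 i) Q) e.2.1

theorem of_allL {Q : ℕ → Bool} {L : List Chunk} (h : allL Q L = true) {x : ℕ} (hx : x ∈ unionL L) :
    Q x = true := by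
  induction L with
  | nil => simp [unionL] at hx
  | cons e L ih =>
    have h0 : allL Q (e :: L) = (allUpTo (fun i => forceN (xOf e.1 i) Q) e.2.1 && allL Q L) := rfl
    rw [h0] at h
    simp only [Bool.and_eq_true] at h
    have hmem : x ∈ elems e ∪ unionL L := hx
    rcases Finset.mem_union.1 hmem with h7 | h7
    · obtain ⟨i, hi, rfl⟩ := Finset.mem_image.1 h7
      have := allUpTo_iff.1 h.1 i (Finset.mem_range.1 hi)
      rwa [forceN_eq] at this
    · exact ih h.2 h7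

end Cfsg.Agent.Lib.Leech.ConfigB
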