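import Cfsg.Agent.Lib.Leech.ConfigB
import Cfsg.Agent.Lib.Leech.CertC112
import Cfsg.Agent.Lib.Leech.CertC162

/-!
# The McLaughlin configuration
-/

set_option autoImplicit false

namespace Cfsg.Agent.Lib.Leech.ConfigM

open Cfsg Cfsg.Agent.Lib.Golay.Core Cfsg.Agent.Lib.Leech.Basic Cfsg.Agent.Lib.Leech.Vec
  Cfsg.Agent.Lib.Leech.Cert Cfsg.Agent.Lib.Leech.CertData Cfsg.Agent.Lib.Leech.CertBase
  Cfsg.Agent.Lib.Leech.CertLev Cfsg.Agent.Lib.Leech.CertRefs Cfsg.Agent.Lib.Leech.Word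
  Cfsg.Agent.Lib.Leech.Lat Cfsg.Agent.Lib.Leech.Reach Cfsg.Agent.Lib.Leech.Order
  Cfsg.Agent.Lib.Leech.Trans Cfsg.Agent.Lib.Leech.ConfigB

/-- Summands of a vector of norm 48. -/
abbrev Xu (u : L) : Set L :=
  {v : L | sqNorm (v : GolayPt → ℤ) = 32 ∧ sqNorm ((u : GolayPt → ℤ) - (v : GolayPt → ℤ)) = 32}

variable {t : Co0} {u v x : L}

theorem mem_C24 (ht : Maps t [(u, nU0)]) (hu : sqNorm (u : GolayPt → ℤ) = 48) (y : L) :
    y ∈ Xu u ↔ Cl 32 CertC24.conds ((t • y : L) : GolayPt → ℤ) := by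
  rw [CertC24.conds, cl1, ht.dot (p := (u, nU0)) (by simp)]
  simp only [Set.mem_setOf_eq, sqNorm_smul, Nat.cast_ofNat, Nat.cast_zero, sub_zero]
  constructor
  · rintro ⟨h1, h2⟩
    exact ⟨(t • y).2, h1, (sub_iff hu h1).1 h2⟩
  · rintro ⟨-, h1, h2⟩
    exact ⟨h1, (sub_iff hu h1).2 h2⟩

/-- The number of summands. -/
theorem ncard_Xu (u : L) (hu : sqNorm (u : GolayPt → ℤ) = 48) : (Xu u).ncard = 552 := by
  obtain ⟨t, ht⟩ := exists_to_u u hu
  rw [ncard_of_iff t (mem_C24 ht hu), CertC24.ncard_eq]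

/-- Transitivity on the summands. -/
theorem trans_Xu (u v v' : L) (hu : sqNorm (u : GolayPt → ℤ) = 48) (hv : v ∈ Xu u) (hv' : v' ∈ Xu u) :
    ∃ g : Co0, g • u = u ∧ g • v = v' := by
  obtain ⟨t, ht⟩ := exists_to_u u hu
  obtain ⟨g, hg, h⟩ := ht.trans (by simp [CertC24.R]) (CertC24.rel ((mem_C24 ht hu v).1 hv))
    (CertC24.rel ((mem_C24 ht hu v').1 hv'))
  exact ⟨g, hg (u, nU0) (by simp), h⟩

theorem nV1_cl : Cl 32 CertC24.conds (dec nV1) := classB_iff.1 (by decide +kernel)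

/-- A vector and a summand can be moved to the reference pair. -/
theorem exists_to_uv {u v : L} (hu : sqNorm (u : GolayPt → ℤ) = 48) (hv : v ∈ Xu u) :
    ∃ t, Maps t [(v, nV1), (u, nU0)] := by
  obtain ⟨t, ht⟩ := exists_to_u u hu
  exact ht.step (R := CertC24.R) (by simp [CertC24.R]) (CertC24.rel ((mem_C24 ht hu v).1 hv))
    (CertC24.rel nV1_cl)

/-- The 275 points. -/
abbrev X275 (u v : L) : Set L :=
  {x : L | sqNorm (x : GolayPt → ℤ) = 32 ∧ sqNorm ((u : GolayPt → ℤ) - (x : GolayPt → ℤ)) = 32 ∧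
    dotInt (v : GolayPt → ℤ) (x : GolayPt → ℤ) = 16}

theorem mem_C275 (ht : Maps t [(v, nV1), (u, nU0)]) (hu : sqNorm (u : GolayPt → ℤ) = 48) (y : L) :
    y ∈ X275 u v ↔ Cl 32 CertC275.conds ((t • y : L) : GolayPt → ℤ) := by
  rw [CertC275.conds, cl2, ht.dot (p := (u, nU0)) (by simp), ht.dot (p := (v, nV1)) (by simp)]
  simp only [Set.mem_setOf_eq, sqNorm_smul, Nat.cast_ofNat, Nat.cast_zero, sub_zero]
  rw [dotInt_comm (y : GolayPt → ℤ) (v : GolayPt → ℤ)]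
  constructor
  · rintro ⟨h1, h2, h3⟩
    exact ⟨(t • y).2, h1, (sub_iff hu h1).1 h2, h3⟩
  · rintro ⟨-, h1, h2, h3⟩
    exact ⟨h1, (sub_iff hu h1).2 h2, h3⟩

theorem ncard_X275 (u v : L) (hu : sqNorm (u : GolayPt → ℤ) = 48) (hv : v ∈ Xu u) :
    (X275 u v).ncard = 275 := by
  obtain ⟨t, ht⟩ := exists_to_uv hu hv
  rw [ncard_of_iff t (mem_C275 ht hu), CertC275.ncard_eq]

theorem trans_X275 (u v x x' : L) (hu : sqNorm (u : GolayPt → ℤ) = 48) (hv : v ∈ Xu u)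
    (hx : x ∈ X275 u v) (hx' : x' ∈ X275 u v) : ∃ g : Co0, g • u = u ∧ g • v = v ∧ g • x = x' := by
  obtain ⟨t, ht⟩ := exists_to_uv hu hv
  obtain ⟨g, hg, h⟩ := ht.trans (by simp [CertC275.R]) (CertC275.rel ((mem_C275 ht hu x).1 hx))
    (CertC275.rel ((mem_C275 ht hu x').1 hx'))
  exact ⟨g, hg (u, nU0) (by simp), hg (v, nV1) (by simp), h⟩

theorem nX0_cl : Cl 32 CertC275.conds (dec nX0) := classB_iff.1 (by decide +kernel)

theorem exists_to_uvx {u v x : L} (hu : sqNorm (u : GolayPt → ℤ) = 48) (hv : v ∈ Xu u)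
    (hx : x ∈ X275 u v) : ∃ t, Maps t [(x, nX0), (v, nV1), (u, nU0)] := by
  obtain ⟨t, ht⟩ := exists_to_uv hu hv
  exact ht.step (R := CertC275.R) (by simp [CertC275.R]) (CertC275.rel ((mem_C275 ht hu x).1 hx))
    (CertC275.rel nX0_cl)

theorem mem_C112 (ht : Maps t [(x, nX0), (v, nV1), (u, nU0)]) (hu : sqNorm (u : GolayPt → ℤ) = 48)
    (y : L) : (y ∈ X275 u v ∧ dotInt (x : GolayPt → ℤ) (y : GolayPt → ℤ) = 8) ↔
      Cl 32 CertC112.conds ((t • y : L) : GolayPt → ℤ) := by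
  rw [CertC112.conds, cl3, ht.dot (p := (u, nU0)) (by simp), ht.dot (p := (v, nV1)) (by simp),
    ht.dot (p := (x, nX0)) (by simp)]
  simp only [Set.mem_setOf_eq, sqNorm_smul, Nat.cast_ofNat, Nat.cast_zero, sub_zero]
  rw [dotInt_comm (y : GolayPt → ℤ) (v : GolayPt → ℤ), dotInt_comm (y : GolayPt → ℤ) (x : GolayPt → ℤ)]
  constructor
  · rintro ⟨⟨h1, h2, h3⟩, h4⟩
    exact ⟨(t • y).2, h1, (sub_iff hu h1).1 h2, h3, h4⟩
  · rintro ⟨-, h1, h2, h3, h4⟩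
    exact ⟨⟨h1, (sub_iff hu h1).2 h2, h3⟩, h4⟩

theorem mem_C162 (ht : Maps t [(x, nX0), (v, nV1), (u, nU0)]) (hu : sqNorm (u : GolayPt → ℤ) = 48)
    (y : L) : (y ∈ X275 u v ∧ dotInt (x : GolayPt → ℤ) (y : GolayPt → ℤ) = 16) ↔
      Cl 32 CertC162.conds ((t • y : L) : GolayPt → ℤ) := by
  rw [CertC162.conds, cl3, ht.dot (p := (u, nU0)) (by simp), ht.dot (p := (v, nV1)) (by simp),
    ht.dot (p := (x, nX0)) (by simp)]
  simp only [Set.mem_setOf_eq, sqNorm_smul, Nat.cast_ofNat, Nat.cast_zero, sub_zero]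
  rw [dotInt_comm (y : GolayPt → ℤ) (v : GolayPt → ℤ), dotInt_comm (y : GolayPt → ℤ) (x : GolayPt → ℤ)]
  constructor
  · rintro ⟨⟨h1, h2, h3⟩, h4⟩
    exact ⟨(t • y).2, h1, (sub_iff hu h1).1 h2, h3, h4⟩
  · rintro ⟨-, h1, h2, h3, h4⟩
    exact ⟨⟨h1, (sub_iff hu h1).2 h2, h3⟩, h4⟩

/-- The inner products on the 275 points. -/
def dotsB (n : ℕ) : Bool := cond (Nat.beq n nX0) true (dotIs n nX0 8 0 || dotIs n nX0 16 0)

theorem dots_all : allL dotsB CertC275.L = true := by decide +kernel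

theorem sq_of_mem {y : L} (hy : y ∈ X275 u v) : sqNorm (y : GolayPt → ℤ) = 32 := hy.1

/-- The inner products of two of the 275 points. -/
theorem dot_cases (hu : sqNorm (u : GolayPt → ℤ) = 48) (hv : v ∈ Xu u) (hx : x ∈ X275 u v)
    {y : L} (hy : y ∈ X275 u v) (hne : y ≠ x) :
    dotInt (x : GolayPt → ℤ) (y : GolayPt → ℤ) = 8 ∨ dotInt (x : GolayPt → ℤ) (y : GolayPt → ℤ) = 16 := by
  obtain ⟨t, ht⟩ := exists_to_uvx hu hv hx
  have ht' : Maps t [(v, nV1), (u, nU0)] := fun p hp => ht p (List.mem_cons_of_mem _ hp)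
  obtain ⟨z, hz, hzy⟩ := CertC275.cover _ ((mem_C275 ht' hu y).1 hy)
  have h1 := of_allL dots_all hz
  have h2 : dotInt (dec z) (dec nX0) = dotInt (y : GolayPt → ℤ) (x : GolayPt → ℤ) := by
    rw [hzy]
    exact ht.dot (p := (x, nX0)) (by simp) y
  rw [dotInt_comm (x : GolayPt → ℤ)]
  unfold dotsB at h1
  cases h3 : Nat.beq z nX0 with
  | true =>
    exfalso
    have h4 : z = nX0 := Nat.eq_of_beq_eq_true h3
    apply hne
    have h5 : t • y = t • x := by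
      apply Subtype.ext
      rw [← hzy, h4]
      exact (ht (x, nX0) (by simp)).symm
    exact smul_left_cancel t h5
  | false =>
    rw [h3] at h1
    simp only [cond_false, Bool.or_eq_true] at h1
    rcases h1 with h1 | h1
    · left
      rw [← h2, dotIs_iff.1 h1]
      simp
    · right
      rw [← h2, dotIs_iff.1 h1]
      simp

theorem rank3 (u v x : L) (hu : sqNorm (u : GolayPt → ℤ) = 48) (hv : v ∈ Xu u) (hx : x ∈ X275 u v) :
    {y : L | y ∈ X275 u v ∧ dotInt (x : GolayPt → ℤ) (y : GolayPt → ℤ) = 8}.ncard = 112 ∧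
    {y : L | y ∈ X275 u v ∧ y ≠ x ∧ dotInt (x : GolayPt → ℤ) (y : GolayPt → ℤ) = 16}.ncard = 162 ∧
    ∀ y ∈ X275 u v, ∀ y' ∈ X275 u v, y ≠ x → y' ≠ x →
      dotInt (x : GolayPt → ℤ) (y : GolayPt → ℤ) = dotInt (x : GolayPt → ℤ) (y' : GolayPt → ℤ) →
        ∃ g : Co0, g • u = u ∧ g • v = v ∧ g • x = x ∧ g • y = y' := by
  obtain ⟨t, ht⟩ := exists_to_uvx hu hv hx
  have hsq : sqNorm (x : GolayPt → ℤ) = 32 := hx.1
  refine ⟨?_, ?_, ?_⟩
  · rw [ncard_of_iff (S := {y : L | y ∈ X275 u v ∧ dotInt (x : GolayPt → ℤ) (y : GolayPt → ℤ) = 8}) t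
      (mem_C112 ht hu), CertC112.ncard_eq]
  · have h1 : {y : L | y ∈ X275 u v ∧ y ≠ x ∧ dotInt (x : GolayPt → ℤ) (y : GolayPt → ℤ) = 16} =
        {y : L | y ∈ X275 u v ∧ dotInt (x : GolayPt → ℤ) (y : GolayPt → ℤ) = 16} := by
      ext y
      simp only [Set.mem_setOf_eq]
      constructor
      · rintro ⟨h2, -, h3⟩
        exact ⟨h2, h3⟩
      · rintro ⟨h2, h3⟩
        refine ⟨h2, ?_, h3⟩
        rintro rfl
        rw [dotInt_self, hsq] at h3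
        norm_num at h3
    rw [h1, ncard_of_iff (S := {y : L | y ∈ X275 u v ∧ dotInt (x : GolayPt → ℤ) (y : GolayPt → ℤ) = 16}) t
      (mem_C162 ht hu), CertC162.ncard_eq]
  · intro y hy y' hy' hne hne' hd
    rcases dot_cases hu hv hx hy hne with h | h
    · have h' := hd ▸ h
      obtain ⟨g, hg, hgy⟩ := ht.trans (by simp [CertC112.R])
        (CertC112.rel ((mem_C112 ht hu y).1 ⟨hy, h⟩)) (CertC112.rel ((mem_C112 ht hu y').1 ⟨hy', h'⟩))
      exact ⟨g, hg (u, nU0) (by simp), hg (v, nV1) (by simp), hg (x, nX0) (by simp), hgy⟩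
    · have h' := hd ▸ h
      obtain ⟨g, hg, hgy⟩ := ht.trans (by simp [CertC162.R])
        (CertC162.rel ((mem_C162 ht hu y).1 ⟨hy, h⟩)) (CertC162.rel ((mem_C162 ht hu y').1 ⟨hy', h'⟩))
      exact ⟨g, hg (u, nU0) (by simp), hg (v, nV1) (by simp), hg (x, nX0) (by simp), hgy⟩

end Cfsg.Agent.Lib.Leech.ConfigM
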