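import Cfsg.Agent.Lib.Leech.ConfigO
import Cfsg.Agent.Lib.Leech.ConfigM
import Cfsg.Agent.Lib.Leech.CertD330
import Cfsg.Agent.Lib.Leech.CertD462
import Cfsg.Agent.Lib.Leech.CertD1232

/-!
# The action of the McLaughlin group on 2025 vectors
-/

set_option autoImplicit false

namespace Cfsg.Agent.Lib.Leech.ConfigD

open Cfsg Cfsg.Agent.Lib.Golay.Core Cfsg.Agent.Lib.Leech.Basic Cfsg.Agent.Lib.Leech.Vec
  Cfsg.Agent.Lib.Leech.Cert Cfsg.Agent.Lib.Leech.CertData Cfsg.Agent.Lib.Leech.CertBase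
  Cfsg.Agent.Lib.Leech.CertLev Cfsg.Agent.Lib.Leech.CertRefs Cfsg.Agent.Lib.Leech.Word
  Cfsg.Agent.Lib.Leech.Lat Cfsg.Agent.Lib.Leech.Reach Cfsg.Agent.Lib.Leech.Order
  Cfsg.Agent.Lib.Leech.Trans Cfsg.Agent.Lib.Leech.ConfigB Cfsg.Agent.Lib.Leech.ConfigO
  Cfsg.Agent.Lib.Leech.ConfigM

variable {t : Co0} {v w x : L}

theorem sq_vw (hv : sqNorm (v : GolayPt → ℤ) = 32) (hw : sqNorm (w : GolayPt → ℤ) = 32)
    (hvw : dotInt (v : GolayPt → ℤ) (w : GolayPt → ℤ) = -8) :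
    sqNorm ((v + w : L) : GolayPt → ℤ) = 48 := by
  show sqNorm ((v : GolayPt → ℤ) + (w : GolayPt → ℤ)) = 48
  rw [Cfsg.Agent.Lib.Leech.Even.sqNorm_add, hv, hw, hvw]
  norm_num

theorem v_mem (hv : sqNorm (v : GolayPt → ℤ) = 32) (hw : sqNorm (w : GolayPt → ℤ) = 32) :
    v ∈ Xu (v + w) := by
  refine ⟨hv, ?_⟩
  have : ((v + w : L) : GolayPt → ℤ) - (v : GolayPt → ℤ) = (w : GolayPt → ℤ) := by
    show (v : GolayPt → ℤ) + (w : GolayPt → ℤ) - (v : GolayPt → ℤ) = _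
    abel
  rw [this]
  exact hw

/-- The 2025 points. -/
abbrev X2025 (v w : L) : Set L :=
  {x : L | sqNorm (x : GolayPt → ℤ) = 32 ∧ dotInt (v : GolayPt → ℤ) (x : GolayPt → ℤ) = 0 ∧
    dotInt (w : GolayPt → ℤ) (x : GolayPt → ℤ) = 16}

theorem dot_sum (y : L) : dotInt (y : GolayPt → ℤ) ((v + w : L) : GolayPt → ℤ) =
    dotInt (v : GolayPt → ℤ) (y : GolayPt → ℤ) + dotInt (w : GolayPt → ℤ) (y : GolayPt → ℤ) := by
  show dotInt (y : GolayPt → ℤ) ((v : GolayPt → ℤ) + (w : GolayPt → ℤ)) = _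
  rw [dotInt_add_right, dotInt_comm (y : GolayPt → ℤ), dotInt_comm (y : GolayPt → ℤ)]

theorem mem_C2025 (ht : Maps t [(v, nV1), (v + w, nU0)]) (y : L) :
    y ∈ X2025 v w ↔ Cl 32 CertC2025.conds ((t • y : L) : GolayPt → ℤ) := by
  rw [CertC2025.conds, cl2, ht.dot (p := (v + w, nU0)) (by simp), ht.dot (p := (v, nV1)) (by simp),
    dot_sum]
  simp only [Set.mem_setOf_eq, sqNorm_smul, Nat.cast_ofNat, Nat.cast_zero, sub_zero]
  rw [dotInt_comm (y : GolayPt → ℤ) (v : GolayPt → ℤ)]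
  constructor
  · rintro ⟨h1, h2, h3⟩
    exact ⟨(t • y).2, h1, by omega, h2⟩
  · rintro ⟨-, h1, h2, h3⟩
    exact ⟨h1, h3, by omega⟩

theorem fix_w {g : Co0} (h1 : g • v = v) (h2 : g • (v + w) = v + w) : g • w = w := by
  rw [Lat.smul_add, h1] at h2
  exact add_left_cancel h2

theorem nX1_cl : Cl 32 CertC2025.conds (dec nX1) := classB_iff.1 (by decide +kernel)

theorem exists_to_vwx {v w x : L} (hv : sqNorm (v : GolayPt → ℤ) = 32) (hw : sqNorm (w : GolayPt → ℤ) = 32)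
    (hvw : dotInt (v : GolayPt → ℤ) (w : GolayPt → ℤ) = -8) (hx : x ∈ X2025 v w) :
    ∃ t, Maps t [(x, nX1), (v, nV1), (v + w, nU0)] := by
  obtain ⟨t, ht⟩ := exists_to_uv (sq_vw hv hw hvw) (v_mem hv hw)
  exact ht.step (R := CertC2025.R) (by simp [CertC2025.R]) (CertC2025.rel ((mem_C2025 ht x).1 hx))
    (CertC2025.rel nX1_cl)

/-- The subgroup fixing the three vectors. -/
abbrev SS3 (v w x : L) : Subgroup Co0 :=
  MulAction.stabilizer Co0 v ⊓ MulAction.stabilizer Co0 w ⊓ MulAction.stabilizer Co0 x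

/-- The class with given inner product with `x`. -/
abbrev Ya (v w x : L) (a : ℤ) : Set L :=
  {y : L | y ∈ X2025 v w ∧ dotInt (x : GolayPt → ℤ) (y : GolayPt → ℤ) = a}

theorem inv_Ya (a : ℤ) : ∀ g ∈ SS3 v w x, ∀ y ∈ Ya v w x a, g • y ∈ Ya v w x a := by
  rintro g ⟨⟨h1, h2⟩, h3⟩ y ⟨⟨h4, h5, h6⟩, h7⟩
  have h1' : g • v = v := h1
  have h2' : g • w = w := h2
  have h3' : g • x = x := h3
  refine ⟨⟨?_, ?_, ?_⟩, ?_⟩
  · rw [sqNorm_smul]
    exact h4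
  · have h8 := smul_dot g v y
    rw [h1'] at h8
    show dotInt (v : GolayPt → ℤ) ((g • y : L) : GolayPt → ℤ) = 0
    rw [h8]
    exact h5
  · have h8 := smul_dot g w y
    rw [h2'] at h8
    show dotInt (w : GolayPt → ℤ) ((g • y : L) : GolayPt → ℤ) = 16
    rw [h8]
    exact h6
  · have h8 := smul_dot g x y
    rw [h3'] at h8
    show dotInt (x : GolayPt → ℤ) ((g • y : L) : GolayPt → ℤ) = a
    rw [h8]
    exact h7

theorem S_of_fix (ht : Maps t [(x, nX1), (v, nV1), (v + w, nU0)]) {R : List ℕ} (hU : nU0 ∈ R)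
    (hV : nV1 ∈ R) (hX : nX1 ∈ R) : ∀ a ∈ FixG R, t⁻¹ * a * t ∈ SS3 v w x := by
  intro a ha
  have h0 : ∀ p ∈ [(x, nX1), (v, nV1), (v + w, nU0)], p.2 ∈ R := by
    intro p hp
    simp only [List.mem_cons, List.not_mem_nil, or_false] at hp
    rcases hp with rfl | rfl | rfl
    · exact hX
    · exact hV
    · exact hU
  have h1 := ht.conj_fix h0 ha (p := (v, nV1)) (by simp)
  have h2 := ht.conj_fix h0 ha (p := (v + w, nU0)) (by simp)
  have h3 := ht.conj_fix h0 ha (p := (x, nX1)) (by simp)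
  exact ⟨⟨h1, fix_w h1 h2⟩, h3⟩

theorem mem_gen {p q : ℕ} {a : ℤ} (ha : a = (p : ℤ) - q) (ht : Maps t [(x, nX1), (v, nV1), (v + w, nU0)])
    (y : L) : y ∈ Ya v w x a ↔ Cl 32 [(nU0, 16, 0), (nV1, 0, 0), (nX1, p, q)] ((t • y : L) : GolayPt → ℤ) := by
  rw [cl3, ht.dot (p := (v + w, nU0)) (by simp), ht.dot (p := (v, nV1)) (by simp),
    ht.dot (p := (x, nX1)) (by simp), dot_sum]
  simp only [Set.mem_setOf_eq, sqNorm_smul, Nat.cast_ofNat, Nat.cast_zero, sub_zero]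
  rw [dotInt_comm (y : GolayPt → ℤ) (v : GolayPt → ℤ), dotInt_comm (y : GolayPt → ℤ) (x : GolayPt → ℤ)]
  constructor
  · rintro ⟨⟨h1, h2, h3⟩, h4⟩
    exact ⟨(t • y).2, h1, by omega, h2, by rw [h4, ha]⟩
  · rintro ⟨-, h1, h2, h3, h4⟩
    exact ⟨⟨h1, h3, by omega⟩, by rw [h4, ha]⟩

theorem ncard_X2025 (v w : L) (hv : sqNorm (v : GolayPt → ℤ) = 32) (hw : sqNorm (w : GolayPt → ℤ) = 32)
    (hvw : dotInt (v : GolayPt → ℤ) (w : GolayPt → ℤ) = -8) : (X2025 v w).ncard = 2025 := by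
  obtain ⟨t, ht⟩ := exists_to_uv (sq_vw hv hw hvw) (v_mem hv hw)
  rw [ncard_of_iff t (mem_C2025 ht), CertC2025.ncard_eq]

theorem trans_X2025 (v w x x' : L) (hv : sqNorm (v : GolayPt → ℤ) = 32)
    (hw : sqNorm (w : GolayPt → ℤ) = 32) (hvw : dotInt (v : GolayPt → ℤ) (w : GolayPt → ℤ) = -8)
    (hx : x ∈ X2025 v w) (hx' : x' ∈ X2025 v w) :
    ∃ g : Co0, g • v = v ∧ g • w = w ∧ g • x = x' := by
  obtain ⟨t, ht⟩ := exists_to_uv (sq_vw hv hw hvw) (v_mem hv hw)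
  obtain ⟨g, hg, h⟩ := ht.trans (by simp [CertC2025.R]) (CertC2025.rel ((mem_C2025 ht x).1 hx))
    (CertC2025.rel ((mem_C2025 ht x').1 hx'))
  have h1 := hg (v, nV1) (by simp)
  exact ⟨g, h1, fix_w h1 (hg (v + w, nU0) (by simp)), h⟩

/-- Orbits of the stabiliser of a point. -/
theorem rank4 (v w x : L) (hv : sqNorm (v : GolayPt → ℤ) = 32) (hw : sqNorm (w : GolayPt → ℤ) = 32)
    (hvw : dotInt (v : GolayPt → ℤ) (w : GolayPt → ℤ) = -8) (hx : x ∈ X2025 v w) :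
    ∃ y₁ ∈ X2025 v w, ∃ y₂ ∈ X2025 v w, ∃ y₃ ∈ X2025 v w,
      (MulAction.orbit (SS3 v w x) y₁).ncard = 330 ∧ (MulAction.orbit (SS3 v w x) y₂).ncard = 462 ∧
      (MulAction.orbit (SS3 v w x) y₃).ncard = 1232 := by
  obtain ⟨t, ht⟩ := exists_to_vwx hv hw hvw hx
  obtain ⟨y₁, h1, h1a, -⟩ := class_orbit (S := SS3 v w x) (A := Ya v w x 0) (T := t)
    (conds := CertD330.conds) (R := CertD330.R) (root := CertD330.root) (n := 330)
    (fun y => mem_gen (p := 0) (q := 0) (by norm_num) ht y) (fun h => CertD330.rel h) CertD330.root_cl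
    (S_of_fix ht (by simp [CertD330.R]) (by simp [CertD330.R]) (by simp [CertD330.R])) (inv_Ya _)
    CertD330.ncard_eq
  obtain ⟨y₂, h2, h2a, -⟩ := class_orbit (S := SS3 v w x) (A := Ya v w x 16) (T := t)
    (conds := CertD462.conds) (R := CertD462.R) (root := CertD462.root) (n := 462)
    (fun y => mem_gen (p := 16) (q := 0) (by norm_num) ht y) (fun h => CertD462.rel h) CertD462.root_cl
    (S_of_fix ht (by simp [CertD462.R]) (by simp [CertD462.R]) (by simp [CertD462.R])) (inv_Ya _)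
    CertD462.ncard_eq
  obtain ⟨y₃, h3, h3a, -⟩ := class_orbit (S := SS3 v w x) (A := Ya v w x 8) (T := t)
    (conds := CertD1232.conds) (R := CertD1232.R) (root := CertD1232.root) (n := 1232)
    (fun y => mem_gen (p := 8) (q := 0) (by norm_num) ht y) (fun h => CertD1232.rel h) CertD1232.root_cl
    (S_of_fix ht (by simp [CertD1232.R]) (by simp [CertD1232.R]) (by simp [CertD1232.R])) (inv_Ya _)
    CertD1232.ncard_eq
  exact ⟨y₁, h1.1, y₂, h2.1, y₃, h3.1, h1a, h2a, h3a⟩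

end Cfsg.Agent.Lib.Leech.ConfigD
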