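import Cfsg.Agent.Lib.Leech.ConfigB
import Cfsg.Agent.Lib.Leech.CertC22
import Cfsg.Agent.Lib.Leech.CertC77
import Cfsg.Agent.Lib.Leech.CertC16

/-!
# The Higman-Sims configuration
-/

set_option autoImplicit false

namespace Cfsg.Agent.Lib.Leech.ConfigH

open Cfsg Cfsg.Agent.Lib.Golay.Core Cfsg.Agent.Lib.Leech.Basic Cfsg.Agent.Lib.Leech.Vec
  Cfsg.Agent.Lib.Leech.Cert Cfsg.Agent.Lib.Leech.CertData Cfsg.Agent.Lib.Leech.CertBase
  Cfsg.Agent.Lib.Leech.CertLev Cfsg.Agent.Lib.Leech.CertRefs Cfsg.Agent.Lib.Leech.Word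
  Cfsg.Agent.Lib.Leech.Lat Cfsg.Agent.Lib.Leech.Reach Cfsg.Agent.Lib.Leech.Order
  Cfsg.Agent.Lib.Leech.Trans Cfsg.Agent.Lib.Leech.ConfigB

variable {t : Co0} {v w x : L}

/-- The minimal vector attached to a pair. -/
theorem sq_add (hv : sqNorm (v : GolayPt → ℤ) = 48) (hw : sqNorm (w : GolayPt → ℤ) = 48)
    (hvw : dotInt (v : GolayPt → ℤ) (w : GolayPt → ℤ) = -32) :
    sqNorm ((v + w : L) : GolayPt → ℤ) = 32 := by
  show sqNorm ((v : GolayPt → ℤ) + (w : GolayPt → ℤ)) = 32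
  rw [Cfsg.Agent.Lib.Leech.Even.sqNorm_add, hv, hw, hvw]
  norm_num

theorem dot_add (hv : sqNorm (v : GolayPt → ℤ) = 48)
    (hvw : dotInt (v : GolayPt → ℤ) (w : GolayPt → ℤ) = -32) :
    dotInt ((v + w : L) : GolayPt → ℤ) (v : GolayPt → ℤ) = 16 := by
  show dotInt ((v : GolayPt → ℤ) + (w : GolayPt → ℤ)) (v : GolayPt → ℤ) = 16
  rw [dotInt_add_left, dotInt_self, hv, dotInt_comm, hvw]
  norm_num

theorem nX1_cl : Cl 32 CertC16.conds (dec nX1) := classB_iff.1 (by decide +kernel)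

/-- The images of the elements of a class with inner product 16. -/
theorem cl_C16 {t : Co0} {u : L} (ht : Maps t [(u, nU0)]) {y : L} (h1 : sqNorm (y : GolayPt → ℤ) = 32)
    (h2 : dotInt (y : GolayPt → ℤ) (u : GolayPt → ℤ) = 16) :
    Cl 32 CertC16.conds ((t • y : L) : GolayPt → ℤ) := by
  rw [CertC16.conds, cl1, ht.dot (p := (u, nU0)) (by simp), sqNorm_smul, h1, h2]
  exact ⟨(t • y).2, rfl, by norm_num⟩

/-- A pair can be moved to the reference pair. -/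
theorem exists_to_pair (hv : sqNorm (v : GolayPt → ℤ) = 48) (hw : sqNorm (w : GolayPt → ℤ) = 48)
    (hvw : dotInt (v : GolayPt → ℤ) (w : GolayPt → ℤ) = -32) :
    ∃ t, Maps t [(v + w, nX1), (v, nU0)] := by
  obtain ⟨t, ht⟩ := exists_to_u v hv
  exact ht.step (R := CertC16.R) (by simp [CertC16.R])
    (CertC16.rel (cl_C16 ht (sq_add hv hw hvw) (dot_add hv hvw))) (CertC16.rel nX1_cl)

/-- Fixing the first vector and the sum is fixing the two vectors. -/
theorem fix_w {g : Co0} (h1 : g • v = v) (h2 : g • (v + w) = v + w) : g • w = w := by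
  rw [Lat.smul_add, h1] at h2
  exact add_left_cancel h2

/-- The 100 points. -/
abbrev X100 (v w : L) : Set L :=
  {x : L | sqNorm (x : GolayPt → ℤ) = 32 ∧ dotInt (v : GolayPt → ℤ) (x : GolayPt → ℤ) = 24 ∧
    dotInt (w : GolayPt → ℤ) (x : GolayPt → ℤ) = -24}

theorem dot_sum (y : L) : dotInt (y : GolayPt → ℤ) ((v + w : L) : GolayPt → ℤ) =
    dotInt (v : GolayPt → ℤ) (y : GolayPt → ℤ) + dotInt (w : GolayPt → ℤ) (y : GolayPt → ℤ) := by
  show dotInt (y : GolayPt → ℤ) ((v : GolayPt → ℤ) + (w : GolayPt → ℤ)) = _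
  rw [dotInt_add_right, dotInt_comm (y : GolayPt → ℤ), dotInt_comm (y : GolayPt → ℤ)]

theorem mem_C100 (ht : Maps t [(v + w, nX1), (v, nU0)]) (y : L) :
    y ∈ X100 v w ↔ Cl 32 CertC100.conds ((t • y : L) : GolayPt → ℤ) := by
  rw [CertC100.conds, cl2, ht.dot (p := (v, nU0)) (by simp), ht.dot (p := (v + w, nX1)) (by simp),
    dot_sum]
  simp only [Set.mem_setOf_eq, sqNorm_smul, Nat.cast_ofNat, Nat.cast_zero, sub_zero]
  rw [dotInt_comm (y : GolayPt → ℤ) (v : GolayPt → ℤ)]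
  constructor
  · rintro ⟨h1, h2, h3⟩
    exact ⟨(t • y).2, h1, h2, by omega⟩
  · rintro ⟨-, h1, h2, h3⟩
    exact ⟨h1, h2, by omega⟩

theorem ncard_X100 (v w : L) (hv : sqNorm (v : GolayPt → ℤ) = 48) (hw : sqNorm (w : GolayPt → ℤ) = 48)
    (hvw : dotInt (v : GolayPt → ℤ) (w : GolayPt → ℤ) = -32) : (X100 v w).ncard = 100 := by
  obtain ⟨t, ht⟩ := exists_to_pair hv hw hvw
  rw [ncard_of_iff t (mem_C100 ht), CertC100.ncard_eq]

theorem trans_X100 (v w x x' : L) (hv : sqNorm (v : GolayPt → ℤ) = 48)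
    (hw : sqNorm (w : GolayPt → ℤ) = 48) (hvw : dotInt (v : GolayPt → ℤ) (w : GolayPt → ℤ) = -32)
    (hx : x ∈ X100 v w) (hx' : x' ∈ X100 v w) : ∃ g : Co0, g • v = v ∧ g • w = w ∧ g • x = x' := by
  obtain ⟨t, ht⟩ := exists_to_pair hv hw hvw
  obtain ⟨g, hg, h⟩ := ht.trans (by simp [CertC100.R]) (CertC100.rel ((mem_C100 ht x).1 hx))
    (CertC100.rel ((mem_C100 ht x').1 hx'))
  have h1 := hg (v, nU0) (by simp)
  exact ⟨g, h1, fix_w h1 (hg (v + w, nX1) (by simp)), h⟩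

theorem nV1_cl100 : Cl 32 CertC100.conds (dec nV1) := classB_iff.1 (by decide +kernel)

theorem exists_to_triple (hv : sqNorm (v : GolayPt → ℤ) = 48) (hw : sqNorm (w : GolayPt → ℤ) = 48)
    (hvw : dotInt (v : GolayPt → ℤ) (w : GolayPt → ℤ) = -32) (hx : x ∈ X100 v w) :
    ∃ t, Maps t [(x, nV1), (v + w, nX1), (v, nU0)] := by
  obtain ⟨t, ht⟩ := exists_to_pair hv hw hvw
  exact ht.step (R := CertC100.R) (by simp [CertC100.R]) (CertC100.rel ((mem_C100 ht x).1 hx))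
    (CertC100.rel nV1_cl100)

theorem mem_C22 (ht : Maps t [(x, nV1), (v + w, nX1), (v, nU0)]) (y : L) :
    (y ∈ X100 v w ∧ dotInt (x : GolayPt → ℤ) (y : GolayPt → ℤ) = 8) ↔
      Cl 32 CertC22.conds ((t • y : L) : GolayPt → ℤ) := by
  rw [CertC22.conds, cl3, ht.dot (p := (v, nU0)) (by simp), ht.dot (p := (v + w, nX1)) (by simp),
    ht.dot (p := (x, nV1)) (by simp), dot_sum]
  simp only [Set.mem_setOf_eq, sqNorm_smul, Nat.cast_ofNat, Nat.cast_zero, sub_zero]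
  rw [dotInt_comm (y : GolayPt → ℤ) (v : GolayPt → ℤ), dotInt_comm (y : GolayPt → ℤ) (x : GolayPt → ℤ)]
  constructor
  · rintro ⟨⟨h1, h2, h3⟩, h4⟩
    exact ⟨(t • y).2, h1, h2, by omega, h4⟩
  · rintro ⟨-, h1, h2, h3, h4⟩
    exact ⟨⟨h1, h2, by omega⟩, h4⟩

theorem mem_C77 (ht : Maps t [(x, nV1), (v + w, nX1), (v, nU0)]) (y : L) :
    (y ∈ X100 v w ∧ dotInt (x : GolayPt → ℤ) (y : GolayPt → ℤ) = 16) ↔
      Cl 32 CertC77.conds ((t • y : L) : GolayPt → ℤ) := by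
  rw [CertC77.conds, cl3, ht.dot (p := (v, nU0)) (by simp), ht.dot (p := (v + w, nX1)) (by simp),
    ht.dot (p := (x, nV1)) (by simp), dot_sum]
  simp only [Set.mem_setOf_eq, sqNorm_smul, Nat.cast_ofNat, Nat.cast_zero, sub_zero]
  rw [dotInt_comm (y : GolayPt → ℤ) (v : GolayPt → ℤ), dotInt_comm (y : GolayPt → ℤ) (x : GolayPt → ℤ)]
  constructor
  · rintro ⟨⟨h1, h2, h3⟩, h4⟩
    exact ⟨(t • y).2, h1, h2, by omega, h4⟩
  · rintro ⟨-, h1, h2, h3, h4⟩
    exact ⟨⟨h1, h2, by omega⟩, h4⟩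

/-- The inner products on the 100 points. -/
def dotsB (n : ℕ) : Bool := cond (Nat.beq n nV1) true (dotIs n nV1 8 0 || dotIs n nV1 16 0)

theorem dots_all : allL dotsB CertC100.L = true := by decide +kernel

/-- The inner products of two of the 100 points. -/
theorem dot_cases (hv : sqNorm (v : GolayPt → ℤ) = 48) (hw : sqNorm (w : GolayPt → ℤ) = 48)
    (hvw : dotInt (v : GolayPt → ℤ) (w : GolayPt → ℤ) = -32) (hx : x ∈ X100 v w)
    {y : L} (hy : y ∈ X100 v w) (hne : y ≠ x) :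
    dotInt (x : GolayPt → ℤ) (y : GolayPt → ℤ) = 8 ∨ dotInt (x : GolayPt → ℤ) (y : GolayPt → ℤ) = 16 := by
  obtain ⟨t, ht⟩ := exists_to_triple hv hw hvw hx
  have ht' : Maps t [(v + w, nX1), (v, nU0)] := fun p hp => ht p (List.mem_cons_of_mem _ hp)
  obtain ⟨z, hz, hzy⟩ := CertC100.cover _ ((mem_C100 ht' y).1 hy)
  have h1 := of_allL dots_all hz
  have h2 : dotInt (dec z) (dec nV1) = dotInt (y : GolayPt → ℤ) (x : GolayPt → ℤ) := by
    rw [hzy]
    exact ht.dot (p := (x, nV1)) (by simp) y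
  rw [dotInt_comm (x : GolayPt → ℤ)]
  unfold dotsB at h1
  cases h3 : Nat.beq z nV1 with
  | true =>
    exfalso
    have h4 : z = nV1 := Nat.eq_of_beq_eq_true h3
    apply hne
    have h5 : t • y = t • x := by
      apply Subtype.ext
      rw [← hzy, h4]
      exact (ht (x, nV1) (by simp)).symm
    exact smul_left_cancel t h5
  | false =>
    rw [h3] at h1
    simp only [cond_false, Bool.or_eq_true] at h1
    rcases h1 with h1 | h1
    · left
      rw [← h2, dotIs_iff.1 h1]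
      simp
    · right
      rw [← h2, dotIs_iff.1 h1]
      simp

theorem rank3 (v w x : L) (hv : sqNorm (v : GolayPt → ℤ) = 48) (hw : sqNorm (w : GolayPt → ℤ) = 48)
    (hvw : dotInt (v : GolayPt → ℤ) (w : GolayPt → ℤ) = -32) (hx : x ∈ X100 v w) :
    {y : L | y ∈ X100 v w ∧ dotInt (x : GolayPt → ℤ) (y : GolayPt → ℤ) = 8}.ncard = 22 ∧
    {y : L | y ∈ X100 v w ∧ y ≠ x ∧ dotInt (x : GolayPt → ℤ) (y : GolayPt → ℤ) ≠ 8}.ncard = 77 ∧
    ∀ y ∈ X100 v w, ∀ y' ∈ X100 v w, y ≠ x → y' ≠ x →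
      (dotInt (x : GolayPt → ℤ) (y : GolayPt → ℤ) = 8 ↔ dotInt (x : GolayPt → ℤ) (y' : GolayPt → ℤ) = 8) →
        ∃ g : Co0, g • v = v ∧ g • w = w ∧ g • x = x ∧ g • y = y' := by
  obtain ⟨t, ht⟩ := exists_to_triple hv hw hvw hx
  have hsq : sqNorm (x : GolayPt → ℤ) = 32 := hx.1
  refine ⟨?_, ?_, ?_⟩
  · rw [ncard_of_iff (S := {y : L | y ∈ X100 v w ∧ dotInt (x : GolayPt → ℤ) (y : GolayPt → ℤ) = 8}) t
      (mem_C22 ht), CertC22.ncard_eq]
  · have h1 : {y : L | y ∈ X100 v w ∧ y ≠ x ∧ dotInt (x : GolayPt → ℤ) (y : GolayPt → ℤ) ≠ 8} =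
        {y : L | y ∈ X100 v w ∧ dotInt (x : GolayPt → ℤ) (y : GolayPt → ℤ) = 16} := by
      ext y
      simp only [Set.mem_setOf_eq]
      constructor
      · rintro ⟨h2, h4, h3⟩
        refine ⟨h2, ?_⟩
        rcases dot_cases hv hw hvw hx h2 h4 with h5 | h5
        · exact absurd h5 h3
        · exact h5
      · rintro ⟨h2, h3⟩
        refine ⟨h2, ?_, by rw [h3]; norm_num⟩
        rintro rfl
        rw [dotInt_self, hsq] at h3
        norm_num at h3
    rw [h1, ncard_of_iff (S := {y : L | y ∈ X100 v w ∧ dotInt (x : GolayPt → ℤ) (y : GolayPt → ℤ) = 16}) t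
      (mem_C77 ht), CertC77.ncard_eq]
  · intro y hy y' hy' hne hne' hd
    have finish : ∀ {g : Co0}, (∀ p ∈ [(x, nV1), (v + w, nX1), (v, nU0)], g • p.1 = p.1) → g • y = y' →
        ∃ g : Co0, g • v = v ∧ g • w = w ∧ g • x = x ∧ g • y = y' := by
      intro g hg hgy
      have h1 := hg (v, nU0) (by simp)
      exact ⟨g, h1, fix_w h1 (hg (v + w, nX1) (by simp)), hg (x, nV1) (by simp), hgy⟩
    rcases dot_cases hv hw hvw hx hy hne with h | h
    · have h' := hd.1 h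
      obtain ⟨g, hg, hgy⟩ := ht.trans (by simp [CertC22.R])
        (CertC22.rel ((mem_C22 ht y).1 ⟨hy, h⟩)) (CertC22.rel ((mem_C22 ht y').1 ⟨hy', h'⟩))
      exact finish hg hgy
    · have h' : dotInt (x : GolayPt → ℤ) (y' : GolayPt → ℤ) = 16 := by
        rcases dot_cases hv hw hvw hx hy' hne' with h5 | h5
        · have := hd.2 h5
          rw [h] at this
          norm_num at this
        · exact h5
      obtain ⟨g, hg, hgy⟩ := ht.trans (by simp [CertC77.R])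
        (CertC77.rel ((mem_C77 ht y).1 ⟨hy, h⟩)) (CertC77.rel ((mem_C77 ht y').1 ⟨hy', h'⟩))
      exact finish hg hgy

/-! ### The exchange -/

/-- The second vector of the reference pair. -/
def nW0 : ℕ := 637982539811585756034601952193527279

/-- A permutation exchanging the two special points. -/
def Pswap : ℕ := 943714182190459353178517000962980181

theorem swap_ok : validOp Pswap 16777215 = true ∧ monCheck Pswap 16777215 nU0 nW0 = true ∧
    monCheck Pswap 16777215 nW0 nU0 = true := by decide +kernel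

theorem nW0_eq : dec nW0 = dec nX1 - dec nU0 := by
  have : ∀ p : GolayPt, dec nW0 p = dec nX1 p - dec nU0 p := by decide +kernel
  exact funext this

theorem swap (v w : L) (hv : sqNorm (v : GolayPt → ℤ) = 48) (hw : sqNorm (w : GolayPt → ℤ) = 48)
    (hvw : dotInt (v : GolayPt → ℤ) (w : GolayPt → ℤ) = -32) : ∃ g : Co0, g • v = w ∧ g • w = v := by
  obtain ⟨t, ht⟩ := exists_to_pair hv hw hvw
  have h1 : ((t • v : L) : GolayPt → ℤ) = dec nU0 := ht (v, nU0) (by simp)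
  have h2 : ((t • w : L) : GolayPt → ℤ) = dec nW0 := by
    have h3 : ((t • (v + w) : L) : GolayPt → ℤ) = dec nX1 := ht (v + w, nX1) (by simp)
    rw [Lat.smul_add] at h3
    have h4 : ((t • v : L) : GolayPt → ℤ) + ((t • w : L) : GolayPt → ℤ) = dec nX1 := h3
    rw [h1] at h4
    rw [nW0_eq, ← h4]
    abel
  obtain ⟨h3, h4, h5⟩ := swap_ok
  have h6 : dec nU0 ∈ leechLattice := nU0_mem
  have h7 : dec nW0 ∈ leechLattice := by
    rw [← h2]
    exact (t • w).2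
  refine ⟨t⁻¹ * opG (Pswap, 16777215) * t, ?_, ?_⟩
  · rw [mul_smul, mul_smul, inv_smul_eq_iff]
    have h8 : t • v = ⟨dec nU0, h6⟩ := Subtype.ext h1
    rw [h8]
    apply Subtype.ext
    rw [opG_of_valid h3 h4 h6, ← h2]
  · rw [mul_smul, mul_smul, inv_smul_eq_iff]
    have h8 : t • w = ⟨dec nW0, h7⟩ := Subtype.ext h2
    rw [h8]
    apply Subtype.ext
    rw [opG_of_valid h3 h5 h7, ← h1]

end Cfsg.Agent.Lib.Leech.ConfigH
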