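import Cfsg.Agent.Lib.Leech.ConfigB
import Cfsg.Agent.Lib.Leech.CertO352
import Cfsg.Agent.Lib.Leech.CertO1100
import Cfsg.Agent.Lib.Leech.CertO4125
import Cfsg.Agent.Lib.Leech.CertO5600

/-!
# The action of the third Conway group on 11178 vectors
-/

set_option autoImplicit false

namespace Cfsg.Agent.Lib.Leech.ConfigO

open Cfsg Cfsg.Agent.Lib.Golay.Core Cfsg.Agent.Lib.Leech.Basic Cfsg.Agent.Lib.Leech.Vec
  Cfsg.Agent.Lib.Leech.Cert Cfsg.Agent.Lib.Leech.CertData Cfsg.Agent.Lib.Leech.CertBase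
  Cfsg.Agent.Lib.Leech.CertLev Cfsg.Agent.Lib.Leech.CertRefs Cfsg.Agent.Lib.Leech.Word
  Cfsg.Agent.Lib.Leech.Lat Cfsg.Agent.Lib.Leech.Reach Cfsg.Agent.Lib.Leech.Order
  Cfsg.Agent.Lib.Leech.Trans Cfsg.Agent.Lib.Leech.ConfigB

/-- From a class to an orbit. -/
theorem class_orbit {S : Subgroup Co0} {A : Set L} {T : Co0} {conds : List (ℕ × ℕ × ℕ)} {R : List ℕ}
    {root n : ℕ} (hiff : ∀ y, y ∈ A ↔ Cl 32 conds ((T • y : L) : GolayPt → ℤ))
    (hrel : ∀ {w}, Cl 32 conds w → Rel (FixG R) w (dec root)) (hroot : Cl 32 conds (dec root))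
    (hS : ∀ a ∈ FixG R, T⁻¹ * a * T ∈ S) (hinv : ∀ g ∈ S, ∀ y ∈ A, g • y ∈ A)
    (hcard : {w | Cl 32 conds w}.ncard = n) :
    ∃ y0 ∈ A, (MulAction.orbit S y0).ncard = n ∧ MulAction.orbit S y0 = A := by
  set y0 : L := T⁻¹ • (⟨dec root, hroot.1⟩ : L) with hy0
  have h1 : T • y0 = ⟨dec root, hroot.1⟩ := smul_inv_smul T _
  have h0 : y0 ∈ A := by
    rw [hiff, h1]
    exact hroot
  have horb : MulAction.orbit S y0 = A := by
    ext y
    rw [MulAction.mem_orbit_iff]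
    constructor
    · rintro ⟨g, rfl⟩
      exact hinv g.1 g.2 y0 h0
    · intro hy
      have h2 : Rel (FixG R) ((T • y0 : L) : GolayPt → ℤ) ((T • y : L) : GolayPt → ℤ) := by
        rw [h1]
        exact (hrel ((hiff y).1 hy)).symm
      obtain ⟨a, ha, hay⟩ := rel_iff.1 h2
      refine ⟨⟨T⁻¹ * a * T, hS a ha⟩, ?_⟩
      show (T⁻¹ * a * T) • y0 = y
      rw [mul_smul, mul_smul, hay, inv_smul_smul]
  refine ⟨y0, h0, ?_, horb⟩
  rw [horb, ncard_of_iff T hiff, hcard]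

variable {t : Co0} {u x : L}

theorem neg_mul_coe (t : Co0) (y : L) :
    (((negG * t) • y : L) : GolayPt → ℤ) = -((t • y : L) : GolayPt → ℤ) := rfl

/-- The vectors with inner product `-16`. -/
abbrev Xm (u : L) : Set L :=
  {x : L | sqNorm (x : GolayPt → ℤ) = 32 ∧ dotInt (u : GolayPt → ℤ) (x : GolayPt → ℤ) = -16}

theorem sq_negT (t : Co0) (y : L) : sqNorm (((negG * t) • y : L) : GolayPt → ℤ) = sqNorm (y : GolayPt → ℤ) :=
  sqNorm_smul _ _

theorem mem_C16 (ht : Maps t [(u, nU0)]) (y : L) :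
    y ∈ Xm u ↔ Cl 32 CertC16.conds (((negG * t) • y : L) : GolayPt → ℤ) := by
  rw [CertC16.conds, cl1, sq_negT, neg_mul_coe, dotInt_neg_left, ht.dot (p := (u, nU0)) (by simp),
    dotInt_comm (y : GolayPt → ℤ) (u : GolayPt → ℤ)]
  simp only [Set.mem_setOf_eq, Nat.cast_ofNat, Nat.cast_zero, sub_zero]
  constructor
  · rintro ⟨h1, h2⟩
    exact ⟨neg_mem (t • y).2, h1, by rw [h2]; norm_num⟩
  · rintro ⟨-, h1, h2⟩
    exact ⟨h1, by omega⟩

theorem ncard_Xm (u : L) (hu : sqNorm (u : GolayPt → ℤ) = 48) : (Xm u).ncard = 11178 := by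
  obtain ⟨t, ht⟩ := exists_to_u u hu
  rw [ncard_of_iff _ (mem_C16 ht), CertC16.ncard_eq]

theorem trans_neg {l' : List (L × ℕ)} (ht : Maps t l') {y y' : L} {root : ℕ} {R : List ℕ} (hR : ∀ p ∈ l', p.2 ∈ R)
    (h1 : Rel (FixG R) (((negG * t) • y : L) : GolayPt → ℤ) (dec root))
    (h2 : Rel (FixG R) (((negG * t) • y' : L) : GolayPt → ℤ) (dec root)) :
    ∃ g : Co0, (∀ p ∈ l', g • p.1 = p.1) ∧ g • y = y' := by
  obtain ⟨a, ha, hay⟩ := rel_iff.1 (h1.trans h2.symm)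
  refine ⟨t⁻¹ * a * t, fun p hp => ht.conj_fix hR ha hp, ?_⟩
  have h3 : a • (t • y) = t • y' := by
    have h4 : (negG * t) • y = -(t • y) := rfl
    have h5 : (negG * t) • y' = -(t • y') := rfl
    rw [h4, h5, Lat.smul_neg] at hay
    exact neg_injective hay
  rw [mul_smul, mul_smul, h3, inv_smul_smul]

theorem trans_Xm (u x x' : L) (hu : sqNorm (u : GolayPt → ℤ) = 48) (hx : x ∈ Xm u) (hx' : x' ∈ Xm u) :
    ∃ g : Co0, g • u = u ∧ g • x = x' := by
  obtain ⟨t, ht⟩ := exists_to_u u hu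
  obtain ⟨g, hg, h⟩ := trans_neg ht (by simp [CertC16.R]) (CertC16.rel ((mem_C16 ht x).1 hx))
    (CertC16.rel ((mem_C16 ht x').1 hx'))
  exact ⟨g, hg (u, nU0) (by simp), h⟩

theorem nX1_cl : Cl 32 CertC16.conds (dec nX1) := classB_iff.1 (by decide +kernel)

theorem exists_to_ux (hu : sqNorm (u : GolayPt → ℤ) = 48) (hx : x ∈ Xm u) :
    ∃ t, Maps t [(-x, nX1), (u, nU0)] := by
  obtain ⟨t, ht⟩ := exists_to_u u hu
  have h1 : ((t • -x : L) : GolayPt → ℤ) = (((negG * t) • x : L) : GolayPt → ℤ) := by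
    rw [Lat.smul_neg]
    rfl
  refine ht.step (R := CertC16.R) (by simp [CertC16.R]) ?_ (CertC16.rel nX1_cl)
  rw [h1]
  exact CertC16.rel ((mem_C16 ht x).1 hx)

/-- The class with given inner product with `x`. -/
abbrev Xa (u x : L) (a : ℤ) : Set L :=
  {y : L | y ∈ Xm u ∧ dotInt (x : GolayPt → ℤ) (y : GolayPt → ℤ) = a}

/-- The subgroup fixing `u` and `x`. -/
abbrev SS (u x : L) : Subgroup Co0 := MulAction.stabilizer Co0 u ⊓ MulAction.stabilizer Co0 x

theorem inv_Xa (a : ℤ) : ∀ g ∈ SS u x, ∀ y ∈ Xa u x a, g • y ∈ Xa u x a := by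
  rintro g ⟨h1, h2⟩ y ⟨⟨h3, h4⟩, h5⟩
  have h1' : g • u = u := h1
  have h2' : g • x = x := h2
  refine ⟨⟨?_, ?_⟩, ?_⟩
  · rw [sqNorm_smul]
    exact h3
  · have h6 := smul_dot g u y
    rw [h1'] at h6
    show dotInt (u : GolayPt → ℤ) ((g • y : L) : GolayPt → ℤ) = -16
    rw [h6]
    exact h4
  · have h6 := smul_dot g x y
    rw [h2'] at h6
    show dotInt (x : GolayPt → ℤ) ((g • y : L) : GolayPt → ℤ) = a
    rw [h6]
    exact h5

/-- Elements fixing the images fix the vectors. -/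
theorem S_of_fix (ht : Maps t [(-x, nX1), (u, nU0)]) {R : List ℕ} (hU : nU0 ∈ R) (hX : nX1 ∈ R) :
    ∀ a ∈ FixG R, (negG * t)⁻¹ * a * (negG * t) ∈ SS u x := by
  intro a ha
  have h0 : ∀ p ∈ [(-x, nX1), (u, nU0)], p.2 ∈ R := by
    intro p hp
    rcases List.mem_cons.1 hp with rfl | hp
    · exact hX
    · have : p = (u, nU0) := by simpa using hp
      subst this
      exact hU
  have h1 : ∀ p ∈ [(-x, nX1), (u, nU0)], ((negG * t)⁻¹ * a * (negG * t)) • p.1 = p.1 := by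
    intro p hp
    have h3 := ht.fix h0 ha hp
    rw [mul_smul, mul_smul, inv_smul_eq_iff]
    show a • -(t • p.1) = -(t • p.1)
    rw [Lat.smul_neg, h3]
  constructor
  · exact h1 (u, nU0) (by simp)
  · have h2 := h1 (-x, nX1) (by simp)
    have h3 : ((negG * t)⁻¹ * a * (negG * t)) • (-x) = -(((negG * t)⁻¹ * a * (negG * t)) • x) :=
      Lat.smul_neg _ _
    rw [h3] at h2
    exact neg_injective h2

theorem dot_neg_images (ht : Maps t [(-x, nX1), (u, nU0)]) (y : L) :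
    dotInt (((negG * t) • y : L) : GolayPt → ℤ) (dec nX1) = dotInt (x : GolayPt → ℤ) (y : GolayPt → ℤ) := by
  rw [neg_mul_coe, dotInt_neg_left, ht.dot (p := (-x, nX1)) (by simp)]
  show -dotInt (y : GolayPt → ℤ) (-(x : GolayPt → ℤ)) = _
  rw [dotInt_neg_right, neg_neg, dotInt_comm]

theorem dot_neg_images' (ht : Maps t [(-x, nX1), (u, nU0)]) (y : L) :
    dotInt (((negG * t) • y : L) : GolayPt → ℤ) (dec nU0) = -dotInt (u : GolayPt → ℤ) (y : GolayPt → ℤ) := by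
  rw [neg_mul_coe, dotInt_neg_left, ht.dot (p := (u, nU0)) (by simp), dotInt_comm]

theorem mem_gen {p q : ℕ} {a : ℤ} (ha : a = (p : ℤ) - q) (ht : Maps t [(-x, nX1), (u, nU0)]) (y : L) :
    y ∈ Xa u x a ↔ Cl 32 [(nU0, 16, 0), (nX1, p, q)] (((negG * t) • y : L) : GolayPt → ℤ) := by
  rw [cl2, sq_negT, dot_neg_images ht, dot_neg_images' ht]
  simp only [Set.mem_setOf_eq, Nat.cast_ofNat, Nat.cast_zero, sub_zero]
  constructor
  · rintro ⟨⟨h1, h2⟩, h3⟩
    exact ⟨((negG * t) • y).2, h1, by rw [h2]; norm_num, by rw [h3, ha]⟩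
  · rintro ⟨-, h1, h2, h3⟩
    exact ⟨⟨h1, by omega⟩, by rw [h3, ha]⟩

/-- The inner products on the 11178 vectors. -/
def dotsB (n : ℕ) : Bool :=
  cond (Nat.beq n nX1) true (dotIs n nX1 0 8 || dotIs n nX1 16 0 || dotIs n nX1 0 0 || dotIs n nX1 8 0)

theorem dots_all : allL dotsB CertC16.L = true := by decide +kernel

theorem dot_cases (ht : Maps t [(-x, nX1), (u, nU0)]) {y : L} (hy : y ∈ Xm u) :
    y = x ∨ dotInt (x : GolayPt → ℤ) (y : GolayPt → ℤ) = -8 ∨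
      dotInt (x : GolayPt → ℤ) (y : GolayPt → ℤ) = 16 ∨ dotInt (x : GolayPt → ℤ) (y : GolayPt → ℤ) = 0 ∨
        dotInt (x : GolayPt → ℤ) (y : GolayPt → ℤ) = 8 := by
  have ht' : Maps t [(u, nU0)] := fun p hp => ht p (List.mem_cons_of_mem _ hp)
  obtain ⟨z, hz, hzy⟩ := CertC16.cover _ ((mem_C16 ht' y).1 hy)
  have h1 := of_allL dots_all hz
  have h2 : dotInt (dec z) (dec nX1) = dotInt (x : GolayPt → ℤ) (y : GolayPt → ℤ) := by
    rw [hzy]
    exact dot_neg_images ht y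
  unfold dotsB at h1
  cases h3 : Nat.beq z nX1 with
  | true =>
    left
    have h4 : z = nX1 := Nat.eq_of_beq_eq_true h3
    have h5 : t • y = t • x := by
      have h6 : ((t • (-x) : L) : GolayPt → ℤ) = dec nX1 := ht (-x, nX1) (by simp)
      rw [h4] at hzy
      rw [hzy, Lat.smul_neg] at h6
      apply Subtype.ext
      have h7 : -((t • x : L) : GolayPt → ℤ) = -((t • y : L) : GolayPt → ℤ) := h6
      exact (neg_injective h7).symm
    exact smul_left_cancel t h5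
  | false =>
    right
    rw [h3] at h1
    simp only [cond_false, Bool.or_eq_true] at h1
    rcases h1 with ((h1 | h1) | h1) | h1
    · left
      rw [← h2, dotIs_iff.1 h1]
      simp
    · right; left
      rw [← h2, dotIs_iff.1 h1]
      simp
    · right; right; left
      rw [← h2, dotIs_iff.1 h1]
      simp
    · right; right; right
      rw [← h2, dotIs_iff.1 h1]
      simp

/-- Rank 5. -/
theorem rank5 (u x : L) (hu : sqNorm (u : GolayPt → ℤ) = 48) (hx : x ∈ Xm u) :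
    ∃ y₁ ∈ Xm u, ∃ y₂ ∈ Xm u, ∃ y₃ ∈ Xm u, ∃ y₄ ∈ Xm u,
      (MulAction.orbit (SS u x) y₁).ncard = 352 ∧ (MulAction.orbit (SS u x) y₂).ncard = 1100 ∧
      (MulAction.orbit (SS u x) y₃).ncard = 4125 ∧ (MulAction.orbit (SS u x) y₄).ncard = 5600 ∧
      Xm u = {x} ∪ MulAction.orbit (SS u x) y₁ ∪ MulAction.orbit (SS u x) y₂ ∪
        MulAction.orbit (SS u x) y₃ ∪ MulAction.orbit (SS u x) y₄ := by
  obtain ⟨t, ht⟩ := exists_to_ux hu hx
  obtain ⟨y₁, h1, h1a, h1b⟩ := class_orbit (S := SS u x) (A := Xa u x (-8)) (T := negG * t)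
    (conds := CertO352.conds) (R := CertO352.R) (root := CertO352.root) (n := 352)
    (fun y => mem_gen (p := 0) (q := 8) (by norm_num) ht y) (fun h => CertO352.rel h) CertO352.root_cl
    (S_of_fix ht (by simp [CertO352.R]) (by simp [CertO352.R])) (inv_Xa _) CertO352.ncard_eq
  obtain ⟨y₂, h2, h2a, h2b⟩ := class_orbit (S := SS u x) (A := Xa u x 16) (T := negG * t)
    (conds := CertO1100.conds) (R := CertO1100.R) (root := CertO1100.root) (n := 1100)
    (fun y => mem_gen (p := 16) (q := 0) (by norm_num) ht y) (fun h => CertO1100.rel h) CertO1100.root_cl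
    (S_of_fix ht (by simp [CertO1100.R]) (by simp [CertO1100.R])) (inv_Xa _) CertO1100.ncard_eq
  obtain ⟨y₃, h3, h3a, h3b⟩ := class_orbit (S := SS u x) (A := Xa u x 0) (T := negG * t)
    (conds := CertO4125.conds) (R := CertO4125.R) (root := CertO4125.root) (n := 4125)
    (fun y => mem_gen (p := 0) (q := 0) (by norm_num) ht y) (fun h => CertO4125.rel h) CertO4125.root_cl
    (S_of_fix ht (by simp [CertO4125.R]) (by simp [CertO4125.R])) (inv_Xa _) CertO4125.ncard_eq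
  obtain ⟨y₄, h4, h4a, h4b⟩ := class_orbit (S := SS u x) (A := Xa u x 8) (T := negG * t)
    (conds := CertO5600.conds) (R := CertO5600.R) (root := CertO5600.root) (n := 5600)
    (fun y => mem_gen (p := 8) (q := 0) (by norm_num) ht y) (fun h => CertO5600.rel h) CertO5600.root_cl
    (S_of_fix ht (by simp [CertO5600.R]) (by simp [CertO5600.R])) (inv_Xa _) CertO5600.ncard_eq
  refine ⟨y₁, h1.1, y₂, h2.1, y₃, h3.1, y₄, h4.1, h1a, h2a, h3a, h4a, ?_⟩
  rw [h1b, h2b, h3b, h4b]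
  ext y
  simp only [Set.mem_union, Set.mem_singleton_iff]
  constructor
  · intro hy
    rcases dot_cases ht hy with h | h | h | h | h
    · exact Or.inl (Or.inl (Or.inl (Or.inl h)))
    · exact Or.inl (Or.inl (Or.inl (Or.inr ⟨hy, h⟩)))
    · exact Or.inl (Or.inl (Or.inr ⟨hy, h⟩))
    · exact Or.inl (Or.inr ⟨hy, h⟩)
    · exact Or.inr ⟨hy, h⟩
  · rintro ((((h | h) | h) | h) | h)
    · rw [h]
      exact hx
    · exact h.1
    · exact h.1
    · exact h.1
    · exact h.1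

end Cfsg.Agent.Lib.Leech.ConfigO
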