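import Cfsg.Agent.Lib.Leech.Basic
import Cfsg.Agent.Lib.Golay.Core

/-!
The rank-24 lattice is even in the scale `1/8`: `16 ∣ sqNorm x`, `8 ∣ dotInt x y`; invariance under
the group of the code and under sign changes on codewords.
-/

set_option autoImplicit false

namespace Cfsg.Agent.Lib.Leech.Even

open Cfsg
open Cfsg.Agent.Lib.Leech.Basic
open scoped Pointwise

theorem sq_even (a : ℤ) (h : a % 2 = 0) : (16 : ℤ) ∣ a ^ 2 - 4 * ((a / 2) % 2) := by
  obtain ⟨c, rfl⟩ : ∃ c, a = 2 * c := ⟨a / 2, by omega⟩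
  have h1 : 2 * c / 2 = c := by omega
  rw [h1]
  rcases Int.even_or_odd' c with ⟨f, rfl | rfl⟩
  · have h2 : (2 * f) % 2 = 0 := by omega
    rw [h2]
    exact ⟨f ^ 2, by ring⟩
  · have h2 : (2 * f + 1) % 2 = 1 := by omega
    rw [h2]
    exact ⟨f ^ 2 + f, by ring⟩

theorem sq_odd (a : ℤ) (h : a % 2 = 1) : (16 : ℤ) ∣ a ^ 2 - (2 * a - 1 + 4 * ((a / 2) % 2)) := by
  obtain ⟨c, rfl⟩ : ∃ c, a = 2 * c + 1 := ⟨a / 2, by omega⟩
  have h1 : (2 * c + 1) / 2 = c := by omega
  rw [h1]
  rcases Int.even_or_odd' c with ⟨f, rfl | rfl⟩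
  · have h2 : (2 * f) % 2 = 0 := by omega
    rw [h2]
    exact ⟨f ^ 2, by ring⟩
  · have h2 : (2 * f + 1) % 2 = 1 := by omega
    rw [h2]
    exact ⟨f ^ 2 + f, by ring⟩

/-- The integer `(a / 2) % 2` is 1 exactly when the second binary digit is nonzero. -/
theorem digit_int (a : ℤ) : (a / 2) % 2 = if bit1 a ≠ 0 then 1 else 0 := by
  unfold bit1
  rcases Int.even_or_odd' (a / 2) with ⟨f, hf | hf⟩
  · rw [hf]
    have : (2 * f) % 2 = 0 := by omega
    rw [this]
    have h0 : ((2 * f : ℤ) : ZMod 2) = 0 := cast_two_mul f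
    simp [h0]
  · rw [hf]
    have : (2 * f + 1) % 2 = 1 := by omega
    rw [this]
    have h0 : ((2 * f + 1 : ℤ) : ZMod 2) = 1 := cast_two_mul_add_one f
    simp [h0]

theorem sum_digit (x : GolayPt → ℤ) :
    ∑ i, (x i / 2) % 2 = (hammingNorm (digitWord x) : ℤ) := by
  simp only [digit_int]
  rw [Finset.sum_boole]
  simp only [hammingNorm, digitWord]
  congr

/-- Even lattice: every vector has sum of squares divisible by 16. -/
theorem dvd_sqNorm (x : GolayPt → ℤ) (hx : x ∈ leechLattice) : (16 : ℤ) ∣ sqNorm x := by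
  rw [mem_leechLattice_iff, mem_leechSet_iff] at hx
  obtain ⟨m, hm, hs, hw⟩ := hx
  have hW : (4 : ℤ) ∣ (hammingNorm (digitWord x) : ℤ) := by
    rcases Cfsg.Agent.Lib.Golay.Core.hammingNorm_mem hw with h | h | h | h | h <;> rw [h] <;> norm_num
  have hcard : Fintype.card GolayPt = 24 := by
    rw [Fintype.card_option, ZMod.card]
  rcases exists_eq_two_mul_add m with ⟨q, hq⟩ | ⟨q, hq⟩
  · -- even
    have hev : ∀ i, x i % 2 = 0 := by
      intro i
      have h := hm i
      rw [hq] at h
      unfold Int.ModEq at h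
      omega
    have h1 : (16 : ℤ) ∣ ∑ i, (x i ^ 2 - 4 * ((x i / 2) % 2)) :=
      Finset.dvd_sum (fun i _ => sq_even (x i) (hev i))
    rw [Finset.sum_sub_distrib, ← Finset.mul_sum, sum_digit] at h1
    unfold sqNorm
    obtain ⟨c, hc⟩ := hW
    rw [hc] at h1
    have h2 : (16 : ℤ) ∣ 4 * (4 * c) := ⟨c, by ring⟩
    have := (dvd_sub_left h2).mp h1
    exact this
  · -- odd
    have hod : ∀ i, x i % 2 = 1 := by
      intro i
      have h := hm i
      rw [hq] at h
      unfold Int.ModEq at h
      omega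
    have h1 : (16 : ℤ) ∣ ∑ i, (x i ^ 2 - (2 * x i - 1 + 4 * ((x i / 2) % 2))) :=
      Finset.dvd_sum (fun i _ => sq_odd (x i) (hod i))
    rw [Finset.sum_sub_distrib, Finset.sum_add_distrib, Finset.sum_sub_distrib, ← Finset.mul_sum,
      ← Finset.mul_sum, sum_digit, Finset.sum_const, Finset.card_univ, hcard] at h1
    unfold sqNorm
    obtain ⟨c, hc⟩ := hW
    rw [hc] at h1
    rw [hq] at hs
    unfold Int.ModEq at hs
    simp only [nsmul_eq_mul, Nat.cast_ofNat, mul_one] at h1
    omega

theorem sqNorm_add (x y : GolayPt → ℤ) :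
    sqNorm (x + y) = sqNorm x + sqNorm y + 2 * dotInt x y := by
  unfold sqNorm dotInt
  rw [Finset.mul_sum, ← Finset.sum_add_distrib, ← Finset.sum_add_distrib]
  apply Finset.sum_congr rfl
  intro i _
  simp only [Pi.add_apply]
  ring

/-- The lattice is integral at scale `1/8`. -/
theorem dvd_dotInt (x y : GolayPt → ℤ) (hx : x ∈ leechLattice) (hy : y ∈ leechLattice) :
    (8 : ℤ) ∣ dotInt x y := by
  have h1 := dvd_sqNorm x hx
  have h2 := dvd_sqNorm y hy
  have h3 := dvd_sqNorm (x + y) (leechLattice.add_mem hx hy)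
  rw [sqNorm_add] at h3
  omega

/-- Lattice membership through the definition of `leechSet`. -/
theorem perm_mem_supports {σ : Equiv.Perm GolayPt} (hσ : σ ∈ M24) {s : Finset GolayPt}
    (hs : s ∈ supports (golayCode : Set (GolayPt → ZMod 2))) :
    σ • s ∈ supports (golayCode : Set (GolayPt → ZMod 2)) := by
  have h : σ • supports (golayCode : Set (GolayPt → ZMod 2)) =
      supports (golayCode : Set (GolayPt → ZMod 2)) := hσ
  rw [← h]
  exact Set.smul_mem_smul_set hs

/-- Coordinate permutations from the group of the code preserve the lattice. -/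
theorem perm_mem {σ : Equiv.Perm GolayPt} (hσ : σ ∈ M24) (x : GolayPt → ℤ) (hx : x ∈ leechLattice) :
    (fun i => x (σ i)) ∈ leechLattice := by
  rw [mem_leechLattice_iff] at hx ⊢
  obtain ⟨m, hm, hs, hk⟩ := hx
  refine ⟨m, fun i => hm (σ i), ?_, fun k => ?_⟩
  · rw [Equiv.sum_comp σ x]
    exact hs
  · have h1 := perm_mem_supports (M24.inv_mem hσ) (hk k)
    have h2 : (Finset.univ.filter fun i => x (σ i) ≡ k [ZMOD 4]) =
        σ⁻¹ • (Finset.univ.filter fun i => x i ≡ k [ZMOD 4]) := by
      ext i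
      rw [Finset.mem_inv_smul_finset_iff]
      simp
    rw [h2]
    exact h1

/-- The indicator of a finset with values `0, 2` as a vector. -/
def twice (c : Finset GolayPt) : GolayPt → ℤ := fun i => if i ∈ c then 2 else 0

theorem word_of_support {c : Finset GolayPt}
    (hc : c ∈ supports (golayCode : Set (GolayPt → ZMod 2))) :
    (fun i => if i ∈ c then (1 : ZMod 2) else 0) ∈ golayCode := by
  obtain ⟨w, hw, rfl⟩ := hc
  have : (fun i => if i ∈ support₂ w then (1 : ZMod 2) else 0) = w := by
    funext i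
    simp only [support₂, Finset.mem_filter, Finset.mem_univ, true_and]
    generalize w i = a
    revert a
    decide
  rw [this]
  exact hw

theorem card_support_dvd {c : Finset GolayPt}
    (hc : c ∈ supports (golayCode : Set (GolayPt → ZMod 2))) : 4 ∣ c.card := by
  obtain ⟨w, hw, rfl⟩ := hc
  have : (support₂ w).card = hammingNorm w := by
    simp only [support₂, hammingNorm]
  rw [this]
  rcases Cfsg.Agent.Lib.Golay.Core.hammingNorm_mem hw with h | h | h | h | h <;> rw [h] <;> norm_num

theorem twice_mem {c : Finset GolayPt}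
    (hc : c ∈ supports (golayCode : Set (GolayPt → ZMod 2))) : twice c ∈ leechLattice := by
  rw [mem_leechLattice_iff, mem_leechSet_iff]
  refine ⟨0, ?_, ?_, ?_⟩
  · intro i
    unfold twice Int.ModEq
    split_ifs <;> norm_num
  · have h : ∑ i, twice c i = 2 * (c.card : ℤ) := by
      simp [twice, Finset.sum_ite_mem, mul_comm]
    rw [h]
    obtain ⟨d, hd⟩ := card_support_dvd hc
    rw [hd]
    unfold Int.ModEq
    push_cast
    omega
  · have : digitWord (twice c) = fun i => if i ∈ c then (1 : ZMod 2) else 0 := by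
      funext i
      simp only [digitWord, bit1, twice]
      split_ifs <;> rfl
    rw [this]
    exact word_of_support hc

/-- Sign changes on the support of a word of the code preserve the lattice. -/
theorem sign_change_mem {c : Finset GolayPt}
    (hc : c ∈ supports (golayCode : Set (GolayPt → ZMod 2))) (x : GolayPt → ℤ)
    (hx : x ∈ leechLattice) : (fun i => if i ∈ c then -x i else x i) ∈ leechLattice := by
  have hdot := dvd_dotInt x (twice c) hx (twice_mem hc)
  rw [mem_leechLattice_iff, mem_leechSet_iff] at hx ⊢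
  obtain ⟨m, hm, hs, hw⟩ := hx
  refine ⟨m, ?_, ?_, ?_⟩
  · intro i
    split_ifs
    · have := (hm i).neg
      have h2 : -m ≡ m [ZMOD 2] := by
        unfold Int.ModEq
        omega
      exact this.trans h2
    · exact hm i
  · have h : ∑ i, (if i ∈ c then -x i else x i) = ∑ i, x i - dotInt x (twice c) := by
      unfold dotInt twice
      rw [← Finset.sum_sub_distrib]
      apply Finset.sum_congr rfl
      intro i _
      split_ifs <;> ring
    rw [h]
    obtain ⟨d, hd⟩ := hdot
    rw [hd]
    unfold Int.ModEq at hs ⊢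
    omega
  · have h1 : digitWord (fun i => if i ∈ c then -x i else x i) =
        digitWord x + ((m : ℤ) : ZMod 2) • (fun i => if i ∈ c then (1 : ZMod 2) else 0) := by
      funext i
      simp only [digitWord, Pi.add_apply, Pi.smul_apply, smul_eq_mul]
      split_ifs
      · rw [bit1_neg, cast_eq_of_modEq (hm i), mul_one]
      · simp
    rw [h1]
    exact Submodule.add_mem _ hw (Submodule.smul_mem _ _ (word_of_support hc))

end Cfsg.Agent.Lib.Leech.Even
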