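import Cfsg.Agent.Lib.Leech.Packed
import Cfsg.Agent.Lib.Golay.Basic

/-!
# Generators of the lattice

The lattice is generated by `v0 = (-3, 1^23)`, the vectors `2 * (basis octad)`, the vectors
`4 e_i - 4 e_∞` and `8 e_∞`.
-/

set_option autoImplicit false

namespace Cfsg.Agent.Lib.Leech.Gen

open Cfsg Cfsg.Agent.Lib.Golay.Core Cfsg.Agent.Lib.Leech.Basic Cfsg.Agent.Lib.Leech.Even
  Cfsg.Agent.Lib.Leech.Lat Cfsg.Agent.Lib.Leech.Mon

/-- The odd generator. -/
def v0 : GolayPt → ℤ := fun p => if p = none then -3 else 1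

/-- The generators `4 e_i - 4 e_∞`. -/
def b4 (i : GolayPt) : GolayPt → ℤ := Pi.single i 4 - Pi.single none 4

theorem v0_mem : v0 ∈ leechLattice := by
  rw [mem_leechLattice_iff, mem_leechSet_iff]
  refine ⟨1, by decide, by decide, ?_⟩
  have : digitWord v0 = 0 := by decide
  rw [this]
  exact Submodule.zero_mem _

theorem b4_mem (i : GolayPt) : b4 i ∈ leechLattice := by
  revert i
  intro i
  rw [mem_leechLattice_iff, mem_leechSet_iff]
  refine ⟨0, ?_, ?_, ?_⟩
  · revert i; decide
  · revert i; decide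
  · have : digitWord (b4 i) = 0 := by revert i; decide
    rw [this]
    exact Submodule.zero_mem _

/-- Vectors with all coordinates divisible by 4 and sum divisible by 8. -/
theorem four_mem (Q : AddSubgroup (GolayPt → ℤ)) (h4 : ∀ i, b4 i ∈ Q) (h8 : e8 none ∈ Q)
    (x : GolayPt → ℤ) (hx : ∀ i, (4 : ℤ) ∣ x i) (hs : (8 : ℤ) ∣ ∑ i, x i) : x ∈ Q := by
  choose z hz using hx
  have hs2 : (2 : ℤ) ∣ ∑ i, z i := by
    obtain ⟨c, hc⟩ := hs
    have : ∑ i, x i = 4 * ∑ i, z i := by
      rw [Finset.mul_sum]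
      exact Finset.sum_congr rfl fun i _ => hz i
    rw [this] at hc
    exact ⟨c, by omega⟩
  obtain ⟨k, hk⟩ := hs2
  have key : x = (∑ i, z i • b4 i) + k • e8 none := by
    funext j
    simp only [Pi.add_apply, Finset.sum_apply, Pi.smul_apply, smul_eq_mul, b4, Pi.sub_apply, e8]
    have h1 : ∀ i, z i * ((Pi.single i (4 : ℤ) : GolayPt → ℤ) j - (Pi.single none (4 : ℤ) : GolayPt → ℤ) j) =
        (if i = j then z i * 4 else 0) - z i * (Pi.single none (4 : ℤ) : GolayPt → ℤ) j := by
      intro i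
      by_cases hij : i = j
      · subst hij; simp [mul_sub]
      · have : j ≠ i := fun h => hij h.symm
        simp [Pi.single_eq_of_ne this, hij]
    rw [Finset.sum_congr rfl fun i _ => h1 i, Finset.sum_sub_distrib, Finset.sum_ite_eq' Finset.univ j,
      ← Finset.sum_mul, hk]
    simp only [Finset.mem_univ, if_true]
    rw [hz j]
    by_cases hj : j = none
    · subst hj; simp; ring
    · rw [Pi.single_eq_of_ne hj, Pi.single_eq_of_ne hj]; ring
  rw [key]
  exact Q.add_mem (Q.sum_mem fun i _ => Q.zsmul_mem (h4 i) _) (Q.zsmul_mem h8 _)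

theorem even_iff {a : ℤ} : a ≡ 0 [ZMOD 2] ↔ (2 : ℤ) ∣ a := by
  unfold Int.ModEq
  omega

theorem four_dvd_of_bit {a : ℤ} (h2 : a ≡ 0 [ZMOD 2]) (hb : bit1 a = 0) : (4 : ℤ) ∣ a := by
  rw [even_iff] at h2
  obtain ⟨c, rfl⟩ := h2
  rw [bit1_two_mul, ZMod.intCast_zmod_eq_zero_iff_dvd] at hb
  obtain ⟨e, he⟩ := hb
  push_cast at he
  exact ⟨e, by rw [he]; ring⟩

/-- The even part: the code words are reached. -/
theorem exists_even_of_word (Q : AddSubgroup (GolayPt → ℤ))
    (hb : ∀ b ∈ basis, twice (setOf b) ∈ Q) {w : GolayPt → ZMod 2} (hw : w ∈ golayCode) :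
    ∃ y ∈ Q, (∀ i, y i ≡ 0 [ZMOD 2]) ∧ (∑ i, y i ≡ 0 [ZMOD 8]) ∧ digitWord y = w := by
  refine Cfsg.Agent.Lib.Golay.Basic.code_induction (C := fun w =>
    ∃ y ∈ Q, (∀ i, y i ≡ 0 [ZMOD 2]) ∧ (∑ i, y i ≡ 0 [ZMOD 8]) ∧ digitWord y = w) ?_ ?_ ?_ hw
  · refine ⟨0, Q.zero_mem, fun _ => rfl, by simp [Int.ModEq], ?_⟩
    funext i
    simp [digitWord, bit1]
  · rintro a b ⟨y, hy, h1, h2, rfl⟩ ⟨y', hy', h1', h2', rfl⟩
    refine ⟨y + y', Q.add_mem hy hy', fun i => ?_, ?_, ?_⟩
    · have := (h1 i).add (h1' i)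
      simpa using this
    · simp only [Pi.add_apply, Finset.sum_add_distrib]
      have := h2.add h2'
      simpa using this
    · rw [digitWord_add y y' 0 0 h1 h1']
      simp
  · intro b hbb
    refine ⟨_, hb b hbb, fun i => ?_, ?_, ?_⟩
    · unfold twice Int.ModEq
      split_ifs <;> norm_num
    · have hm := twice_mem (c := setOf b) ((Cfsg.Agent.Lib.Golay.Basic.setOf_basis_mem hbb).1)
      rw [mem_leechLattice_iff, mem_leechSet_iff] at hm
      obtain ⟨m, hm1, hm2, -⟩ := hm
      have h0 : (m : ℤ) ≡ 0 [ZMOD 2] := by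
        have := hm1 (pt 0)
        have h' : twice (setOf b) (pt 0) ≡ 0 [ZMOD 2] := by
          unfold twice Int.ModEq
          split_ifs <;> norm_num
        exact this.symm.trans h'
      rw [even_iff] at h0
      obtain ⟨c, rfl⟩ := h0
      unfold Int.ModEq at hm2 ⊢
      omega
    · funext p
      simp only [digitWord, twice, wordOf, bit1, mem_setOf]
      split_ifs <;> rfl

/-- Induction over the lattice. -/
theorem lattice_le_of_gens (Q : AddSubgroup (GolayPt → ℤ)) (h0 : v0 ∈ Q)
    (hb : ∀ b ∈ basis, twice (setOf b) ∈ Q) (h4 : ∀ i, b4 i ∈ Q) (h8 : e8 none ∈ Q) :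
    leechLattice ≤ Q := by
  -- even vectors
  have heven : ∀ x ∈ leechLattice, (∀ i, x i ≡ 0 [ZMOD 2]) → x ∈ Q := by
    intro x hx hx0
    rw [mem_leechLattice_iff, mem_leechSet_iff] at hx
    obtain ⟨m, hm, hs, hw⟩ := hx
    obtain ⟨y, hy, hy1, hy2, hy3⟩ := exists_even_of_word Q hb hw
    have hm0 : (m : ℤ) ≡ 0 [ZMOD 2] := (hm (pt 0)).symm.trans (hx0 _)
    have hs0 : ∑ i, x i ≡ 0 [ZMOD 8] := by
      rw [even_iff] at hm0
      obtain ⟨c, rfl⟩ := hm0
      unfold Int.ModEq at hs ⊢
      omega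
    have hxy : x - y ∈ Q := by
      apply four_mem Q h4 (by exact h8)
      · intro i
        apply four_dvd_of_bit
        · have := (hx0 i).sub (hy1 i)
          simpa using this
        · have h1 : digitWord (x + -y) = digitWord x + digitWord (-y) := by
            have hny : ∀ i, (-y) i ≡ 0 [ZMOD 2] := fun i => by
              have := (hy1 i).neg
              simpa using this
            rw [digitWord_add x (-y) 0 0 hx0 hny]
            simp
          have h2 : digitWord (-y) = digitWord y := by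
            rw [digitWord_neg y 0 hy1]
            simp
          have h3 := congrFun h1 i
          rw [h2, hy3] at h3
          have h4' : bit1 ((x - y) i) = digitWord (x + -y) i := by
            rw [sub_eq_add_neg]; rfl
          rw [h4', h3, Pi.add_apply]
          exact CharTwo.add_self_eq_zero _
      · rw [Finset.sum_congr rfl (fun i _ => Pi.sub_apply x y i), Finset.sum_sub_distrib]
        have := hs0.sub hy2
        rw [sub_zero] at this
        exact Int.modEq_zero_iff_dvd.1 this
    have := Q.add_mem hxy hy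
    simpa using this
  intro x hx
  have hx' := hx
  rw [mem_leechLattice_iff, mem_leechSet_iff] at hx'
  obtain ⟨m, hm, -, -⟩ := hx'
  rcases Int.even_or_odd' m with ⟨c, hc | hc⟩
  · apply heven x hx
    intro i
    refine (hm i).trans ?_
    rw [hc]
    unfold Int.ModEq
    omega
  · have h1 : x - v0 ∈ Q := by
      apply heven _ (leechLattice.sub_mem hx v0_mem)
      intro i
      have h2 : v0 i ≡ 1 [ZMOD 2] := by
        unfold v0 Int.ModEq
        split_ifs <;> norm_num
      have h3 := (hm i).sub h2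
      rw [hc] at h3
      refine h3.trans ?_
      unfold Int.ModEq
      omega
    have := Q.add_mem h1 h0
    simpa using this

theorem sqNorm_twice (c : Finset GolayPt) : sqNorm (twice c) = 4 * c.card := by
  unfold sqNorm twice
  have : ∀ i : GolayPt, (if i ∈ c then (2 : ℤ) else 0) ^ 2 = if i ∈ c then 4 else 0 := by
    intro i
    split_ifs <;> norm_num
  rw [Finset.sum_congr rfl fun i _ => this i]
  simp [Finset.sum_ite_mem, mul_comm]

theorem sqNorm_v0 : sqNorm v0 = 32 := by decide

theorem sqNorm_b4 {i : GolayPt} (hi : i ≠ none) : sqNorm (b4 i) = 32 := by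
  revert i
  decide

theorem b4_none : b4 none = 0 := by
  unfold b4
  simp

theorem e8_none_eq : e8 none = Spor.vecU - b4 (some 0) := by decide

theorem sqNorm_vecU : sqNorm Spor.vecU = 32 := by decide

/-- The lattice is generated by its minimal vectors. -/
theorem closure_min :
    AddSubgroup.closure {x : GolayPt → ℤ | x ∈ leechLattice ∧ sqNorm x = 32} = leechLattice := by
  apply le_antisymm
  · rw [AddSubgroup.closure_le]
    exact fun x hx => hx.1
  · have hmem : ∀ x, x ∈ leechLattice → sqNorm x = 32 →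
        x ∈ AddSubgroup.closure {x : GolayPt → ℤ | x ∈ leechLattice ∧ sqNorm x = 32} :=
      fun x h1 h2 => AddSubgroup.subset_closure ⟨h1, h2⟩
    have hb4 : ∀ i, b4 i ∈ AddSubgroup.closure {x : GolayPt → ℤ | x ∈ leechLattice ∧ sqNorm x = 32} := by
      intro i
      by_cases hi : i = none
      · rw [hi, b4_none]
        exact AddSubgroup.zero_mem _
      · exact hmem _ (b4_mem i) (sqNorm_b4 hi)
    apply lattice_le_of_gens _ (hmem _ v0_mem sqNorm_v0)
    · intro b hb
      have ho := Cfsg.Agent.Lib.Golay.Basic.setOf_basis_mem hb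
      refine hmem _ (twice_mem ho.1) ?_
      rw [sqNorm_twice, ho.2]
      norm_num
    · exact hb4
    · rw [e8_none_eq]
      apply AddSubgroup.sub_mem _ _ (hb4 _)
      exact hmem _ (AddSubgroup.subset_closure Spor.vecU_mem_leechSet) sqNorm_vecU

end Cfsg.Agent.Lib.Leech.Gen
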