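import Cfsg.Agent.Lib.Leech.Count

/-!
# The index of the lattice

The lattice has index `2^36` in `ℤ^24`, and twice the lattice has index `2^24` in the lattice.
-/

set_option autoImplicit false
set_option maxRecDepth 100000
set_option maxHeartbeats 400000

namespace Cfsg.Agent.Lib.Leech.Index

open Cfsg Cfsg.Agent.Lib.Golay.Core Cfsg.Agent.Lib.Leech.Basic Cfsg.Agent.Lib.Leech.Lat
  Cfsg.Agent.Lib.Leech.Mon Cfsg.Agent.Lib.Leech.Gen Cfsg.Agent.Lib.Leech.Count

/-- Reduction modulo `n` of integer vectors. -/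
def modHom (n : ℕ) : (GolayPt → ℤ) →+ (GolayPt → ZMod n) :=
  (Int.castAddHom (ZMod n)).compLeft GolayPt

@[simp] theorem modHom_apply (n : ℕ) (x : GolayPt → ℤ) (i : GolayPt) :
    modHom n x i = ((x i : ℤ) : ZMod n) := rfl

theorem modHom_surj (n : ℕ) : Function.Surjective (modHom n) := by
  intro y
  choose x hx using fun i => ZMod.intCast_surjective (y i)
  exact ⟨x, funext hx⟩

theorem mem_ker_modHom {n : ℕ} {x : GolayPt → ℤ} :
    x ∈ (modHom n).ker ↔ ∀ i, (n : ℤ) ∣ x i := by
  rw [AddMonoidHom.mem_ker]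
  constructor
  · intro h i
    have := congrFun h i
    rwa [modHom_apply, Pi.zero_apply, ZMod.intCast_zmod_eq_zero_iff_dvd] at this
  · intro h
    funext i
    rw [modHom_apply, Pi.zero_apply, ZMod.intCast_zmod_eq_zero_iff_dvd]
    exact h i

theorem index_ker_modHom (n : ℕ) [NeZero n] : (modHom n).ker.index = n ^ 24 := by
  rw [AddSubgroup.index_ker, AddMonoidHom.range_eq_top.2 (modHom_surj n), AddSubgroup.card_top,
    Nat.card_eq_fintype_card, Fintype.card_fun, ZMod.card, card_golayPt]

theorem ker8_le : (modHom 8).ker ≤ leechLattice := by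
  intro x hx
  rw [mem_ker_modHom] at hx
  apply four_mem leechLattice b4_mem (e8_mem none) x
  · intro i
    have := hx i
    push_cast at this
    omega
  · exact Finset.dvd_sum fun i _ => by simpa using hx i

/-- The residues modulo 8. -/
noncomputable def V8 : Finset ℤ := Finset.Ico 0 8

theorem totF_V8 : totF V8 1 = 2 ^ 37 := by decide +kernel

theorem card_lamF_V8 : (lamF V8).card = 2 ^ 36 := by
  have h := sum_lamF V8 1
  rw [totF_V8] at h
  simp only [one_pow, Finset.sum_const, nsmul_eq_mul, mul_one] at h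
  have : ((lamF V8).card : ℤ) = 2 ^ 36 := by omega
  exact_mod_cast this

/-- Reduction of the vectors with coordinates in `[0, 8)`. -/
noncomputable def redF (x : lamF V8) : leechLattice.map (modHom 8) :=
  ⟨modHom 8 x.1, AddSubgroup.mem_map.2 ⟨x.1, ((mem_lamF V8).1 x.2).1, rfl⟩⟩

theorem redF_inj : Function.Injective redF := by
  rintro ⟨x, hx⟩ ⟨y, hy⟩ h
  apply Subtype.ext
  funext i
  have h1 := congrFun (congrArg Subtype.val h) i
  have h1' : ((x i : ℤ) : ZMod 8) = ((y i : ℤ) : ZMod 8) := h1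
  have hx' := ((mem_lamF V8).1 hx).2 i
  have hy' := ((mem_lamF V8).1 hy).2 i
  unfold V8 at hx' hy'
  rw [Finset.mem_Ico] at hx' hy'
  have h2 := (ZMod.intCast_eq_intCast_iff _ _ 8).1 h1'
  unfold Int.ModEq at h2
  push_cast at h2
  show x i = y i
  omega

theorem redF_surj : Function.Surjective redF := by
  rintro ⟨y, x, hx, rfl⟩
  have hx' : (fun i => x i % 8) ∈ leechLattice := by
    have h1 : (fun i => x i % 8) - x ∈ (modHom 8).ker := by
      rw [mem_ker_modHom]
      intro i
      simp only [Pi.sub_apply]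
      push_cast
      omega
    have := leechLattice.add_mem (ker8_le h1) hx
    simpa using this
  refine ⟨⟨_, (mem_lamF V8).2 ⟨hx', fun i => ?_⟩⟩, ?_⟩
  · unfold V8
    rw [Finset.mem_Ico]
    omega
  · apply Subtype.ext
    funext i
    show (((x i % 8 : ℤ)) : ZMod 8) = ((x i : ℤ) : ZMod 8)
    rw [ZMod.intCast_eq_intCast_iff]
    exact Int.mod_modEq _ _

theorem card_map8 : Nat.card (leechLattice.map (modHom 8)) = 2 ^ 36 := by
  have h1 : Nat.card (lamF V8) = Nat.card (leechLattice.map (modHom 8)) :=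
    Nat.card_congr (Equiv.ofBijective redF ⟨redF_inj, redF_surj⟩)
  have h2 : Nat.card (lamF V8) = (lamF V8).card := Nat.card_eq_finsetCard _
  rw [← h1, h2]
  exact card_lamF_V8

/-- The lattice has index `2^36`. -/
theorem index_lattice : leechLattice.index = 2 ^ 36 := by
  have h1 := AddSubgroup.relIndex_mul_index ker8_le
  rw [AddSubgroup.relIndex_ker, card_map8, index_ker_modHom] at h1
  have h2 : (8 : ℕ) ^ 24 = 2 ^ 36 * 2 ^ 36 := by norm_num
  rw [h2] at h1
  exact Nat.eq_of_mul_eq_mul_left (by positivity) h1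

/-- Doubling on integer vectors. -/
def dbl : (GolayPt → ℤ) →+ (GolayPt → ℤ) := nsmulAddMonoidHom 2

@[simp] theorem dbl_apply (x : GolayPt → ℤ) : dbl x = (2 : ℕ) • x := rfl

theorem dbl_ker : dbl.ker = ⊥ := by
  rw [AddMonoidHom.ker_eq_bot_iff]
  intro x y h
  funext i
  have := congrFun h i
  simp only [dbl_apply, Pi.smul_apply, smul_eq_mul] at this
  simp at this
  omega

theorem dbl_range : dbl.range = (modHom 2).ker := by
  ext x
  rw [mem_ker_modHom, AddMonoidHom.mem_range]
  constructor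
  · rintro ⟨y, rfl⟩ i
    simp
  · intro h
    choose z hz using h
    refine ⟨z, ?_⟩
    funext i
    simp only [dbl_apply, Pi.smul_apply, smul_eq_mul]
    rw [hz i]
    simp

/-- Twice the lattice. -/
def twoL : AddSubgroup (GolayPt → ℤ) := leechLattice.map dbl

theorem mem_twoL {x : GolayPt → ℤ} : x ∈ twoL ↔ ∃ z ∈ leechLattice, x = (2 : ℕ) • z := by
  simp only [twoL, AddSubgroup.mem_map, dbl_apply]
  constructor
  · rintro ⟨z, hz, rfl⟩
    exact ⟨z, hz, rfl⟩
  · rintro ⟨z, hz, rfl⟩
    exact ⟨z, hz, rfl⟩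

theorem twoL_le : twoL ≤ leechLattice := by
  intro x hx
  obtain ⟨z, hz, rfl⟩ := mem_twoL.1 hx
  exact leechLattice.nsmul_mem hz 2

theorem index_twoL : twoL.index = 2 ^ 60 := by
  unfold twoL
  rw [AddSubgroup.index_map, dbl_ker, sup_bot_eq, index_lattice, dbl_range, index_ker_modHom]
  norm_num

/-- Twice the lattice has index `2^24` in the lattice. -/
theorem relIndex_twoL : twoL.relIndex leechLattice = 2 ^ 24 := by
  have h1 := AddSubgroup.relIndex_mul_index twoL_le
  rw [index_twoL, index_lattice] at h1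
  have h2 : (2 : ℕ) ^ 60 = 2 ^ 24 * 2 ^ 36 := by norm_num
  rw [h2] at h1
  exact Nat.eq_of_mul_eq_mul_right (by positivity) h1

end Cfsg.Agent.Lib.Leech.Index
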