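import Cfsg.Agent.Lib.Leech.Even
import Cfsg.Prelude.Def_Spor_Conway
import Cfsg.Prelude.Def_SporadicCombinatorics

/-!
# The rank-24 lattice: norms and the automorphism group

Basic facts about `Cfsg.leechLattice` and `Cfsg.Co0`: minimal norm, parallelogram law, additivity
and preservation of inner products by `Co0`, a constructor for elements of `Co0`.
-/

set_option autoImplicit false

namespace Cfsg.Agent.Lib.Leech.Lat

open Cfsg Cfsg.Agent.Lib.Leech.Basic Cfsg.Agent.Lib.Leech.Even

/-- Nonzero lattice vectors have sum of squares at least 32. -/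
theorem min_norm' {x : GolayPt → ℤ} (hx : x ∈ leechLattice) (h0 : x ≠ 0) : 32 ≤ sqNorm x :=
  min_norm (fun _ hw => Cfsg.Agent.Lib.Golay.Core.hammingNorm_mem hw) x hx h0

theorem sqNorm_nonneg {α : Type*} [Fintype α] (x : α → ℤ) : 0 ≤ sqNorm x :=
  Finset.sum_nonneg fun _ _ => sq_nonneg _

theorem sqNorm_eq_zero {α : Type*} [Fintype α] {x : α → ℤ} (h : sqNorm x = 0) : x = 0 := by
  funext i
  have h1 := (Finset.sum_eq_zero_iff_of_nonneg (fun _ _ => sq_nonneg _)).1 h i (Finset.mem_univ i)
  simpa using h1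

theorem dotInt_comm {α : Type*} [Fintype α] (x y : α → ℤ) : dotInt x y = dotInt y x := by
  unfold dotInt
  exact Finset.sum_congr rfl fun _ _ => mul_comm _ _

theorem dotInt_self {α : Type*} [Fintype α] (x : α → ℤ) : dotInt x x = sqNorm x := by
  unfold dotInt sqNorm
  exact Finset.sum_congr rfl fun _ _ => by ring

theorem dotInt_add_right {α : Type*} [Fintype α] (x y z : α → ℤ) :
    dotInt x (y + z) = dotInt x y + dotInt x z := by
  unfold dotInt
  rw [← Finset.sum_add_distrib]
  exact Finset.sum_congr rfl fun _ _ => by simp only [Pi.add_apply]; ring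

theorem dotInt_neg_right {α : Type*} [Fintype α] (x y : α → ℤ) :
    dotInt x (-y) = - dotInt x y := by
  unfold dotInt
  rw [← Finset.sum_neg_distrib]
  exact Finset.sum_congr rfl fun _ _ => by simp only [Pi.neg_apply]; ring

theorem dotInt_sub_right {α : Type*} [Fintype α] (x y z : α → ℤ) :
    dotInt x (y - z) = dotInt x y - dotInt x z := by
  rw [sub_eq_add_neg, dotInt_add_right, dotInt_neg_right, sub_eq_add_neg]

theorem dotInt_add_left {α : Type*} [Fintype α] (x y z : α → ℤ) :
    dotInt (y + z) x = dotInt y x + dotInt z x := by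
  rw [dotInt_comm, dotInt_add_right, dotInt_comm x y, dotInt_comm x z]

theorem dotInt_sub_left {α : Type*} [Fintype α] (x y z : α → ℤ) :
    dotInt (y - z) x = dotInt y x - dotInt z x := by
  rw [dotInt_comm, dotInt_sub_right, dotInt_comm x y, dotInt_comm x z]

theorem dotInt_neg_left {α : Type*} [Fintype α] (x y : α → ℤ) :
    dotInt (-y) x = - dotInt y x := by
  rw [dotInt_comm, dotInt_neg_right, dotInt_comm]

theorem sqNorm_neg {α : Type*} [Fintype α] (x : α → ℤ) : sqNorm (-x) = sqNorm x := by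
  unfold sqNorm
  exact Finset.sum_congr rfl fun _ _ => by simp only [Pi.neg_apply]; ring

theorem sqNorm_sub (x y : GolayPt → ℤ) :
    sqNorm (x - y) = sqNorm x + sqNorm y - 2 * dotInt x y := by
  rw [sub_eq_add_neg, sqNorm_add, sqNorm_neg, dotInt_neg_right]
  ring

theorem sqNorm_two_nsmul (x : GolayPt → ℤ) : sqNorm ((2 : ℕ) • x) = 4 * sqNorm x := by
  unfold sqNorm
  rw [Finset.mul_sum]
  refine Finset.sum_congr rfl fun i _ => ?_
  simp only [Pi.smul_apply, smul_eq_mul, nsmul_eq_mul]
  push_cast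
  ring

/-- If `x - y = 2 z`, then `x + y = 2 (y + z)`. -/
theorem short_congruent {x y : GolayPt → ℤ} (hx : x ∈ leechLattice) (hy : y ∈ leechLattice)
    (hxy : x ≠ y) (hxn : sqNorm x ≤ 64) (hyn : sqNorm y ≤ 64)
    (hc : ∃ z ∈ leechLattice, x - y = (2 : ℕ) • z) :
    x = -y ∨ (sqNorm x = 64 ∧ sqNorm y = 64 ∧ dotInt x y = 0) := by
  obtain ⟨z, hz, hzz⟩ := hc
  by_cases hne : x = -y
  · exact Or.inl hne
  right
  have hz0 : z ≠ 0 := by
    rintro rfl
    apply hxy
    rw [smul_zero, sub_eq_zero] at hzz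
    exact hzz
  have hw : y + z ∈ leechLattice := leechLattice.add_mem hy hz
  have hw0 : y + z ≠ 0 := by
    intro h
    apply hne
    have h1 : x = y + (2 : ℕ) • z := by rw [← hzz]; abel
    have h2 : z = -y := by
      rw [add_comm] at h
      exact eq_neg_of_add_eq_zero_left h
    rw [h1, h2]
    simp only [smul_neg, two_nsmul]
    abel
  have h1 := min_norm' hz hz0
  have h2 := min_norm' hw hw0
  have hxp : x + y = (2 : ℕ) • (y + z) := by
    have : x = y + (2 : ℕ) • z := by rw [← hzz]; abel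
    rw [this, two_nsmul, two_nsmul]
    abel
  have h3 := sqNorm_two_nsmul z
  rw [← hzz, sqNorm_sub] at h3
  have h4 := sqNorm_two_nsmul (y + z)
  rw [← hxp, sqNorm_add] at h4
  refine ⟨by nlinarith, by nlinarith, by nlinarith⟩

/-! ### The group `Co0` -/

/-- The lattice, abbreviated. -/
abbrev L := leechLattice

theorem smul_eq (g : Co0) (v : L) : g • v = (g : Equiv.Perm L) v := rfl

theorem smul_add (g : Co0) (v w : L) : g • (v + w) = g • v + g • w := g.2.1 v w

theorem smul_sqNorm (g : Co0) (v : L) :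
    sqNorm ((g • v : L) : GolayPt → ℤ) = sqNorm (v : GolayPt → ℤ) := g.2.2 v

/-- An element of `Co0` as an additive map. -/
def toHom (g : Co0) : L →+ L where
  toFun v := g • v
  map_zero' := by
    have h := smul_add g 0 0
    simpa using h
  map_add' := smul_add g

@[simp] theorem toHom_apply (g : Co0) (v : L) : toHom g v = g • v := rfl

theorem smul_zero' (g : Co0) : g • (0 : L) = 0 := (toHom g).map_zero

theorem smul_neg (g : Co0) (v : L) : g • (-v) = -(g • v) := (toHom g).map_neg v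

theorem smul_sub (g : Co0) (v w : L) : g • (v - w) = g • v - g • w := (toHom g).map_sub v w

theorem smul_nsmul (g : Co0) (n : ℕ) (v : L) : g • (n • v) = n • (g • v) := (toHom g).map_nsmul n v

theorem smul_zsmul (g : Co0) (n : ℤ) (v : L) : g • (n • v) = n • (g • v) := (toHom g).map_zsmul n v

theorem smul_dot (g : Co0) (v w : L) :
    dotInt ((g • v : L) : GolayPt → ℤ) ((g • w : L) : GolayPt → ℤ) =
      dotInt (v : GolayPt → ℤ) (w : GolayPt → ℤ) := by
  have h1 := sqNorm_add ((g • v : L) : GolayPt → ℤ) ((g • w : L) : GolayPt → ℤ)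
  have h2 := sqNorm_add (v : GolayPt → ℤ) (w : GolayPt → ℤ)
  have h3 : ((g • v : L) : GolayPt → ℤ) + ((g • w : L) : GolayPt → ℤ) =
      ((g • (v + w) : L) : GolayPt → ℤ) := by
    rw [smul_add]; rfl
  have h4 : (v : GolayPt → ℤ) + (w : GolayPt → ℤ) = ((v + w : L) : GolayPt → ℤ) := rfl
  rw [h3, smul_sqNorm, smul_sqNorm, smul_sqNorm] at h1
  rw [h4] at h2
  linarith

/-- Constructor of elements of `Co0` from maps of integer vectors. -/
def mkCo0 (f f' : (GolayPt → ℤ) → (GolayPt → ℤ))
    (hf : ∀ x ∈ leechLattice, f x ∈ leechLattice) (hf' : ∀ x ∈ leechLattice, f' x ∈ leechLattice)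
    (h1 : ∀ x ∈ leechLattice, f' (f x) = x) (h2 : ∀ x ∈ leechLattice, f (f' x) = x)
    (hadd : ∀ x ∈ leechLattice, ∀ y ∈ leechLattice, f (x + y) = f x + f y)
    (hn : ∀ x ∈ leechLattice, sqNorm (f x) = sqNorm x) : Co0 :=
  ⟨{ toFun := fun v => ⟨f v.1, hf v.1 v.2⟩
     invFun := fun v => ⟨f' v.1, hf' v.1 v.2⟩
     left_inv := fun v => Subtype.ext (h1 v.1 v.2)
     right_inv := fun v => Subtype.ext (h2 v.1 v.2) },
    fun v w => Subtype.ext (hadd v.1 v.2 w.1 w.2), fun v => hn v.1 v.2⟩

@[simp] theorem mkCo0_smul (f f' : (GolayPt → ℤ) → (GolayPt → ℤ))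
    (hf : ∀ x ∈ leechLattice, f x ∈ leechLattice) (hf' : ∀ x ∈ leechLattice, f' x ∈ leechLattice)
    (h1 : ∀ x ∈ leechLattice, f' (f x) = x) (h2 : ∀ x ∈ leechLattice, f (f' x) = x)
    (hadd : ∀ x ∈ leechLattice, ∀ y ∈ leechLattice, f (x + y) = f x + f y)
    (hn : ∀ x ∈ leechLattice, sqNorm (f x) = sqNorm x) (v : L) :
    ((mkCo0 f f' hf hf' h1 h2 hadd hn • v : L) : GolayPt → ℤ) = f v := rfl

/-- Negation as an element of `Co0`. -/
def negG : Co0 :=
  mkCo0 (fun x => -x) (fun x => -x) (fun _ h => leechLattice.neg_mem h)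
    (fun _ h => leechLattice.neg_mem h) (fun _ _ => neg_neg _) (fun _ _ => neg_neg _)
    (fun _ _ _ _ => neg_add _ _) (fun _ _ => sqNorm_neg _)

@[simp] theorem negG_smul (v : L) : ((negG • v : L) : GolayPt → ℤ) = -v := rfl

theorem negG_smul' (v : L) : negG • v = -v := rfl

/-- Elements of `Co0` commute with negation. -/
theorem negG_central (g : Co0) : negG * g = g * negG := by
  apply Subtype.ext
  apply Equiv.ext
  intro v
  show negG • (g • v) = g • (negG • v)
  rw [negG_smul', negG_smul', smul_neg]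

/-- Ext lemma. -/
theorem ext_smul {g h : Co0} (H : ∀ v : L, g • v = h • v) : g = h :=
  Subtype.ext (Equiv.ext H)

theorem mul_smul' (g h : Co0) (v : L) : (g * h) • v = g • (h • v) := rfl

end Cfsg.Agent.Lib.Leech.Lat
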