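import Cfsg.Agent.Lib.Leech.Word

/-!
# The monomial group is a maximal subgroup

A subgroup properly containing the monomial group contains an element sending `8 e` to one of the
representatives of the monomial orbits, hence an explicit word; applying these words one reaches
`ξ`, and the monomial group and `ξ` generate the whole group.
-/

set_option autoImplicit false

namespace Cfsg.Agent.Lib.Leech.Maximal

open Cfsg Cfsg.Agent.Lib.Golay.Core Cfsg.Agent.Lib.Golay.Perm
  Cfsg.Agent.Lib.Leech.Basic Cfsg.Agent.Lib.Leech.Lat
  Cfsg.Agent.Lib.Leech.Mon Cfsg.Agent.Lib.Leech.Packed Cfsg.Agent.Lib.Leech.Vec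
  Cfsg.Agent.Lib.Leech.Xi Cfsg.Agent.Lib.Leech.Reach Cfsg.Agent.Lib.Leech.NF
  Cfsg.Agent.Lib.Leech.Trans Cfsg.Agent.Lib.Leech.Order Cfsg.Agent.Lib.Leech.Word
open scoped Pointwise

theorem dec_A64 : dec nA64 = e8 none := by
  funext i
  revert i
  decide +kernel

theorem mem_A64 : dec nA64 ∈ leechLattice := by
  rw [dec_A64]
  exact e8_mem none

/-- An element agreeing with an element of `M` on `8 e` is in `M`. -/
theorem mem_of_smul_eq {M : Subgroup Co0} (hN : NN ≤ M) {t h : Co0} (hh : h ∈ M)
    (e : t • e8L none = h • e8L none) : t ∈ M := by
  have h1 : (h⁻¹ * t) • e8L none = e8L none := by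
    rw [mul_smul, e, inv_smul_smul]
  have h2 : h⁻¹ * t ∈ M := hN (pres_of_fix h1)
  have h3 := M.mul_mem hh h2
  rwa [mul_inv_cancel_left] at h3

theorem e8L_eq : (⟨dec nA64, mem_A64⟩ : L) = e8L none := Subtype.ext dec_A64

/-- One element of `M` from a vector reached in `M`. -/
theorem mem_of_rel {M : Subgroup Co0} (hN : NN ≤ M) {t : Co0} {y : GolayPt → ℤ}
    (hy : Rel M (dec nA64) y) (ht : ((t • e8L none : L) : GolayPt → ℤ) = y) : t ∈ M := by
  obtain ⟨hx, h, hh, e⟩ := hy
  apply mem_of_smul_eq hN hh
  apply Subtype.ext
  rw [ht, ← e, e8L_eq]

/-- The data of one step. -/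
def stepD (w : List (ℕ × ℕ)) (nr P c a z P2 c2 n' : ℕ) : Bool :=
  runW w nA64 nr && monOK P c nr a && runW w a z && monOK P2 c2 z n'

theorem rel_step {M : Subgroup Co0} (hN : NN ≤ M) {w : List (ℕ × ℕ)} {nr P c a z P2 c2 n' : ℕ}
    (hd : stepD w nr P c a z P2 c2 n' = true) (h : Rel M (dec nA64) (dec nr)) :
    Rel M (dec nA64) (dec n') := by
  simp only [stepD, Bool.and_eq_true] at hd
  obtain ⟨⟨⟨h1, h2⟩, h3⟩, h4⟩ := hd
  have h5 : ((wG w • e8L none : L) : GolayPt → ℤ) = dec nr := by
    rw [← e8L_eq]
    exact wG_smul w h1 mem_A64
  have hmem := mem_of_rel hN h h5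
  have hr := h.mem_right
  have h6 : Rel M (dec nr) (dec a) := Rel.mono hN (nrel_of_monOK h2 hr)
  have ha := h6.mem_right
  have h7 : Rel M (dec a) (dec z) := ⟨ha, wG w, hmem, wG_smul w h3 ha⟩
  have h8 : Rel M (dec z) (dec n') := Rel.mono hN (nrel_of_monOK h4 h7.mem_right)
  exact h.trans (h6.trans (h7.trans h8))

theorem step_C64 {M : Subgroup Co0} (hN : NN ≤ M) (h : Rel M (dec nA64) (dec nC64)) : Rel M (dec nA64) (dec nB64) := by
  refine rel_step hN (w := [(382330650874792522830973469885551968, 0), (0, 0), (790989040791067936337283139889447620, 3658529), (473027647624643114072660125047498278, 9963547), (0, 0), (4316958226985944281171164497322630, 407285)])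
    (P := 276667367332278003226632128181620439) (c := 42232)
    (a := 605572637115457079357355031286727248) (z := 686053159114800011607157481268458000)
    (P2 := 927095338185507111476107873453399472) (c2 := 10305542) (by decide +kernel) h

theorem step_Da64 {M : Subgroup Co0} (hN : NN ≤ M) (h : Rel M (dec nA64) (dec nDa64)) : Rel M (dec nA64) (dec nC64) := by
  refine rel_step hN (w := [(382330650874792522830973469885551968, 0), (0, 0), (790989040791067936337283139889447620, 3658529), (719912787306040076519004850865932495, 1217620), (0, 0), (636180930031922016548077507107801479, 1935190)])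
    (P := 222603607627027025550854037408780880) (c := 7228234)
    (a := 769051235208677887055769516301044176) (z := 602978944677020654309603421203151374)
    (P2 := 132812214172464047798839115898861952) (c2 := 8216682) (by decide +kernel) h

theorem step_Db64 {M : Subgroup Co0} (hN : NN ≤ M) (h : Rel M (dec nA64) (dec nDb64)) : Rel M (dec nA64) (dec nC64) := by
  refine rel_step hN (w := [(382330650874792522830973469885551968, 0), (0, 0), (790989040791067936337283139889447620, 3658529), (719912787306040076519004850865932495, 1217620), (0, 0), (636180930031922016548077507107801479, 1935190), (226698116791424014162736672143001941, 5354127), (0, 0), (769922058757763553756872212331741579, 13771273)])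
    (P := 136605256085310083636162656435799735) (c := 8670075)
    (a := 688651919674989972861934861162136078) (z := 686053161593168703455286076608358864)
    (P2 := 387280533271136107535466335115598866) (c2 := 13811730) (by decide +kernel) h

theorem step_E64 {M : Subgroup Co0} (hN : NN ≤ M) (h : Rel M (dec nA64) (dec nE64)) : Rel M (dec nA64) (dec nDb64) := by
  refine rel_step hN (w := [(382330650874792522830973469885551968, 0), (0, 0), (790989040791067936337283139889447620, 3658529), (473027647624643114072660125047498278, 9963547), (0, 0), (4316958226985944281171164497322630, 407285), (415657150426747838355661406504271378, 3857925), (0, 0), (440427748572488728177120652068274765, 11386462)])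
    (P := 678215191487911760665172901349132305) (c := 6768515)
    (a := 683380951569725077567753971445615118) (z := 683538222102862989376647236460038674)
    (P2 := 137869059912122187813440422901424301) (c2 := 14161611) (by decide +kernel) h

theorem step_F64 {M : Subgroup Co0} (hN : NN ≤ M) (h : Rel M (dec nA64) (dec nF64)) : Rel M (dec nA64) (dec nDb64) := by
  refine rel_step hN (w := [(382330650874792522830973469885551968, 0), (0, 0), (790989040791067936337283139889447620, 3658529), (473027647624643114072660125047498278, 9963547), (0, 0), (4316958226985944281171164497322630, 407285), (415657150426747838355661406504271378, 3857925), (0, 0), (440427748572488728177120652068274765, 11386462), (346079562716189059499114601826994923, 11678641), (0, 0), (597341920101348604862178356666878608, 11911538)])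
    (P := 806740743409561992333662523459391845) (c := 3876754)
    (a := 686050544583014471561975813234051602) (z := 683540673069398274128353223196033618)
    (P2 := 21186809227951792525373759335470573) (c2 := 13978003) (by decide +kernel) h

theorem step_G64 {M : Subgroup Co0} (hN : NN ≤ M) (h : Rel M (dec nA64) (dec nG64)) : Rel M (dec nA64) (dec nE64) := by
  refine rel_step hN (w := [(382330650874792522830973469885551968, 0), (0, 0), (790989040791067936337283139889447620, 3658529), (473027647624643114072660125047498278, 9963547), (0, 0), (4316958226985944281171164497322630, 407285), (415657150426747838355661406504271378, 3857925), (0, 0), (440427748572488728177120652068274765, 11386462), (346079562716189059499114601826994923, 11678641), (0, 0), (597341920101348604862178356666878608, 11911538), (554772177427678447937950491220612693, 407285), (0, 0), (775439113453873786756088840311722326, 6738377)])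
    (P := 228977589859746766210938963768975508) (c := 14448891)
    (a := 643261036990800765218542034240390639) (z := 691245376742749601157900249191696848)
    (P2 := 548127142495867074590899195709003507) (c2 := 14676119) (by decide +kernel) h

theorem step_H64 {M : Subgroup Co0} (hN : NN ≤ M) (h : Rel M (dec nA64) (dec nH64)) : Rel M (dec nA64) (dec nG64) := by
  refine rel_step hN (w := [(382330650874792522830973469885551968, 0), (0, 0), (790989040791067936337283139889447620, 3658529), (473027647624643114072660125047498278, 9963547), (0, 0), (4316958226985944281171164497322630, 407285), (415657150426747838355661406504271378, 3857925), (0, 0), (440427748572488728177120652068274765, 11386462), (346079562716189059499114601826994923, 11678641), (0, 0), (597341920101348604862178356666878608, 11911538), (793862797776881289774658827125471414, 9875698), (0, 0), (381847541067428508166464137672180354, 14562465)])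
    (P := 400150893295126853398097864065515859) (c := 15019666)
    (a := 643177292820607699670109537303053809) (z := 723736651718376511252494256547874353)
    (P2 := 540757088941713558890533371454506597) (c2 := 7379914) (by decide +kernel) h

/-- The image of `8 e` under `ξ`. -/
def nY0 : ℕ := 519899659796428032404854133364376080

theorem step_xi : inL nB64 = true ∧ monOK 715859092065879425701070263110154423 13938692 nB64 nY0 = true ∧ xiCheck nA64 nY0 = true := by decide +kernel

theorem xi_of_B {M : Subgroup Co0} (hN : NN ≤ M) (h : Rel M (dec nA64) (dec nB64)) : xiG ∈ M := by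
  obtain ⟨h1, h2, h3⟩ := step_xi
  have h4 : Rel M (dec nB64) (dec nY0) := Rel.mono hN (nrel_of_monOK h2 (mem_of_inL h1))
  apply mem_of_rel hN (h.trans h4)
  rw [← e8L_eq]
  exact xiF_eq_of_check h3

theorem xi_not_mem_NN : xiG ∉ NN := by
  intro h
  have h1 : ((xiG • e8L none : L) : GolayPt → ℤ) ∈ stdCross := h _ (e8_mem_stdCross none)
  have h2 : ((xiG • e8L none : L) : GolayPt → ℤ) = dec nY0 := by
    rw [← e8L_eq]
    exact xiF_eq_of_check step_xi.2.2
  rw [h2] at h1
  obtain ⟨i, s, -, hs⟩ := h1
  have key : dec nY0 (pt 5) ≠ 0 ∧ dec nY0 (pt 14) ≠ 0 ∧ pt 5 ≠ pt 14 := by decide +kernel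
  have h3 : pt 5 = i := by
    by_contra hne
    apply key.1
    rw [hs, Pi.single_eq_of_ne hne]
  have h4 : pt 14 = i := by
    by_contra hne
    apply key.2.1
    rw [hs, Pi.single_eq_of_ne hne]
  exact key.2.2 (h3.trans h4.symm)

/-- **The monomial group is maximal.** -/
theorem coatom_NN : IsCoatom NN := by
  refine ⟨fun h => xi_not_mem_NN (by rw [h]; exact Subgroup.mem_top _), fun M hM => ?_⟩
  have hN : NN ≤ M := hM.le
  obtain ⟨g, hgM, hgN⟩ := SetLike.exists_of_lt hM
  set y : L := g • e8L none with hy
  have hyn : sqNorm (y : GolayPt → ℤ) = 64 := by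
    rw [hy, sqNorm_smul]
    exact sqNorm_e8L none
  have hgy : Rel M (dec nA64) y := ⟨mem_A64, g, hgM, by rw [e8L_eq]⟩
  have hB : Rel M (dec nA64) (dec nB64) := by
    have hC : Rel M (dec nA64) (dec nC64) → Rel M (dec nA64) (dec nB64) := step_C64 hN
    have hDb : Rel M (dec nA64) (dec nDb64) → Rel M (dec nA64) (dec nB64) :=
      fun h => hC (step_Db64 hN h)
    have hE : Rel M (dec nA64) (dec nE64) → Rel M (dec nA64) (dec nB64) :=
      fun h => hDb (step_E64 hN h)
    have hG : Rel M (dec nA64) (dec nG64) → Rel M (dec nA64) (dec nB64) :=
      fun h => hE (step_G64 hN h)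
    rcases nf64 y.2 hyn with h | h | h | h | h | h | h | h | h
    · exfalso
      obtain ⟨hx, n, hn, e⟩ := h
      apply hgN
      have h1 : (n * g) • e8L none = e8L none := by
        rw [mul_smul]
        apply Subtype.ext
        rw [show (e8L none : L).1 = dec nA64 from dec_A64.symm]
        exact e
      have h2 : n * g ∈ NN := pres_of_fix h1
      have h3 := NN.mul_mem (NN.inv_mem hn) h2
      rwa [inv_mul_cancel_left] at h3
    · exact hgy.trans (Rel.mono hN h)
    · exact hC (hgy.trans (Rel.mono hN h))
    · exact hC (step_Da64 hN (hgy.trans (Rel.mono hN h)))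
    · exact hDb (hgy.trans (Rel.mono hN h))
    · exact hE (hgy.trans (Rel.mono hN h))
    · exact hDb (step_F64 hN (hgy.trans (Rel.mono hN h)))
    · exact hG (hgy.trans (Rel.mono hN h))
    · exact hG (step_H64 hN (hgy.trans (Rel.mono hN h)))
  have hX := xi_of_B hN hB
  rw [eq_top_iff]
  intro t _
  have h1 : sqNorm ((t • e8L none : L) : GolayPt → ℤ) = 64 := by
    rw [sqNorm_smul]
    exact sqNorm_e8L none
  obtain ⟨hx, h, hh, e⟩ := rel64 hN hX (t • e8L none).2 h1
  have h2 : h • (t • e8L none) = e8L none := by
    apply Subtype.ext
    rw [show (e8L none : L).1 = dec nA64 from dec_A64.symm]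
    exact e
  have h3 : (h * t) • e8L none = e8L none := by rw [mul_smul, h2]
  have h4 : h * t ∈ M := hN (pres_of_fix h3)
  have h5 := M.mul_mem (M.inv_mem hh) h4
  rwa [inv_mul_cancel_left] at h5

end Cfsg.Agent.Lib.Leech.Maximal
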