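import Cfsg.Agent.Lib.Leech.CertBase

/-!
# The stabiliser of a minimal vector on the minimal vectors

Counts and transitivity, transported from the reference vector.
-/

set_option autoImplicit false

namespace Cfsg.Agent.Lib.Leech.MinVec

open Cfsg Cfsg.Agent.Lib.Golay.Core Cfsg.Agent.Lib.Leech.Basic Cfsg.Agent.Lib.Leech.Vec
  Cfsg.Agent.Lib.Leech.Cert Cfsg.Agent.Lib.Leech.CertData Cfsg.Agent.Lib.Leech.CertBase
  Cfsg.Agent.Lib.Leech.Word Cfsg.Agent.Lib.Leech.Lat Cfsg.Agent.Lib.Leech.Reach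
  Cfsg.Agent.Lib.Leech.Order Cfsg.Agent.Lib.Leech.Trans

/-- The reference vector in the lattice. -/
def vL : L := ⟨dec nV1, nV1_mem⟩

theorem exists_to_ref (v : L) (hv : sqNorm (v : GolayPt → ℤ) = 32) : ∃ t : Co0, t • v = vL :=
  trans32 v vL hv nV1_sq

theorem cl_iff {a : ℕ} {w : GolayPt → ℤ} :
    Cl 32 [(nV1, a, 0)] w ↔ w ∈ leechLattice ∧ sqNorm w = 32 ∧ dotInt w (dec nV1) = a := by
  simp [Cl]

/-- Transport of a transitivity statement. -/
theorem trans_of_rel {a : ℕ} {root : ℕ}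
    (h : ∀ A : L, sqNorm (A : GolayPt → ℤ) = 32 → dotInt (A : GolayPt → ℤ) (dec nV1) = a →
      Rel (FixG [nV1]) A (dec root))
    (v w w' : L) (hv : sqNorm (v : GolayPt → ℤ) = 32) (hw : sqNorm (w : GolayPt → ℤ) = 32)
    (hw' : sqNorm (w' : GolayPt → ℤ) = 32) (hd : dotInt (v : GolayPt → ℤ) w = -(a : ℤ))
    (hd' : dotInt (v : GolayPt → ℤ) w' = -(a : ℤ)) : ∃ g : Co0, g • v = v ∧ g • w = w' := by
  obtain ⟨t, ht⟩ := exists_to_ref v hv
  have key : ∀ u : L, sqNorm (u : GolayPt → ℤ) = 32 → dotInt (v : GolayPt → ℤ) u = -(a : ℤ) →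
      Rel (FixG [nV1]) ((-(t • u) : L) : GolayPt → ℤ) (dec root) := by
    intro u hu hdu
    apply h
    · show sqNorm (-((t • u : L) : GolayPt → ℤ)) = 32
      rw [sqNorm_neg, sqNorm_smul, hu]
    · show dotInt (-((t • u : L) : GolayPt → ℤ)) (dec nV1) = a
      have h1 := smul_dot t u v
      rw [ht] at h1
      have h2 : dotInt ((t • u : L) : GolayPt → ℤ) (dec nV1) = dotInt (u : GolayPt → ℤ) v := h1
      rw [dotInt_neg_left, h2, dotInt_comm, hdu]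
      ring
  have h1 := (key w hw hd).trans (key w' hw' hd').symm
  obtain ⟨g, hg, hgw⟩ := rel_iff.1 h1
  have hgv : g • vL = vL := hg nV1 (by simp) nV1_mem
  refine ⟨t⁻¹ * g * t, ?_, ?_⟩
  · rw [mul_smul, mul_smul, ht, hgv, ← ht, inv_smul_smul]
  · rw [mul_smul, mul_smul, inv_smul_eq_iff]
    have h2 : g • (t • w) = -(g • -(t • w)) := by
      rw [Lat.smul_neg, neg_neg]
    rw [h2, hgw, neg_neg]

/-- Transitivity on the minimal vectors with inner product `-16`. -/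
theorem trans16 (v w w' : L) (hv : sqNorm (v : GolayPt → ℤ) = 32) (hw : sqNorm (w : GolayPt → ℤ) = 32)
    (hw' : sqNorm (w' : GolayPt → ℤ) = 32) (hd : dotInt (v : GolayPt → ℤ) w = -16)
    (hd' : dotInt (v : GolayPt → ℤ) w' = -16) : ∃ g : Co0, g • v = v ∧ g • w = w' :=
  trans_of_rel (a := 16) (fun A h1 h2 => rel16 (cl_iff.2 ⟨A.2, h1, h2⟩)) v w w' hv hw hw'
    (by exact_mod_cast hd) (by exact_mod_cast hd')

/-- Transitivity on the minimal vectors with inner product `-8`. -/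
theorem trans8 (v w w' : L) (hv : sqNorm (v : GolayPt → ℤ) = 32) (hw : sqNorm (w : GolayPt → ℤ) = 32)
    (hw' : sqNorm (w' : GolayPt → ℤ) = 32) (hd : dotInt (v : GolayPt → ℤ) w = -8)
    (hd' : dotInt (v : GolayPt → ℤ) w' = -8) : ∃ g : Co0, g • v = v ∧ g • w = w' :=
  trans_of_rel (a := 8) (fun A h1 h2 => rel8 (cl_iff.2 ⟨A.2, h1, h2⟩)) v w w' hv hw hw'
    (by exact_mod_cast hd) (by exact_mod_cast hd')

/-- Transitivity up to sign on the orthogonal minimal vectors. -/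
theorem trans0 (v w w' : L) (hv : sqNorm (v : GolayPt → ℤ) = 32) (hw : sqNorm (w : GolayPt → ℤ) = 32)
    (hw' : sqNorm (w' : GolayPt → ℤ) = 32) (hd : dotInt (v : GolayPt → ℤ) w = 0)
    (hd' : dotInt (v : GolayPt → ℤ) w' = 0) :
    ∃ g : Co0, g • v = v ∧ (g • w = w' ∨ g • w = -w') := by
  obtain ⟨t, ht⟩ := exists_to_ref v hv
  have key : ∀ u : L, sqNorm (u : GolayPt → ℤ) = 32 → dotInt (v : GolayPt → ℤ) u = 0 →
      Rel (PMG nV1) ((t • u : L) : GolayPt → ℤ) (dec root0) := by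
    intro u hu hdu
    apply rel0
    refine cl_iff.2 ⟨(t • u).2, by rw [sqNorm_smul, hu], ?_⟩
    have h1 := smul_dot t u v
    rw [ht] at h1
    have h2 : dotInt ((t • u : L) : GolayPt → ℤ) (dec nV1) = dotInt (u : GolayPt → ℤ) v := h1
    rw [h2, dotInt_comm, hdu]
    simp
  have h1 := (key w hw hd).trans (key w' hw' hd').symm
  obtain ⟨g, hg, hgw⟩ := rel_iff.1 h1
  rcases hg nV1_mem with hgv | hgv
  · have hgv' : g • vL = vL := hgv
    refine ⟨t⁻¹ * g * t, ?_, Or.inl ?_⟩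
    · rw [mul_smul, mul_smul, ht, hgv', ← ht, inv_smul_smul]
    · rw [mul_smul, mul_smul, inv_smul_eq_iff, hgw]
  · have hgv' : g • vL = -vL := hgv
    refine ⟨t⁻¹ * (negG * g) * t, ?_, Or.inr ?_⟩
    · rw [mul_smul, mul_smul, mul_smul, ht, hgv', negG_smul', neg_neg, ← ht, inv_smul_smul]
    · rw [mul_smul, mul_smul, mul_smul, inv_smul_eq_iff, hgw, negG_smul', Lat.smul_neg]

/-- Counts are invariant. -/
theorem ncard_conj (t : Co0) (v : L) (a : ℤ) :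
    {w : GolayPt → ℤ | w ∈ leechLattice ∧ sqNorm w = 32 ∧ dotInt (v : GolayPt → ℤ) w = a}.ncard =
      {w : GolayPt → ℤ | w ∈ leechLattice ∧ sqNorm w = 32 ∧
        dotInt ((t • v : L) : GolayPt → ℤ) w = a}.ncard := by
  refine Set.ncard_congr (fun w hw => ((t • (⟨w, hw.1⟩ : L) : L) : GolayPt → ℤ)) ?_ ?_ ?_
  · rintro w ⟨h1, h2, h3⟩
    refine ⟨(t • (⟨w, h1⟩ : L)).2, ?_, ?_⟩
    · show sqNorm ((t • (⟨w, h1⟩ : L) : L) : GolayPt → ℤ) = 32
      rw [sqNorm_smul]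
      exact h2
    · rw [smul_dot]
      exact h3
  · intro w w' hw hw' h
    have h1 := hw.1
    have h1' := hw'.1
    have : t • (⟨w, h1⟩ : L) = t • (⟨w', h1'⟩ : L) := Subtype.ext h
    have h2 := smul_left_cancel t this
    exact congrArg Subtype.val h2
  · rintro w ⟨h1, h2, h3⟩
    refine ⟨((t⁻¹ • (⟨w, h1⟩ : L) : L) : GolayPt → ℤ), ⟨(t⁻¹ • (⟨w, h1⟩ : L)).2, ?_, ?_⟩, ?_⟩
    · rw [sqNorm_smul]
      exact h2
    · have h4 := smul_dot t v (t⁻¹ • (⟨w, h1⟩ : L))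
      rw [smul_inv_smul] at h4
      rw [← h4]
      exact h3
    · show ((t • (⟨_, _⟩ : L) : L) : GolayPt → ℤ) = w
      have : t • (⟨((t⁻¹ • (⟨w, h1⟩ : L) : L) : GolayPt → ℤ), (t⁻¹ • (⟨w, h1⟩ : L)).2⟩ : L) =
          ⟨w, h1⟩ := smul_inv_smul t _
      exact congrArg Subtype.val this

theorem ncard_neg (v : GolayPt → ℤ) (a : ℤ) :
    {w : GolayPt → ℤ | w ∈ leechLattice ∧ sqNorm w = 32 ∧ dotInt v w = -a}.ncard =
      {w : GolayPt → ℤ | w ∈ leechLattice ∧ sqNorm w = 32 ∧ dotInt v w = a}.ncard := by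
  refine Set.ncard_congr (fun w _ => -w) ?_ ?_ ?_
  · rintro w ⟨h1, h2, h3⟩
    refine ⟨neg_mem h1, by rw [sqNorm_neg, h2], ?_⟩
    rw [dotInt_neg_right, h3, neg_neg]
  · intro w w' _ _ h
    exact neg_injective h
  · rintro w ⟨h1, h2, h3⟩
    refine ⟨-w, ⟨neg_mem h1, by rw [sqNorm_neg, h2], ?_⟩, neg_neg w⟩
    rw [dotInt_neg_right, h3]

theorem ncard_ref (a : ℕ) : {w : GolayPt → ℤ | w ∈ leechLattice ∧ sqNorm w = 32 ∧
    dotInt (vL : GolayPt → ℤ) w = a} = {w | Cl 32 [(nV1, a, 0)] w} := by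
  ext w
  simp only [Set.mem_setOf_eq]
  rw [cl_iff, dotInt_comm]
  rfl

/-- The census. -/
theorem census (v : GolayPt → ℤ) (hv : v ∈ leechLattice) (hvn : sqNorm v = 32) :
    {w : GolayPt → ℤ | w ∈ leechLattice ∧ sqNorm w = 32 ∧ dotInt v w = -16}.ncard = 4600 ∧
    {w : GolayPt → ℤ | w ∈ leechLattice ∧ sqNorm w = 32 ∧ dotInt v w = -8}.ncard = 47104 ∧
    {w : GolayPt → ℤ | w ∈ leechLattice ∧ sqNorm w = 32 ∧ dotInt v w = 0}.ncard = 93150 := by
  obtain ⟨t, ht⟩ := exists_to_ref ⟨v, hv⟩ hvn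
  have key : ∀ a : ℕ, {w : GolayPt → ℤ | w ∈ leechLattice ∧ sqNorm w = 32 ∧ dotInt v w = a}.ncard =
      {w | Cl 32 [(nV1, a, 0)] w}.ncard := by
    intro a
    have h1 := ncard_conj t ⟨v, hv⟩ a
    rw [ht, ncard_ref] at h1
    exact h1
  refine ⟨?_, ?_, ?_⟩
  · have h1 := ncard_neg v 16
    have h2 := key 16
    rw [ncard16] at h2
    exact h1.trans (by exact_mod_cast h2)
  · have h1 := ncard_neg v 8
    have h2 := key 8
    rw [ncard8] at h2
    exact h1.trans (by exact_mod_cast h2)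
  · have h2 := key 0
    rw [ncard0] at h2
    exact_mod_cast h2

end Cfsg.Agent.Lib.Leech.MinVec
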