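import Cfsg.Agent.Lib.Leech.Lat
import Cfsg.Agent.Lib.Golay.M24

/-!
# The monomial subgroup of `Co0`

Signed coordinate permutations with permutation part in `M24` and sign set a code word; their
characterisation as the stabiliser of the standard cross.
-/

set_option autoImplicit false

namespace Cfsg.Agent.Lib.Leech.Mon

open Cfsg Cfsg.Agent.Lib.Leech.Basic Cfsg.Agent.Lib.Leech.Even Cfsg.Agent.Lib.Leech.Lat
open scoped Pointwise

/-- The supports of the code, abbreviated. -/
abbrev Sup : Set (Finset GolayPt) := supports (golayCode : Set (GolayPt → ZMod 2))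

theorem signedPerm_apply (σ : Equiv.Perm GolayPt) (c : Finset GolayPt) (x : GolayPt → ℤ)
    (i : GolayPt) : signedPerm σ c x i = if i ∈ c then -x (σ.symm i) else x (σ.symm i) := rfl

theorem signedPerm_mem {σ : Equiv.Perm GolayPt} (hσ : σ ∈ M24) {c : Finset GolayPt} (hc : c ∈ Sup)
    {x : GolayPt → ℤ} (hx : x ∈ leechLattice) : signedPerm σ c x ∈ leechLattice :=
  sign_change_mem hc _ (perm_mem (M24.inv_mem hσ) x hx)

theorem sqNorm_signedPerm (σ : Equiv.Perm GolayPt) (c : Finset GolayPt) (x : GolayPt → ℤ) :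
    sqNorm (signedPerm σ c x) = sqNorm x := by
  unfold sqNorm
  rw [← Equiv.sum_comp σ.symm (fun i => x i ^ 2)]
  refine Finset.sum_congr rfl fun i _ => ?_
  rw [signedPerm_apply]
  split_ifs <;> ring

theorem signedPerm_add (σ : Equiv.Perm GolayPt) (c : Finset GolayPt) (x y : GolayPt → ℤ) :
    signedPerm σ c (x + y) = signedPerm σ c x + signedPerm σ c y := by
  funext i
  simp only [Pi.add_apply, signedPerm_apply]
  split_ifs <;> ring

theorem signedPerm_inv (σ : Equiv.Perm GolayPt) (c : Finset GolayPt) (x : GolayPt → ℤ) :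
    signedPerm σ⁻¹ (σ⁻¹ • c) (signedPerm σ c x) = x := by
  funext i
  simp only [signedPerm_apply, Finset.mem_inv_smul_finset_iff]
  have h1 : (σ⁻¹).symm i = σ i := rfl
  have h2 : σ • i = σ i := rfl
  rw [h1, h2]
  simp only [Equiv.symm_apply_apply]
  split_ifs <;> simp

theorem signedPerm_inv' (σ : Equiv.Perm GolayPt) (c : Finset GolayPt) (x : GolayPt → ℤ) :
    signedPerm σ c (signedPerm σ⁻¹ (σ⁻¹ • c) x) = x := by
  funext i
  simp only [signedPerm_apply, Finset.mem_inv_smul_finset_iff]
  have h1 : (σ⁻¹).symm (σ.symm i) = i := by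
    show σ (σ.symm i) = i
    simp
  have h2 : σ • (σ.symm i) = i := by
    show σ (σ.symm i) = i
    simp
  rw [h1, h2]
  split_ifs <;> simp

theorem inv_smul_mem_Sup {σ : Equiv.Perm GolayPt} (hσ : σ ∈ M24) {c : Finset GolayPt}
    (hc : c ∈ Sup) : σ⁻¹ • c ∈ Sup :=
  perm_mem_supports (M24.inv_mem hσ) hc

/-- The element of `Co0` given by a signed permutation. -/
def monG (σ : Equiv.Perm GolayPt) (hσ : σ ∈ M24) (c : Finset GolayPt) (hc : c ∈ Sup) : Co0 :=
  mkCo0 (signedPerm σ c) (signedPerm σ⁻¹ (σ⁻¹ • c))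
    (fun _ h => signedPerm_mem hσ hc h)
    (fun _ h => signedPerm_mem (M24.inv_mem hσ) (inv_smul_mem_Sup hσ hc) h)
    (fun x _ => signedPerm_inv σ c x) (fun x _ => signedPerm_inv' σ c x)
    (fun x _ y _ => signedPerm_add σ c x y) (fun x _ => sqNorm_signedPerm σ c x)

@[simp] theorem monG_smul (σ : Equiv.Perm GolayPt) (hσ : σ ∈ M24) (c : Finset GolayPt)
    (hc : c ∈ Sup) (v : L) :
    ((monG σ hσ c hc • v : L) : GolayPt → ℤ) = signedPerm σ c v := rfl

/-! ### The standard cross -/

/-- The basis vector `8 e_i`, as a vector. -/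
def e8 (i : GolayPt) : GolayPt → ℤ := Pi.single i 8

theorem e8_mem (i : GolayPt) : e8 i ∈ leechLattice := by
  rw [mem_leechLattice_iff, mem_leechSet_iff]
  refine ⟨0, ?_, ?_, ?_⟩
  · intro j
    unfold e8 Pi.single Function.update
    split_ifs with h
    · simp [Int.ModEq]
    · simp [Int.ModEq]
  · have h : ∑ j, e8 i j = 8 := by
      simp [e8]
    rw [h]
    decide
  · have : digitWord (e8 i) = 0 := by
      funext j
      unfold digitWord bit1 e8 Pi.single Function.update
      split_ifs with h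
      · norm_num
        decide
      · simp
    rw [this]
    exact Submodule.zero_mem _

/-- Lattice vector `8 e_i`. -/
def e8L (i : GolayPt) : L := ⟨e8 i, e8_mem i⟩

theorem stdCross_iff {y : GolayPt → ℤ} :
    y ∈ stdCross ↔ ∃ (i : GolayPt) (s : ℤ), (s = 8 ∨ s = -8) ∧ y = Pi.single i s := Iff.rfl

theorem e8_mem_stdCross (i : GolayPt) : e8 i ∈ stdCross := ⟨i, 8, Or.inl rfl, rfl⟩

/-- Every lattice vector is a combination of the vectors `8 e_i`, rationally. -/
theorem eight_nsmul_eq_sum (v : L) :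
    (8 : ℤ) • v = ∑ i, (v.1 i) • e8L i := by
  apply Subtype.ext
  funext j
  have h : ((∑ i, (v.1 i) • e8L i : L) : GolayPt → ℤ) j = ∑ i, (v.1 i) * (e8 i j) := by
    rw [AddSubgroup.val_finset_sum, Finset.sum_apply]
    rfl
  rw [h]
  have h2 : ∀ i, (v.1 i) * (e8 i j) = if i = j then v.1 i * 8 else 0 := by
    intro i
    unfold e8 Pi.single Function.update
    by_cases hij : i = j
    · subst hij; simp
    · have : ¬ j = i := fun h => hij h.symm
      simp [hij, this]
  rw [Finset.sum_congr rfl fun i _ => h2 i]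
  rw [Finset.sum_ite_eq' Finset.univ j]
  simp only [Finset.mem_univ, if_true]
  show (8 : ℤ) • v.1 j = _
  rw [smul_eq_mul]
  ring

/-- An automorphism preserving the standard cross. -/
def PresCross (g : Co0) : Prop :=
  ∀ v : L, (v : GolayPt → ℤ) ∈ stdCross → ((g • v : L) : GolayPt → ℤ) ∈ stdCross

theorem single_ne_neg {i j : GolayPt} {a b : ℤ} (ha : a ≠ 0)
    (h : (Pi.single i a : GolayPt → ℤ) = Pi.single j b) : i = j ∧ a = b := by
  have h1 := congrFun h i
  simp only [Pi.single_eq_same] at h1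
  by_cases hij : i = j
  · subst hij
    simpa using h1
  · rw [Pi.single_eq_of_ne hij] at h1
    exact absurd h1 ha

/-- A cross preserving automorphism is monomial: the data. -/
theorem exists_signed {g : Co0} (hg : PresCross g) :
    ∃ (σ : Equiv.Perm GolayPt) (d : Finset GolayPt), ∀ v : L,
      ((g • v : L) : GolayPt → ℤ) = signedPerm σ d v := by
  have h0 : ∀ i, ∃ (j : GolayPt) (s : ℤ), (s = 8 ∨ s = -8) ∧
      ((g • e8L i : L) : GolayPt → ℤ) = Pi.single j s := fun i => hg _ (e8_mem_stdCross i)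
  choose τ s hs hτ using h0
  have hinj : Function.Injective τ := by
    intro i j hij
    by_contra hne
    have h1 : s i = s j ∨ s i = - s j := by
      rcases hs i with h | h <;> rcases hs j with h' | h' <;> rw [h, h'] <;> norm_num
    have h2 : g • e8L i = g • e8L j ∨ g • e8L i = g • (- e8L j) := by
      rcases h1 with h1 | h1
      · left
        apply Subtype.ext
        rw [hτ, hτ, hij, h1]
      · right
        rw [smul_neg]
        apply Subtype.ext
        show _ = - ((g • e8L j : L) : GolayPt → ℤ)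
        rw [hτ, hτ, hij, h1, Pi.single_neg]
    have h3 : e8L i = e8L j ∨ e8L i = - e8L j := by
      rcases h2 with h2 | h2
      · exact Or.inl ((g : Equiv.Perm L).injective h2)
      · exact Or.inr ((g : Equiv.Perm L).injective h2)
    have h4 : e8 i i = 8 := by simp [e8]
    have h5 : e8 j i = 0 := by
      unfold e8
      exact Pi.single_eq_of_ne hne 8
    rcases h3 with h3 | h3
    · have := congrFun (congrArg Subtype.val h3) i
      change e8 i i = e8 j i at this
      rw [h4, h5] at this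
      norm_num at this
    · have := congrFun (congrArg Subtype.val h3) i
      change e8 i i = - e8 j i at this
      rw [h4, h5] at this
      norm_num at this
  let σ : Equiv.Perm GolayPt := Equiv.ofBijective τ (Finite.injective_iff_bijective.1 hinj)
  have hσ : ∀ i, σ i = τ i := fun _ => rfl
  refine ⟨σ, Finset.univ.filter (fun j => s (σ.symm j) = -8), fun v => ?_⟩
  funext j
  have h1 := eight_nsmul_eq_sum v
  have h2 : (8 : ℤ) • (g • v) = ∑ i, (v.1 i) • (g • e8L i) := by
    rw [← smul_zsmul, h1]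
    have := map_sum (toHom g) (fun i => (v.1 i) • e8L i) Finset.univ
    simp only [toHom_apply, smul_zsmul] at this
    exact this
  have h3 := congrFun (congrArg Subtype.val h2) j
  have h4 : ((∑ i, (v.1 i) • (g • e8L i) : L) : GolayPt → ℤ) j =
      ∑ i, (v.1 i) * ((g • e8L i : L) : GolayPt → ℤ) j := by
    rw [AddSubgroup.val_finset_sum, Finset.sum_apply]
    rfl
  rw [h4] at h3
  have h5 : ∀ i, (v.1 i) * ((g • e8L i : L) : GolayPt → ℤ) j =
      if i = σ.symm j then v.1 (σ.symm j) * s (σ.symm j) else 0 := by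
    intro i
    rw [hτ i]
    by_cases hi : i = σ.symm j
    · subst hi
      rw [if_pos rfl, ← hσ, Equiv.apply_symm_apply, Pi.single_eq_same]
    · rw [if_neg hi]
      have : j ≠ τ i := by
        intro hh
        apply hi
        rw [hh, ← hσ, Equiv.symm_apply_apply]
      rw [Pi.single_eq_of_ne this, mul_zero]
  rw [Finset.sum_congr rfl fun i _ => h5 i, Finset.sum_ite_eq' Finset.univ (σ.symm j)] at h3
  simp only [Finset.mem_univ, if_true] at h3
  have h6 : ((8 : ℤ) • (g • v) : L).1 j = 8 * ((g • v : L) : GolayPt → ℤ) j := rfl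
  rw [h6] at h3
  rw [signedPerm_apply]
  simp only [Finset.mem_filter, Finset.mem_univ, true_and]
  rcases hs (σ.symm j) with h7 | h7
  · rw [h7] at h3
    rw [if_neg (by rw [h7]; norm_num)]
    linarith
  · rw [h7] at h3
    rw [if_pos h7]
    linarith

/-- The bit of `2` etc. -/
theorem digit_signed_two (a : ℤ) (h : a = 2 ∨ a = -2) : bit1 a = 1 := by
  rcases h with rfl | rfl <;> rfl

theorem one_ne_zero' : (1 : ZMod 2) ≠ 0 := by decide

theorem mem_Sup_of_word {w : GolayPt → ZMod 2} (hw : w ∈ golayCode) {s : Finset GolayPt}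
    (h : ∀ j, j ∈ s ↔ w j ≠ 0) : s ∈ Sup := by
  refine ⟨w, hw, ?_⟩
  ext j
  simp [support₂, h]

theorem signed_of_mem_Sup {σ : Equiv.Perm GolayPt} {d : Finset GolayPt}
    (H : ∀ x ∈ leechLattice, signedPerm σ d x ∈ leechLattice) : σ ∈ M24 ∧ d ∈ Sup := by
  constructor
  · apply Cfsg.Agent.Lib.Golay.Perm.mem_M24_of_subset
    intro x hx
    have h1 := H _ (twice_mem hx)
    rw [mem_leechLattice_iff, mem_leechSet_iff] at h1
    obtain ⟨m, -, -, hw⟩ := h1
    apply mem_Sup_of_word hw
    intro j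
    rw [Finset.mem_smul_finset]
    simp only [digitWord, signedPerm_apply, twice]
    constructor
    · rintro ⟨i, hi, rfl⟩
      have : σ.symm (σ • i) = i := by
        show σ.symm (σ i) = i
        simp
      rw [this, if_pos hi]
      split_ifs
      · rw [digit_signed_two _ (Or.inr rfl)]; exact one_ne_zero'
      · rw [digit_signed_two _ (Or.inl rfl)]; exact one_ne_zero'
    · intro h
      by_contra hcon
      have h2 : σ.symm j ∉ x := by
        intro h3
        apply hcon
        refine ⟨σ.symm j, h3, ?_⟩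
        show σ (σ.symm j) = j
        simp
      rw [if_neg h2] at h
      apply h
      split_ifs <;> rfl
  · have h1 := H _ (Spor.vecV_mem_leechSet |> AddSubgroup.subset_closure)
    rw [mem_leechLattice_iff, mem_leechSet_iff] at h1
    obtain ⟨m, -, -, hw⟩ := h1
    have h2 : (1 : GolayPt → ZMod 2) + digitWord (signedPerm σ d Spor.vecV) ∈ golayCode :=
      Submodule.add_mem _ one_mem hw
    apply mem_Sup_of_word h2
    intro j
    simp only [digitWord, signedPerm_apply, Spor.vecV, Pi.add_apply, Pi.one_apply]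
    by_cases hj : j ∈ d
    · rw [if_pos hj]
      split_ifs
      · simp only [hj, true_iff]; decide
      · simp only [hj, true_iff]; decide
    · rw [if_neg hj]
      split_ifs
      · simp only [hj, false_iff, ne_eq, not_not]; decide
      · simp only [hj, false_iff, ne_eq, not_not]; decide

/-- Cross preserving automorphisms are the monomial ones. -/
theorem presCross_eq_monG {g : Co0} (hg : PresCross g) :
    ∃ (σ : Equiv.Perm GolayPt) (hσ : σ ∈ M24) (d : Finset GolayPt) (hd : d ∈ Sup),
      g = monG σ hσ d hd := by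
  obtain ⟨σ, d, h⟩ := exists_signed hg
  have H : ∀ x ∈ leechLattice, signedPerm σ d x ∈ leechLattice := by
    intro x hx
    rw [← h ⟨x, hx⟩]
    exact (g • (⟨x, hx⟩ : L)).2
  obtain ⟨hσ, hd⟩ := signed_of_mem_Sup H
  refine ⟨σ, hσ, d, hd, ext_smul fun v => Subtype.ext ?_⟩
  rw [h, monG_smul]

theorem signedPerm_single (σ : Equiv.Perm GolayPt) (c : Finset GolayPt) (i : GolayPt) (a : ℤ) :
    signedPerm σ c (Pi.single i a) = Pi.single (σ i) (if σ i ∈ c then -a else a) := by
  funext j
  rw [signedPerm_apply]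
  by_cases hj : j = σ i
  · subst hj
    simp only [Equiv.symm_apply_apply, Pi.single_eq_same]
  · have h1 : σ.symm j ≠ i := by
      intro h
      apply hj
      rw [← h]
      simp
    rw [Pi.single_eq_of_ne h1, Pi.single_eq_of_ne hj]
    simp

theorem monG_presCross (σ : Equiv.Perm GolayPt) (hσ : σ ∈ M24) (d : Finset GolayPt)
    (hd : d ∈ Sup) : PresCross (monG σ hσ d hd) := by
  rintro v ⟨i, s, hs, hv⟩
  rw [monG_smul, hv, signedPerm_single]
  refine ⟨σ i, _, ?_, rfl⟩
  split_ifs <;> rcases hs with rfl | rfl <;> norm_num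

theorem monG_inj {σ σ' : Equiv.Perm GolayPt} {hσ : σ ∈ M24} {hσ' : σ' ∈ M24}
    {d d' : Finset GolayPt} {hd : d ∈ Sup} {hd' : d' ∈ Sup}
    (h : monG σ hσ d hd = monG σ' hσ' d' hd') : σ = σ' ∧ d = d' := by
  have h1 : ∀ i, signedPerm σ d (e8 i) = signedPerm σ' d' (e8 i) := by
    intro i
    have := congrArg (fun g : Co0 => ((g • e8L i : L) : GolayPt → ℤ)) h
    exact this
  have h2 : ∀ i, σ i = σ' i ∧ (σ i ∈ d ↔ σ' i ∈ d') := by
    intro i
    have h3 := h1 i
    unfold e8 at h3
    rw [signedPerm_single, signedPerm_single] at h3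
    have h4 := single_ne_neg (by split_ifs <;> norm_num) h3
    refine ⟨h4.1, ?_⟩
    have h5 := h4.2
    by_cases h6 : σ i ∈ d <;> by_cases h7 : σ' i ∈ d' <;> simp [h6, h7] at h5 ⊢
  have hσσ : σ = σ' := Equiv.ext fun i => (h2 i).1
  refine ⟨hσσ, ?_⟩
  subst hσσ
  ext j
  have := (h2 (σ.symm j)).2
  simpa using this

theorem card_code_supports : Nat.card Sup = 4096 := by
  have h : Sup = (fun m => Cfsg.Agent.Lib.Golay.Core.setOf (Cfsg.Agent.Lib.Golay.Core.code m)) ''
      (Finset.range 4096 : Set ℕ) := by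
    ext s
    rw [Cfsg.Agent.Lib.Golay.Core.mem_supports_iff']
    simp only [Set.mem_image, Finset.coe_range, Set.mem_Iio]
    constructor
    · rintro ⟨m, hm, rfl⟩
      exact ⟨m, hm, rfl⟩
    · rintro ⟨m, hm, rfl⟩
      exact ⟨m, hm, rfl⟩
  rw [Nat.card_coe_set_eq, h, Set.ncard_image_of_injOn]
  · simp
  · intro a ha b hb hab
    simp only [Finset.coe_range, Set.mem_Iio] at ha hb
    exact Cfsg.Agent.Lib.Golay.Core.code_injOn ha hb
      ((Cfsg.Agent.Lib.Golay.Core.setOf_injOn (Cfsg.Agent.Lib.Golay.Core.code_lt ha)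
        (Cfsg.Agent.Lib.Golay.Core.code_lt hb)).1 hab)

/-- The monomial group has order `4096 |M24|`. -/
theorem card_presCross : Nat.card {g : Co0 // PresCross g} = 4096 * 244823040 := by
  have hM : Nat.card M24 = 244823040 := Cfsg.Agent.Lib.Golay.M24.card_M24
  rw [← card_code_supports, ← hM, mul_comm, ← Nat.card_prod]
  symm
  refine Nat.card_congr (Equiv.ofBijective
    (fun p : M24 × Sup => (⟨monG p.1.1 p.1.2 p.2.1 p.2.2, monG_presCross _ _ _ _⟩ :
      {g : Co0 // PresCross g})) ⟨?_, ?_⟩)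
  · rintro ⟨⟨σ, hσ⟩, ⟨d, hd⟩⟩ ⟨⟨σ', hσ'⟩, ⟨d', hd'⟩⟩ h
    have h0 : monG σ hσ d hd = monG σ' hσ' d' hd' := congrArg Subtype.val h
    obtain ⟨rfl, rfl⟩ := monG_inj h0
    rfl
  · rintro ⟨g, hg⟩
    obtain ⟨σ, hσ, d, hd, rfl⟩ := presCross_eq_monG hg
    exact ⟨(⟨σ, hσ⟩, ⟨d, hd⟩), rfl⟩

end Cfsg.Agent.Lib.Leech.Mon
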