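import Cfsg.Agent.Lib.Leech.NFBase
import Cfsg.Agent.Lib.Leech.Count

/-!
# Normal forms of short vectors under the monomial group

Every lattice vector of norm 32, 48 or 64 is moved by the monomial group to one vector of an
explicit list.
-/

set_option autoImplicit false

namespace Cfsg.Agent.Lib.Leech.NF

open Cfsg Cfsg.Agent.Lib.Golay.Core Cfsg.Agent.Lib.Golay.Perm Cfsg.Agent.Lib.Golay.Basic
  Cfsg.Agent.Lib.Golay.Stab Cfsg.Agent.Lib.Golay.M24 Cfsg.Agent.Lib.Golay.Dodecad
  Cfsg.Agent.Lib.Leech.Basic Cfsg.Agent.Lib.Leech.Even Cfsg.Agent.Lib.Leech.Lat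
  Cfsg.Agent.Lib.Leech.Mon Cfsg.Agent.Lib.Leech.Packed Cfsg.Agent.Lib.Leech.Vec
  Cfsg.Agent.Lib.Leech.Reach Cfsg.Agent.Lib.Leech.NFBase Cfsg.Agent.Lib.Leech.Count
open scoped Pointwise

/-! ### Tables -/

/-- The representative `A32`. -/
def nA32 : ℕ := 852206658587909773353650494292640276

/-- The representative `B32`. -/
def nB32 : ℕ := 769129908928726144935740255096097362

/-- The representative `C32`. -/
def nC32 : ℕ := 562777982086355510705240892457403953

/-- The representative `A48`. -/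
def nA48 : ℕ := 895084981032584478931192657527490097

/-- The representative `B48`. -/
def nB48 : ℕ := 562777982086355510705240892457403821

/-- The representative `C48`. -/
def nC48 : ℕ := 602976409455611660822764372565248594

/-- The representative `D48`. -/
def nD48 : ℕ := 769129908851430452650045550019299922

/-- The representative `A64`. -/
def nA64 : ℕ := 1018360158061024257466626376827683344

/-- The representative `B64`. -/
def nB64 : ℕ := 852206658587909773353650494292644500

/-- The representative `C64`. -/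
def nC64 : ℕ := 935283408401840629048716137631140430

/-- The representative `Da64`. -/
def nDa64 : ℕ := 688733054190213844700693294888796688

/-- The representative `Db64`. -/
def nDb64 : ℕ := 688733054190213844700693290589635088

/-- The representative `E64`. -/
def nE64 : ℕ := 769129908928726144935740259395258962

/-- The representative `F64`. -/
def nF64 : ℕ := 769129908851430452650045550023494222

/-- The representative `G64`. -/
def nG64 : ℕ := 562777982086355510705240892457268653

/-- The representative `H64`. -/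
def nH64 : ℕ := 895084981032584478931192657527489965

/-- Elements preserving the octad, transitive on the complement. -/
def TOut : List ℕ := [970524062734797874744284441789630469, 966067272645452653259550826818601411, 95184405102734735920935433658359329, 140860871372213259506960938580350496, 598752353734259946236635121811751650, 979373211768078450580581256968339921, 151213389840405751295220108120591077, 50202121182863349778554442104289285, 153969132839340109519508329701915173, 139276121589155158983476263700674737, 12155081601432008761778231676319841, 222887722028691338727026700125832642, 91619619268385237412070346418296279, 70750575258206969843559385845128290, 19644274351597441721936839142643255, 130627215168994880884754587946796069]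

/-- Elements preserving the octad, transitive on the octad. -/
def TIn : List ℕ := [98018040488320644879574280940489911, 587062093055616868222572382842817248, 595300297974522093194039789290576933, 220232353025460706161498916756636750, 9457554990524592927906193258005541, 13639104868314857006753588328826990, 135514562405388081159798950984190126, 967968697125361884381335319098800289]

/-- Elements preserving the octad and a point of the complement. -/
def TOut2 : List ℕ := [603087596854692734133816083345380465, 17781982089581300492704406873150914, 227538750313920376943704908155172898, 231734584658153155196691505859268033, 56616619493578700413273195661527511, 602682469455749379631169112371184672, 136718275180765861054692267474893367, 732994098584002965108524219738691299, 97895922175033570659822891390515937, 596110536687410833626323342573342241, 967409662628092658439291451302413475, 153475983325820251454721953663861847, 144987073277029316009866973520902885, 972524573494890643419548118139045998,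 963555650714033946967463564885300288]

/-- Elements preserving the dodecad, transitive on the complement. -/
def TDq : List ℕ := [153844074459998206828747362511815991, 648165782705471998033973632872581175, 387543137744368046133957331596321506, 647964301683451384365125166242759875, 273381149191939527603681164142255212, 14819655773413331742586631204483815, 14995837588738032502630986631548134, 984602647223042874991845635937207375, 599108334276400043226641259896216687, 356367542579251304347598302650761441, 650512189841181267701073841259488647, 130023736149057113264023653539972489]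

/-- Witnesses: `(q, a, q', m)`. -/
def TW : List (ℕ × ℕ × ℕ × ℕ) :=
  [(4, 4, 4, 0), (4, 6, 6, 0), (4, 7, 7, 0), (4, 8, 8, 0), (4, 9, 9, 0), (4, 10, 10, 0), (4, 11, 11, 0), (4, 12, 12, 0), (4, 13, 13, 0), (4, 15, 15, 0), (4, 16, 16, 0), (4, 18, 18, 0), (4, 19, 19, 0), (4, 20, 20, 0), (4, 21, 21, 0), (4, 22, 22, 0), (6, 4, 6, 0), (6, 6, 4, 0), (6, 7, 22, 217), (6, 8, 20, 343), (6, 9, 12, 595), (6, 10, 11, 3162), (6, 11, 10, 3162), (6, 12, 9, 595), (6, 13, 19, 93), (6, 15, 18, 94), (6, 16, 21, 84), (6, 18, 15, 94), (6, 19, 13, 93), (6, 20, 8, 343), (6, 21, 16, 84), (6, 22, 7, 217), (7, 4, 7, 0), (7, 6, 22, 217), (7, 7, 4, 0), (7, 8, 15, 412), (7, 9, 11, 2710), (7, 10, 12, 1183), (7, 11, 9, 2710), (7, 12, 10, 1183), (7, 13, 21, 154), (7, 15, 8, 412), (7, 16, 19, 147), (7, 18, 20, 149), (7, 19, 16, 147), (7, 20, 18, 149), (7, 21, 13, 154), (7, 22, 6, 217), (8, 4, 8, 0), (8, 6, 20, 343), (8, 7, 15, 412), (8, 8, 4, 0), (8, 9, 21, 797), (8, 10, 19, 1302), (8, 11, 13, 2321), (8, 12,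 16, 282), (8, 13, 11, 2321), (8, 15, 7, 412), (8, 16, 12, 282), (8, 18, 22, 283), (8, 19, 10, 1302), (8, 20, 6, 343), (8, 21, 9, 797), (8, 22, 18, 283), (9, 4, 9, 0), (9, 6, 12, 595), (9, 7, 11, 2710), (9, 8, 21, 797), (9, 9, 4, 0), (9, 10, 22, 1557), (9, 11, 7, 2710), (9, 12, 6, 595), (9, 13, 15, 539), (9, 15, 13, 539), (9, 16, 20, 542), (9, 18, 19, 536), (9, 19, 18, 536), (9, 20, 16, 542), (9, 21, 8, 797), (9, 22, 10, 1557), (10, 4, 10, 0), (10, 6, 11, 3162), (10, 7, 12, 1183), (10, 8, 19, 1302), (10, 9, 22, 1557), (10, 10, 4, 0), (10, 11, 6, 3162), (10, 12, 7, 1183), (10, 13, 20, 1052), (10, 15, 16, 1049), (10, 16, 15, 1049), (10, 18, 21, 1043), (10, 19, 8, 1302), (10, 20, 13, 1052), (10, 21, 18, 1043), (10, 22, 9, 1557), (11, 4, 11, 0), (11, 6, 10, 3162), (11, 7, 9, 2710), (11, 8, 13, 2321), (11, 9, 7, 2710), (11, 10, 6, 3162), (11, 11, 4, 0), (11, 12, 22, 2076), (11, 13, 8, 2321), (11, 15, 21, 2071), (11, 16, 18, 2077), (11, 18, 16, 2077), (11, 19, 20, 2075), (11, 20, 19,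 2075), (11, 21, 15, 2071), (11, 22, 12, 2076), (12, 4, 12, 0), (12, 6, 9, 595), (12, 7, 10, 1183), (12, 8, 16, 282), (12, 9, 6, 595), (12, 10, 7, 1183), (12, 11, 22, 2076), (12, 12, 4, 0), (12, 13, 18, 22), (12, 15, 19, 21), (12, 16, 8, 282), (12, 18, 13, 22), (12, 19, 15, 21), (12, 20, 21, 25), (12, 21, 20, 25), (12, 22, 11, 2076), (13, 4, 13, 0), (13, 6, 19, 93), (13, 7, 21, 154), (13, 8, 11, 2321), (13, 9, 15, 539), (13, 10, 20, 1052), (13, 11, 8, 2321), (13, 12, 18, 22), (13, 13, 4, 0), (13, 15, 9, 539), (13, 16, 22, 23), (13, 18, 12, 22), (13, 19, 6, 93), (13, 20, 10, 1052), (13, 21, 7, 154), (13, 22, 16, 23), (15, 4, 15, 0), (15, 6, 18, 94), (15, 7, 8, 412), (15, 8, 7, 412), (15, 9, 13, 539), (15, 10, 16, 1049), (15, 11, 21, 2071), (15, 12, 19, 21), (15, 13, 9, 539), (15, 15, 4, 0), (15, 16, 10, 1049), (15, 18, 6, 94), (15, 19, 12, 21), (15, 20, 22, 18), (15, 21, 11, 2071), (15, 22, 20, 18), (16, 4, 16, 0), (16, 6, 21, 84), (16, 7, 19, 147), (16, 8, 12, 282), (16, 9, 20,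 542), (16, 10, 15, 1049), (16, 11, 18, 2077), (16, 12, 8, 282), (16, 13, 22, 23), (16, 15, 10, 1049), (16, 16, 4, 0), (16, 18, 11, 2077), (16, 19, 7, 147), (16, 20, 9, 542), (16, 21, 6, 84), (16, 22, 13, 23), (18, 4, 18, 0), (18, 6, 15, 94), (18, 7, 20, 149), (18, 8, 22, 283), (18, 9, 19, 536), (18, 10, 21, 1043), (18, 11, 16, 2077), (18, 12, 13, 22), (18, 13, 12, 22), (18, 15, 6, 94), (18, 16, 11, 2077), (18, 18, 4, 0), (18, 19, 9, 536), (18, 20, 7, 149), (18, 21, 10, 1043), (18, 22, 8, 283), (19, 4, 19, 0), (19, 6, 13, 93), (19, 7, 16, 147), (19, 8, 10, 1302), (19, 9, 18, 536), (19, 10, 8, 1302), (19, 11, 20, 2075), (19, 12, 15, 21), (19, 13, 6, 93), (19, 15, 12, 21), (19, 16, 7, 147), (19, 18, 9, 536), (19, 19, 4, 0), (19, 20, 11, 2075), (19, 21, 22, 30), (19, 22, 21, 30), (20, 4, 20, 0), (20, 6, 8, 343), (20, 7, 18, 149), (20, 8, 6, 343), (20, 9, 16, 542), (20, 10, 13, 1052), (20, 11, 19, 2075), (20, 12, 21, 25), (20, 13, 10, 1052), (20, 15, 22, 18), (20, 16, 9, 542), (20,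 18, 7, 149), (20, 19, 11, 2075), (20, 20, 4, 0), (20, 21, 12, 25), (20, 22, 15, 18), (21, 4, 21, 0), (21, 6, 16, 84), (21, 7, 13, 154), (21, 8, 9, 797), (21, 9, 8, 797), (21, 10, 18, 1043), (21, 11, 15, 2071), (21, 12, 20, 25), (21, 13, 7, 154), (21, 15, 11, 2071), (21, 16, 6, 84), (21, 18, 10, 1043), (21, 19, 22, 30), (21, 20, 12, 25), (21, 21, 4, 0), (21, 22, 19, 30), (22, 4, 22, 0), (22, 6, 7, 217), (22, 7, 6, 217), (22, 8, 18, 283), (22, 9, 10, 1557), (22, 10, 9, 1557), (22, 11, 12, 2076), (22, 12, 11, 2076), (22, 13, 16, 23), (22, 15, 20, 18), (22, 16, 13, 23), (22, 18, 8, 283), (22, 19, 21, 30), (22, 20, 15, 18), (22, 21, 19, 30), (22, 22, 4, 0)]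

/-- Sign patterns on the complement of the octad: `(q, packed vector, element)`. -/
def TQ : List (ℕ × ℕ × ℕ) :=
  [(6, 688733054190213844700693290589635088, 603087596854692734133816083345380465), (7, 688733054190213844700693157445648912, 17781982089581300492704406873150914), (8, 688733054190213844700688896838091280, 227538750313920376943704908155172898), (9, 688733054190213844700552557396247056, 231734584658153155196691505859268033), (10, 688733054190213844696189695257231888, 56616619493578700413273195661527511), (11, 688733054190213844556578106808746512, 602682469455749379631169112371184672), (12, 688733054190213840089007276457214480, 136718275180765861054692267474893367), (13, 688733054190213697126740705208189456, 732994098584002965108524219738691299), (15, 688733054190062728973241466237764112, 97895922175033570659822891390515937), (16, 688733054185378141422234778185777680, 596110536687410833626323342573342241), (18, 688733049238453687559172195288105488, 967409662628092658439291451302413475),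 (19, 688732895733888816172018107796701712, 153475983325820251454721953663861847), (20, 688727983587812931783087308071780880, 144987073277029316009866973520902885), (21, 688570794913384631337301716874314256, 972524573494890643419548118139045998), (22, 683540757331679017072162798555382288, 963555650714033946967463564885300288)]

/-! ### Moving subsets -/

theorem exists_move_set {S T : Finset GolayPt} (h : S.card = T.card) (h5 : S.card ≤ 5) :
    ∃ σ ∈ M24, σ • S = T := by
  obtain ⟨σ, hσ, hs⟩ := exists_map_tuple h5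
    (S.equivFin.symm.toEmbedding.trans (Function.Embedding.subtype _))
    ((finCongr h).toEmbedding.trans (T.equivFin.symm.toEmbedding.trans (Function.Embedding.subtype _)))
  refine ⟨σ, hσ, ?_⟩
  apply Finset.eq_of_subset_of_card_le
  · intro y hy
    obtain ⟨z, hz, rfl⟩ := Finset.mem_smul_finset.1 hy
    have h1 := hs (S.equivFin ⟨z, hz⟩)
    simp only [Function.Embedding.trans_apply, Equiv.coe_toEmbedding, Equiv.symm_apply_apply,
      Function.Embedding.subtype_apply] at h1
    show σ z ∈ T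
    rw [h1]
    exact Subtype.coe_prop _
  · rw [Finset.card_smul_finset, h]

theorem move_octad {o : Finset GolayPt} (ho : o ∈ octads) : ∃ σ ∈ M24, σ • o = setOf O0 := by
  obtain ⟨τ, hτ, rfl⟩ := exists_smul_O0 ho
  exact ⟨τ⁻¹, M24.inv_mem hτ, inv_smul_smul _ _⟩

theorem move_dodecad {o : Finset GolayPt} (ho : o ∈ dodecads) : ∃ σ ∈ M24, σ • o = setOf d0 := by
  obtain ⟨τ, hτ, rfl⟩ := exists_smul_d0 ho
  exact ⟨τ⁻¹, M24.inv_mem hτ, inv_smul_smul _ _⟩

/-- Composing with an element of a table preserving a mask. -/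
theorem move_tab {A : ℕ} {o : Finset GolayPt} {σ : Equiv.Perm GolayPt} (hσ : σ ∈ M24)
    (h : σ • o = setOf A) {P : ℕ} (h1 : checkAut P = true) (h2 : mapMask P A = A) :
    g P * σ ∈ M24 ∧ (g P * σ) • o = setOf A := by
  refine ⟨M24.mul_mem (g_mem_M24 h1) hσ, ?_⟩
  rw [mul_smul, h, smul_setOf (checkAut_valid h1), h2]

theorem TOut_ok : ∀ P ∈ TOut, checkAut P = true ∧ mapMask P O0 = O0 := by decide +kernel
theorem TOut_cover : ∀ k < 24, O0.testBit k = false → ∃ P ∈ TOut, img P k = 4 := by decide +kernel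
theorem TIn_ok : ∀ P ∈ TIn, checkAut P = true ∧ mapMask P O0 = O0 := by decide +kernel
theorem TIn_cover : ∀ k < 24, O0.testBit k = true → ∃ P ∈ TIn, img P k = 23 := by decide +kernel
theorem TOut2_ok : ∀ P ∈ TOut2, checkAut P = true ∧ mapMask P O0 = O0 ∧ img P 4 = 4 := by
  decide +kernel
theorem TOut2_cover : ∀ k < 24, O0.testBit k = false → k ≠ 4 → ∃ P ∈ TOut2, img P k = 6 := by
  decide +kernel
theorem TDq_ok : ∀ P ∈ TDq, checkAut P = true ∧ mapMask P d0 = d0 := by decide +kernel
theorem TDq_cover : ∀ k < 24, d0.testBit k = false → ∃ P ∈ TDq, img P k = 4 := by decide +kernel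

theorem not_mem_move {σ : Equiv.Perm GolayPt} {o o' : Finset GolayPt} (h : σ • o = o')
    {q : GolayPt} (hq : q ∉ o) : σ q ∉ o' := by
  rw [← h]
  intro h1
  obtain ⟨y, hy, hy'⟩ := Finset.mem_smul_finset.1 h1
  have : y = q := σ.injective hy'
  exact hq (this ▸ hy)

theorem mem_move {σ : Equiv.Perm GolayPt} {o o' : Finset GolayPt} (h : σ • o = o')
    {q : GolayPt} (hq : q ∈ o) : σ q ∈ o' := by
  rw [← h]
  exact Finset.mem_smul_finset.2 ⟨q, hq, rfl⟩

theorem testBit_false_of_not_mem {A : ℕ} {q : GolayPt} (h : q ∉ setOf A) :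
    A.testBit (idx q) = false := by
  rw [mem_setOf] at h
  simpa using h

theorem move_out {o : Finset GolayPt} (ho : o ∈ octads) {q : GolayPt} (hq : q ∉ o) :
    ∃ σ ∈ M24, σ • o = setOf O0 ∧ σ q = pt 4 := by
  obtain ⟨σ, hσ, h⟩ := move_octad ho
  have h1 := not_mem_move h hq
  obtain ⟨P, hP, hk⟩ := TOut_cover _ (idx_lt _) (testBit_false_of_not_mem h1)
  obtain ⟨h2, h3⟩ := TOut_ok P hP
  obtain ⟨h4, h5⟩ := move_tab hσ h h2 h3
  refine ⟨_, h4, h5, ?_⟩
  rw [Equiv.Perm.mul_apply, g_apply (checkAut_valid h2), hk]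

theorem move_in {o : Finset GolayPt} (ho : o ∈ octads) {q : GolayPt} (hq : q ∈ o) :
    ∃ σ ∈ M24, σ • o = setOf O0 ∧ σ q = pt 23 := by
  obtain ⟨σ, hσ, h⟩ := move_octad ho
  have h1 := mem_move h hq
  obtain ⟨P, hP, hk⟩ := TIn_cover _ (idx_lt _) (mem_setOf.1 h1)
  obtain ⟨h2, h3⟩ := TIn_ok P hP
  obtain ⟨h4, h5⟩ := move_tab hσ h h2 h3
  refine ⟨_, h4, h5, ?_⟩
  rw [Equiv.Perm.mul_apply, g_apply (checkAut_valid h2), hk]

theorem move_out2 {o : Finset GolayPt} (ho : o ∈ octads) {q q' : GolayPt} (hq : q ∉ o)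
    (hq' : q' ∉ o) (hne : q ≠ q') :
    ∃ σ ∈ M24, σ • o = setOf O0 ∧ σ q = pt 4 ∧ σ q' = pt 6 := by
  obtain ⟨σ, hσ, h, hs⟩ := move_out ho hq
  have h1 := not_mem_move h hq'
  have hne' : idx (σ q') ≠ 4 := by
    intro h2
    apply hne
    apply σ.injective
    rw [hs, ← h2, pt_idx]
  obtain ⟨P, hP, hk⟩ := TOut2_cover _ (idx_lt _) (testBit_false_of_not_mem h1) hne'
  obtain ⟨h2, h3, h3'⟩ := TOut2_ok P hP
  obtain ⟨h4, h5⟩ := move_tab hσ h h2 h3
  refine ⟨_, h4, h5, ?_, ?_⟩
  · rw [Equiv.Perm.mul_apply, hs, g_pt (checkAut_valid h2) (by norm_num), h3']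
  · rw [Equiv.Perm.mul_apply, g_apply (checkAut_valid h2), hk]

theorem move_dq {o : Finset GolayPt} (ho : o ∈ dodecads) {q : GolayPt} (hq : q ∉ o) :
    ∃ σ ∈ M24, σ • o = setOf d0 ∧ σ q = pt 4 := by
  obtain ⟨σ, hσ, h⟩ := move_dodecad ho
  have h1 := not_mem_move h hq
  obtain ⟨P, hP, hk⟩ := TDq_cover _ (idx_lt _) (testBit_false_of_not_mem h1)
  obtain ⟨h2, h3⟩ := TDq_ok P hP
  obtain ⟨h4, h5⟩ := move_tab hσ h h2 h3
  refine ⟨_, h4, h5, ?_⟩
  rw [Equiv.Perm.mul_apply, g_apply (checkAut_valid h2), hk]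

/-! ### Representatives -/

/-- The properties of an even representative. -/
def EvenRep (n A c0 a b S0 T0 : ℕ) : Prop :=
  inL n = true ∧ (∀ i, dec n i % 2 = 0) ∧ (∀ i, i ∈ setOf A ↔ dec n i ≠ 0) ∧
    (∀ i, i ∈ setOf c0 ↔ dec n i % 4 = 2) ∧ RCheck A c0 = true ∧
    ∀ i, (dec n i).natAbs = form (setOf S0) (setOf T0) a b 0 i

instance (n A c0 a b S0 T0 : ℕ) : Decidable (EvenRep n A c0 a b S0 T0) := by
  unfold EvenRep
  infer_instance

/-- The properties of an odd representative. -/
def OddRep (n a b S0 T0 : ℕ) : Prop :=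
  inL n = true ∧ ∀ i, (dec n i).natAbs = form (setOf S0) (setOf T0) a b 1 i

instance (n a b S0 T0 : ℕ) : Decidable (OddRep n a b S0 T0) := by
  unfold OddRep
  infer_instance

theorem nf_even_rep {n A c0 a b S0 T0 : ℕ} (hrep : EvenRep n A c0 a b S0 T0) (hab : a ≠ b)
    {x : GolayPt → ℤ} (hx : x ∈ leechLattice) (he : ∀ i, x i % 2 = 0)
    (h3 : ∀ i, (x i).natAbs = a ∨ (x i).natAbs = b ∨ (x i).natAbs = 0)
    {σ : Equiv.Perm GolayPt} (hσ : σ ∈ M24) (hS : σ • lev x a = setOf S0)
    (hT : σ • lev x b = setOf T0) : NRel x (dec n) := by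
  obtain ⟨h1, h2, h4, h5, h6, h7⟩ := hrep
  refine nf_even hσ hx (mem_of_inL h1) he h2 h4 h5 h6 fun i => ?_
  rw [form_of_lev hab h3, form_move hS hT, h7]

theorem nf_odd_rep {n a b S0 T0 : ℕ} (hrep : OddRep n a b S0 T0) (hab : a ≠ b)
    {x : GolayPt → ℤ} (hx : x ∈ leechLattice) (ho : ∀ i, x i % 2 = 1)
    (h3 : ∀ i, (x i).natAbs = a ∨ (x i).natAbs = b ∨ (x i).natAbs = 1)
    {σ : Equiv.Perm GolayPt} (hσ : σ ∈ M24) (hS : σ • lev x a = setOf S0)
    (hT : σ • lev x b = setOf T0) : NRel x (dec n) := by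
  obtain ⟨h1, h7⟩ := hrep
  refine nf_odd hσ hx (mem_of_inL h1) ho fun i => ?_
  rw [form_of_lev hab h3, form_move hS hT, h7]

theorem rA32 : EvenRep nA32 8388609 0 4 2 8388609 0 := by decide +kernel
theorem rB32 : EvenRep nB32 8536111 8536111 2 4 8536111 0 := by decide +kernel
theorem rC32 : OddRep nC32 3 5 8388608 0 := by decide +kernel
theorem rA48 : OddRep nA48 5 3 8388608 0 := by decide +kernel
theorem rB48 : OddRep nB48 3 5 8388611 0 := by decide +kernel
theorem rC48 : EvenRep nC48 8536127 8536111 2 4 8536111 16 := by decide +kernel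
theorem rD48 : EvenRep nD48 8442831 8442831 2 4 8442831 0 := by decide +kernel
theorem rA64 : EvenRep nA64 8388608 0 8 2 8388608 0 := by decide +kernel
theorem rB64 : EvenRep nB64 8388615 0 4 2 8388615 0 := by decide +kernel
theorem rC64 : EvenRep nC64 8536111 8536111 2 6 147503 8388608 := by decide +kernel
theorem rE64 : EvenRep nE64 8536191 8536111 2 4 8536111 80 := by decide +kernel
theorem rF64 : EvenRep nF64 8442847 8442831 2 4 8442831 16 := by decide +kernel
theorem rG64 : OddRep nG64 3 5 8388623 0 := by decide +kernel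
theorem rH64 : OddRep nH64 5 3 8388608 3 := by decide +kernel

/-! ### Level counts -/

theorem h3_of_cards {x : GolayPt → ℤ} (hb : ∀ i, (x i).natAbs ≤ 8) {a b c : ℕ}
    (h : ∀ k ≤ 8, k ≠ a → k ≠ b → k ≠ c → (lev x k).card = 0) (i : GolayPt) :
    (x i).natAbs = a ∨ (x i).natAbs = b ∨ (x i).natAbs = c := by
  by_contra hc
  push Not at hc
  exact card_lev_eq_zero (h _ (hb i) hc.1 hc.2.1 hc.2.2) i rfl

theorem smul_zero_card {x : GolayPt → ℤ} {b : ℕ} (h : (lev x b).card = 0) (σ : Equiv.Perm GolayPt) :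
    σ • lev x b = setOf 0 := by
  rw [Finset.card_eq_zero] at h
  rw [h]
  ext p
  simp

theorem lev_union_zero {x : GolayPt → ℤ} {a b : ℕ} (h : (lev x b).card = 0) :
    lev x a ∪ lev x b = lev x a := by
  rw [Finset.card_eq_zero] at h
  rw [h, Finset.union_empty]

theorem even_data {x : GolayPt → ℤ} (hx : x ∈ leechLattice) (he : ∀ i, x i % 2 = 0)
    (hb : ∀ i, (x i).natAbs ≤ 8) :
    (lev x 1).card = 0 ∧ (lev x 3).card = 0 ∧ (lev x 5).card = 0 ∧ (lev x 7).card = 0 ∧
      ((lev x 2).card + (lev x 6).card = 0 ∨ (lev x 2).card + (lev x 6).card = 8 ∨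
        (lev x 2).card + (lev x 6).card = 12 ∨ (lev x 2).card + (lev x 6).card = 16 ∨
        (lev x 2).card + (lev x 6).card = 24) := by
  refine ⟨lev_odd_eq_zero he (by norm_num), lev_odd_eq_zero he (by norm_num),
    lev_odd_eq_zero he (by norm_num), lev_odd_eq_zero he (by norm_num), ?_⟩
  have := card_Sup_cases (even_word_mem hx he hb)
  rwa [card_lev_union (by norm_num)] at this

theorem odd_data {x : GolayPt → ℤ} (ho : ∀ i, x i % 2 = 1) :
    (lev x 0).card = 0 ∧ (lev x 2).card = 0 ∧ (lev x 4).card = 0 ∧ (lev x 6).card = 0 ∧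
      (lev x 8).card = 0 :=
  ⟨lev_even_eq_zero ho (by norm_num), lev_even_eq_zero ho (by norm_num),
    lev_even_eq_zero ho (by norm_num), lev_even_eq_zero ho (by norm_num),
    lev_even_eq_zero ho (by norm_num)⟩

/-- A vector with all coordinates multiples of 4 has an even number of coordinates `± 4`
when `8` occurs only as `± 8`. -/
theorem even_card_lev4 {x : GolayPt → ℤ} (hx : x ∈ leechLattice) (he : ∀ i, x i % 2 = 0)
    (hb : ∀ i, (x i).natAbs ≤ 8) (h2 : (lev x 2).card = 0) (h6 : (lev x 6).card = 0) :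
    (lev x 4).card % 2 = 0 := by
  have h1 : ∀ i, x i ≡ (if i ∈ lev x 4 then (4 : ℤ) else 0) [ZMOD 8] := by
    intro i
    have h3 := card_lev_eq_zero h2 i
    have h4 := card_lev_eq_zero h6 i
    have h5 := he i
    have h7 := hb i
    unfold Int.ModEq
    by_cases h8 : i ∈ lev x 4
    · rw [if_pos h8]
      have := mem_lev.1 h8
      omega
    · rw [if_neg h8]
      have : (x i).natAbs ≠ 4 := fun h => h8 (mem_lev.2 h)
      omega
  have h3 : ∑ i, x i ≡ ∑ i, (if i ∈ lev x 4 then (4 : ℤ) else 0) [ZMOD 8] :=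
    Int.ModEq.sum fun i _ => h1 i
  have h4 : ∑ i, (if i ∈ lev x 4 then (4 : ℤ) else 0) = ((lev x 4).card : ℤ) * 4 := by
    rw [Finset.sum_ite_mem, Finset.univ_inter, Finset.sum_const, nsmul_eq_mul]
  rw [h4] at h3
  rw [mem_leechLattice_iff, mem_leechSet_iff] at hx
  obtain ⟨m, hm, hs, -⟩ := hx
  have hm2 : m % 2 = 0 := by
    have := hm (pt 0)
    have := he (pt 0)
    unfold Int.ModEq at *
    omega
  unfold Int.ModEq at *
  omega

/-! ### The sixteen sign patterns on the complement of an octad -/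

/-- Complement of the octad. -/
def A0 : ℕ := 8241104

/-- The mask of the pair `{q, 4}`. -/
def tq (q : ℕ) : ℕ := Nat.xor (bitM q) (bitM 4)

theorem TW_ok : ∀ e ∈ TW, A0.testBit e.2.2.1 = true ∧ e.2.2.1 < 24 ∧ e.2.2.2 < 4096 ∧
    Nat.land (code e.2.2.2) A0 = Nat.xor (Nat.xor (tq e.1) (tq e.2.1)) (tq e.2.2.1) := by
  decide +kernel

theorem TW_cover : ∀ q < 24, ∀ a < 24, A0.testBit q = true → A0.testBit a = true →
    ∃ e ∈ TW, e.1 = q ∧ e.2.1 = a := by decide +kernel

theorem setOf_tq {q : ℕ} (hq : q < 24) : setOf (tq q) = symmDiff {pt q} {pt 4} := by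
  rw [show tq q = bitM q ^^^ bitM 4 from rfl, setOf_xor, setOf_bitM hq, setOf_bitM (by norm_num)]

theorem kc {q a : ℕ} (hq : q < 24) (ha : a < 24) (h1 : A0.testBit q = true) (h2 : A0.testBit a = true) :
    ∃ q' < 24, A0.testBit q' = true ∧
      RS A0 (symmDiff (symmDiff (setOf (tq q)) (setOf (tq a))) (setOf (tq q'))) := by
  obtain ⟨e, he, rfl, rfl⟩ := TW_cover q hq a ha h1 h2
  obtain ⟨h3, h4, h5, h6⟩ := TW_ok e he
  refine ⟨_, h4, h3, ?_⟩
  have := RS_of_land h5 h6
  rwa [show Nat.xor (Nat.xor (tq e.1) (tq e.2.1)) (tq e.2.2.1) =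
    (tq e.1 ^^^ tq e.2.1) ^^^ tq e.2.2.1 from rfl, setOf_xor, setOf_xor] at this

theorem setOf_A0_pt {p : GolayPt} (h : p ∈ setOf A0) : A0.testBit (idx p) = true := mem_setOf.1 h

/-- Every even subset of the complement of the octad is the restriction of a code word, up to a
pair through the base point. -/
theorem even_subset_cases (S : Finset GolayPt) (hS : S ⊆ setOf A0) (hev : S.card % 2 = 0) :
    ∃ q < 24, A0.testBit q = true ∧ RS A0 (symmDiff S (setOf (tq q))) := by
  induction S using Finset.strongInduction with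
  | H S ih =>
    by_cases h2 : S = ∅
    · subst h2
      refine ⟨4, by norm_num, by decide +kernel, ?_⟩
      have : symmDiff (∅ : Finset GolayPt) (setOf (tq 4)) = ∅ := by decide +kernel
      rw [this]
      exact RS_empty _
    · obtain ⟨a, ha⟩ := Finset.nonempty_iff_ne_empty.2 h2
      have h4 : 2 ≤ S.card := by
        have h5 : 0 < S.card := Finset.card_pos.2 ⟨a, ha⟩
        omega
      obtain ⟨b, hb, hba⟩ : ∃ b ∈ S, b ≠ a := by
        by_contra hcon
        push Not at hcon
        have : S ⊆ {a} := fun x hx => Finset.mem_singleton.2 (hcon x hx)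
        have := Finset.card_le_card this
        simp at this
        omega
      have h5 : (S.erase a).erase b ⊂ S :=
        Finset.ssubset_of_subset_of_ssubset (Finset.erase_subset _ _) (Finset.erase_ssubset ha)
      obtain ⟨q, hq, hqA, hR⟩ := ih _ h5
        ((Finset.erase_subset _ _).trans ((Finset.erase_subset _ _).trans hS))
        (by
          rw [Finset.card_erase_of_mem (Finset.mem_erase.2 ⟨hba, hb⟩), Finset.card_erase_of_mem ha]
          omega)
      have haA : A0.testBit (idx a) = true := mem_setOf.1 (hS ha)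
      have hbA : A0.testBit (idx b) = true := mem_setOf.1 (hS hb)
      obtain ⟨q1, hq1, hq1A, hR1⟩ := kc hq (idx_lt a) hqA haA
      obtain ⟨q2, hq2, hq2A, hR2⟩ := kc hq1 (idx_lt b) hq1A hbA
      refine ⟨q2, hq2, hq2A, ?_⟩
      have h6 := RS_symmDiff (RS_symmDiff hR hR1) hR2
      rw [setOf_tq (idx_lt a), setOf_tq (idx_lt b), pt_idx, pt_idx] at h6
      convert h6 using 1
      ext p
      simp only [Finset.mem_symmDiff, Finset.mem_erase, Finset.mem_singleton]
      by_cases hp : p ∈ setOf (tq q) <;> by_cases hp1 : p ∈ setOf (tq q1) <;>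
        by_cases hp2 : p ∈ setOf (tq q2) <;> by_cases hpa : p = a <;> by_cases hpb : p = b <;>
        by_cases hp4 : p = pt 4 <;> by_cases hpS : p ∈ S <;> simp_all

theorem TQ_ok : ∀ e ∈ TQ, inL e.2.1 = true ∧ monOK e.2.2 0 e.2.1 nDb64 = true ∧
    ∀ i, dec e.2.1 i = if i ∈ setOf A0 then (if i ∈ setOf (tq e.1) then -2 else 2) else 0 := by
  decide +kernel

theorem TQ_cover : ∀ q < 24, A0.testBit q = true → q ≠ 4 → ∃ e ∈ TQ, e.1 = q := by decide +kernel

theorem dec_nDa : inL nDa64 = true ∧ ∀ i, dec nDa64 i = if i ∈ setOf A0 then 2 else 0 := by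
  decide +kernel

theorem tq_four : tq 4 = 0 := by decide +kernel

/-- Vectors supported on the complement of the octad with entries `± 2`. -/
theorem nf_sixteen {x : GolayPt → ℤ} (hx : x ∈ leechLattice)
    (h1 : ∀ i, i ∈ setOf A0 → (x i).natAbs = 2) (h0 : ∀ i, i ∉ setOf A0 → x i = 0) :
    NRel x (dec nDa64) ∨ NRel x (dec nDb64) := by
  set S : Finset GolayPt := Finset.univ.filter fun i => x i = -2 with hSdef
  have hmem : ∀ i, i ∈ S ↔ x i = -2 := by simp [hSdef]
  have hSA : S ⊆ setOf A0 := by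
    intro i hi
    by_contra hc
    rw [hmem, h0 i hc] at hi
    norm_num at hi
  have hev : S.card % 2 = 0 := by
    have h2 : ∀ i, x i = (if i ∈ setOf A0 then 2 else 0) - (if i ∈ S then 4 else 0) := by
      intro i
      by_cases h3 : i ∈ setOf A0
      · rw [if_pos h3]
        by_cases h4 : i ∈ S
        · rw [if_pos h4, (hmem i).1 h4]; norm_num
        · rw [if_neg h4]
          have h5 := h1 i h3
          have h6 : x i ≠ -2 := fun h => h4 ((hmem i).2 h)
          omega
      · rw [if_neg h3, if_neg (fun h => h3 (hSA h)), h0 i h3]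
        norm_num
    have h3 : ∑ i, x i = ((setOf A0).card : ℤ) * 2 - (S.card : ℤ) * 4 := by
      rw [Finset.sum_congr rfl fun i _ => h2 i, Finset.sum_sub_distrib, Finset.sum_ite_mem,
        Finset.sum_ite_mem, Finset.univ_inter, Finset.univ_inter, Finset.sum_const, Finset.sum_const,
        nsmul_eq_mul, nsmul_eq_mul]
    have h4 : (setOf A0).card = 16 := by decide +kernel
    rw [h4] at h3
    rw [mem_leechLattice_iff, mem_leechSet_iff] at hx
    obtain ⟨m, hm, hs, -⟩ := hx
    have hm2 : m % 2 = 0 := by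
      have h5 := hm (pt 4)
      have h6 := h1 (pt 4) (by decide +kernel)
      unfold Int.ModEq at *
      omega
    unfold Int.ModEq at hs
    omega
  obtain ⟨q, hq, hqA, d, hd, hdS⟩ := even_subset_cases S hSA hev
  have hy : signedPerm 1 d x = fun i => if i ∈ setOf A0 then (if i ∈ setOf (tq q) then -2 else 2) else 0 := by
    funext i
    rw [signedPerm_apply]
    have h2 : (1 : Equiv.Perm GolayPt).symm i = i := rfl
    rw [h2]
    by_cases h3 : i ∈ setOf A0
    · rw [if_pos h3]
      have h4 : i ∈ d ↔ (i ∈ S ↔ i ∉ setOf (tq q)) := by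
        have h5 : i ∈ d ∩ setOf A0 ↔ i ∈ symmDiff S (setOf (tq q)) := by rw [hdS]
        rw [Finset.mem_inter, Finset.mem_symmDiff] at h5
        constructor
        · intro h6
          have h7 := h5.1 ⟨h6, h3⟩
          tauto
        · intro h6
          have h7 := h5.2 (by tauto)
          exact h7.1
      have h6 := h1 i h3
      by_cases h7 : i ∈ S
      · have h8 := (hmem i).1 h7
        by_cases h9 : i ∈ setOf (tq q)
        · rw [if_neg (by tauto), if_pos h9, h8]
        · rw [if_pos (by tauto), if_neg h9, h8]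
          norm_num
      · have h8 : x i = 2 := by
          have : x i ≠ -2 := fun h => h7 ((hmem i).2 h)
          omega
        by_cases h9 : i ∈ setOf (tq q)
        · rw [if_pos (by tauto), if_pos h9, h8]
        · rw [if_neg (by tauto), if_neg h9, h8]
    · rw [if_neg h3, h0 i h3]
      simp
  have hr := nrel_signed (M24.one_mem) hd hx
  rw [hy] at hr
  by_cases h4 : q = 4
  · left
    subst h4
    convert hr using 1
    funext i
    rw [dec_nDa.2 i, tq_four]
    simp
  · right
    obtain ⟨e, he, rfl⟩ := TQ_cover q hq hqA h4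
    obtain ⟨h5, h6, h7⟩ := TQ_ok e he
    have h8 : dec e.2.1 = fun i => if i ∈ setOf A0 then (if i ∈ setOf (tq e.1) then -2 else 2) else 0 :=
      funext h7
    rw [← h8] at hr
    exact hr.trans (nrel_of_monOK h6 (mem_of_inL h5))

/-! ### The classification -/

theorem octad_of {c : Finset GolayPt} (h : c ∈ Sup) (h8 : c.card = 8) : c ∈ octads := ⟨h, h8⟩

theorem dodecad_of {c : Finset GolayPt} (h : c ∈ Sup) (h8 : c.card = 12) : c ∈ dodecads := ⟨h, h8⟩

theorem h3_even {x : GolayPt → ℤ} (hb : ∀ i, (x i).natAbs ≤ 8) (he : ∀ i, x i % 2 = 0) {a b c d : ℕ}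
    (hs : ∀ k ∈ [2, 4, 6, 8], k = a ∨ k = b ∨ k = c ∨ k = d) (zc : (lev x c).card = 0)
    (zd : (lev x d).card = 0) (i : GolayPt) :
    (x i).natAbs = a ∨ (x i).natAbs = b ∨ (x i).natAbs = 0 := by
  have h1 := hb i
  have h2 := he i
  have h3 : (x i).natAbs = 0 ∨ (x i).natAbs ∈ [2, 4, 6, 8] := by
    simp only [List.mem_cons, List.not_mem_nil, or_false]
    omega
  rcases h3 with h3 | h3
  · exact Or.inr (Or.inr h3)
  · rcases hs _ h3 with h4 | h4 | h4 | h4
    · exact Or.inl h4
    · exact Or.inr (Or.inl h4)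
    · exact absurd h4 (card_lev_eq_zero zc i)
    · exact absurd h4 (card_lev_eq_zero zd i)

theorem h3_odd {x : GolayPt → ℤ} (hb : ∀ i, (x i).natAbs ≤ 8) (ho : ∀ i, x i % 2 = 1) {a b c : ℕ}
    (hs : ∀ k ∈ [3, 5, 7], k = a ∨ k = b ∨ k = c) (zc : (lev x c).card = 0) (i : GolayPt) :
    (x i).natAbs = a ∨ (x i).natAbs = b ∨ (x i).natAbs = 1 := by
  have h1 := hb i
  have h2 := ho i
  have h3 : (x i).natAbs = 1 ∨ (x i).natAbs ∈ [3, 5, 7] := by
    simp only [List.mem_cons, List.not_mem_nil, or_false]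
    omega
  rcases h3 with h3 | h3
  · exact Or.inr (Or.inr h3)
  · rcases hs _ h3 with h4 | h4 | h4
    · exact Or.inl h4
    · exact Or.inr (Or.inl h4)
    · exact absurd h4 (card_lev_eq_zero zc i)

section arith
variable {n0 n1 n2 n3 n4 n5 n6 n7 n8 : ℕ}

theorem arith32e (e2 : ((n1 : ℤ) + 4 * n2 + 9 * n3 + 16 * n4 + 25 * n5 + 36 * n6 + 49 * n7 + 64 * n8) = 32)
    (z1 : n1 = 0) (z3 : n3 = 0) (z5 : n5 = 0) (z7 : n7 = 0)
    (hc : n2 + n6 = 0 ∨ n2 + n6 = 8 ∨ n2 + n6 = 12 ∨ n2 + n6 = 16 ∨ n2 + n6 = 24) :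
    (n4 = 2 ∧ n2 = 0 ∧ n6 = 0 ∧ n8 = 0) ∨ (n4 = 0 ∧ n2 = 8 ∧ n6 = 0 ∧ n8 = 0) := by omega

theorem arith32o (e1 : n0 + n1 + n2 + n3 + n4 + n5 + n6 + n7 + n8 = 24)
    (e2 : ((n1 : ℤ) + 4 * n2 + 9 * n3 + 16 * n4 + 25 * n5 + 36 * n6 + 49 * n7 + 64 * n8) = 32)
    (z0 : n0 = 0) (z2 : n2 = 0) (z4 : n4 = 0) (z6 : n6 = 0) (z8 : n8 = 0) :
    n3 = 1 ∧ n5 = 0 ∧ n7 = 0 := by omega

theorem arith48e (e2 : ((n1 : ℤ) + 4 * n2 + 9 * n3 + 16 * n4 + 25 * n5 + 36 * n6 + 49 * n7 + 64 * n8) = 48)
    (z1 : n1 = 0) (z3 : n3 = 0) (z5 : n5 = 0) (z7 : n7 = 0)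
    (hc : n2 + n6 = 0 ∨ n2 + n6 = 8 ∨ n2 + n6 = 12 ∨ n2 + n6 = 16 ∨ n2 + n6 = 24)
    (hev : n2 = 0 → n6 = 0 → n4 % 2 = 0) :
    (n4 = 1 ∧ n2 = 8 ∧ n6 = 0 ∧ n8 = 0) ∨ (n4 = 0 ∧ n2 = 12 ∧ n6 = 0 ∧ n8 = 0) := by
  have e3 : n2 + 4 * n4 + 9 * n6 + 16 * n8 = 12 := by omega
  have b8 : n8 = 0 := by omega
  have b6 : n6 ≤ 1 := by omega
  have b4 : n4 ≤ 3 := by omega
  clear e2 z1 z3 z5 z7
  subst b8
  interval_cases n6 <;> interval_cases n4 <;> simp at e3 hev hc ⊢ <;> omega

theorem arith48o (e1 : n0 + n1 + n2 + n3 + n4 + n5 + n6 + n7 + n8 = 24)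
    (e2 : ((n1 : ℤ) + 4 * n2 + 9 * n3 + 16 * n4 + 25 * n5 + 36 * n6 + 49 * n7 + 64 * n8) = 48)
    (z0 : n0 = 0) (z2 : n2 = 0) (z4 : n4 = 0) (z6 : n6 = 0) (z8 : n8 = 0) :
    (n5 = 1 ∧ n3 = 0 ∧ n7 = 0) ∨ (n5 = 0 ∧ n3 = 3 ∧ n7 = 0) := by omega

theorem arith64e (e2 : ((n1 : ℤ) + 4 * n2 + 9 * n3 + 16 * n4 + 25 * n5 + 36 * n6 + 49 * n7 + 64 * n8) = 64)
    (z1 : n1 = 0) (z3 : n3 = 0) (z5 : n5 = 0) (z7 : n7 = 0)
    (hc : n2 + n6 = 0 ∨ n2 + n6 = 8 ∨ n2 + n6 = 12 ∨ n2 + n6 = 16 ∨ n2 + n6 = 24)
    (hev : n2 = 0 → n6 = 0 → n4 % 2 = 0) :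
    (n8 = 1 ∧ n4 = 0 ∧ n2 = 0 ∧ n6 = 0) ∨ (n8 = 0 ∧ n4 = 4 ∧ n2 = 0 ∧ n6 = 0) ∨
      (n8 = 0 ∧ n4 = 0 ∧ n2 = 7 ∧ n6 = 1) ∨ (n8 = 0 ∧ n4 = 0 ∧ n2 = 16 ∧ n6 = 0) ∨
      (n8 = 0 ∧ n4 = 2 ∧ n2 = 8 ∧ n6 = 0) ∨ (n8 = 0 ∧ n4 = 1 ∧ n2 = 12 ∧ n6 = 0) := by
  have e3 : n2 + 4 * n4 + 9 * n6 + 16 * n8 = 16 := by omega
  have b8 : n8 ≤ 1 := by omega
  have b6 : n6 ≤ 1 := by omega
  have b4 : n4 ≤ 4 := by omega
  clear e2 z1 z3 z5 z7
  interval_cases n8 <;> interval_cases n6 <;> interval_cases n4 <;> simp at e3 hev hc ⊢ <;> omega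

theorem arith64o (e1 : n0 + n1 + n2 + n3 + n4 + n5 + n6 + n7 + n8 = 24)
    (e2 : ((n1 : ℤ) + 4 * n2 + 9 * n3 + 16 * n4 + 25 * n5 + 36 * n6 + 49 * n7 + 64 * n8) = 64)
    (z0 : n0 = 0) (z2 : n2 = 0) (z4 : n4 = 0) (z6 : n6 = 0) (z8 : n8 = 0) :
    (n5 = 0 ∧ n3 = 5 ∧ n7 = 0) ∨ (n5 = 1 ∧ n3 = 2 ∧ n7 = 0) := by omega

end arith

theorem nf32 {x : GolayPt → ℤ} (hx : x ∈ leechLattice) (hn : sqNorm x = 32) :
    NRel x (dec nA32) ∨ NRel x (dec nB32) ∨ NRel x (dec nC32) := by
  have hb := natAbs_le_of_sqNorm hn (by norm_num)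
  obtain ⟨e1, e2⟩ := lev_eqs x hb
  rw [hn] at e2
  rcases parity_cases hx with he | ho
  · obtain ⟨z1, z3, z5, z7, hc⟩ := even_data hx he hb
    have hw := even_word_mem hx he hb
    rcases arith32e e2 z1 z3 z5 z7 hc with ⟨h4, h2, h6, h8⟩ | ⟨h4, h2, h6, h8⟩
    · left
      obtain ⟨σ, hσ, hS⟩ := exists_move_set (S := lev x 4) (T := setOf 8388609)
        (by rw [h4]; decide +kernel) (by rw [h4]; norm_num)
      exact nf_even_rep rA32 (by norm_num) hx he (h3_even (c := 6) (d := 8) hb he (by decide) h6 h8)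
        hσ hS (smul_zero_card h2 σ)
    · right; left
      rw [lev_union_zero h6] at hw
      obtain ⟨σ, hσ, hS⟩ := move_octad (octad_of hw h2)
      exact nf_even_rep rB32 (by norm_num) hx he (h3_even (c := 6) (d := 8) hb he (by decide) h6 h8)
        hσ hS (smul_zero_card h4 σ)
  · obtain ⟨z0, z2, z4, z6, z8⟩ := odd_data ho
    right; right
    obtain ⟨h3, h5, h7⟩ := arith32o e1 e2 z0 z2 z4 z6 z8
    obtain ⟨σ, hσ, hS⟩ := exists_move_set (S := lev x 3) (T := setOf 8388608)
      (by rw [h3]; decide +kernel) (by rw [h3]; norm_num)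
    exact nf_odd_rep rC32 (by norm_num) hx ho (h3_odd (c := 7) hb ho (by decide) h7) hσ hS
      (smul_zero_card h5 σ)

theorem nf48 {x : GolayPt → ℤ} (hx : x ∈ leechLattice) (hn : sqNorm x = 48) :
    NRel x (dec nA48) ∨ NRel x (dec nB48) ∨ NRel x (dec nC48) ∨ NRel x (dec nD48) := by
  have hb := natAbs_le_of_sqNorm hn (by norm_num)
  obtain ⟨e1, e2⟩ := lev_eqs x hb
  rw [hn] at e2
  rcases parity_cases hx with he | ho
  · obtain ⟨z1, z3, z5, z7, hc⟩ := even_data hx he hb
    have hw := even_word_mem hx he hb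
    have hev := even_card_lev4 hx he hb
    rcases arith48e e2 z1 z3 z5 z7 hc hev with ⟨h4, h2, h6, h8⟩ | ⟨h4, h2, h6, h8⟩
    · right; right; left
      rw [lev_union_zero h6] at hw
      obtain ⟨q, hq⟩ := Finset.card_eq_one.1 h4
      have hq' : q ∉ lev x 2 := by
        intro h
        have h5 := mem_lev.1 h
        have h7 : q ∈ lev x 4 := by rw [hq]; simp
        rw [mem_lev.1 h7] at h5
        norm_num at h5
      obtain ⟨σ, hσ, hS, hs⟩ := move_out (octad_of hw h2) hq'
      refine nf_even_rep rC48 (by norm_num) hx he (h3_even (c := 6) (d := 8) hb he (by decide) h6 h8)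
        hσ hS ?_
      rw [hq, Finset.smul_finset_singleton]
      show {σ q} = _
      rw [hs]
      decide +kernel
    · right; right; right
      rw [lev_union_zero h6] at hw
      obtain ⟨σ, hσ, hS⟩ := move_dodecad (dodecad_of hw h2)
      exact nf_even_rep rD48 (by norm_num) hx he (h3_even (c := 6) (d := 8) hb he (by decide) h6 h8)
        hσ hS (smul_zero_card h4 σ)
  · obtain ⟨z0, z2, z4, z6, z8⟩ := odd_data ho
    rcases arith48o e1 e2 z0 z2 z4 z6 z8 with ⟨h5, h3, h7⟩ | ⟨h5, h3, h7⟩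
    · left
      obtain ⟨σ, hσ, hS⟩ := exists_move_set (S := lev x 5) (T := setOf 8388608)
        (by rw [h5]; decide +kernel) (by rw [h5]; norm_num)
      exact nf_odd_rep rA48 (by norm_num) hx ho (h3_odd (c := 7) hb ho (by decide) h7) hσ hS
        (smul_zero_card h3 σ)
    · right; left
      obtain ⟨σ, hσ, hS⟩ := exists_move_set (S := lev x 3) (T := setOf 8388611)
        (by rw [h3]; decide +kernel) (by rw [h3]; norm_num)
      exact nf_odd_rep rB48 (by norm_num) hx ho (h3_odd (c := 7) hb ho (by decide) h7) hσ hS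
        (smul_zero_card h5 σ)

theorem nf64 {x : GolayPt → ℤ} (hx : x ∈ leechLattice) (hn : sqNorm x = 64) :
    NRel x (dec nA64) ∨ NRel x (dec nB64) ∨ NRel x (dec nC64) ∨ NRel x (dec nDa64) ∨
      NRel x (dec nDb64) ∨ NRel x (dec nE64) ∨ NRel x (dec nF64) ∨ NRel x (dec nG64) ∨
      NRel x (dec nH64) := by
  have hb := natAbs_le_of_sqNorm hn (by norm_num)
  obtain ⟨e1, e2⟩ := lev_eqs x hb
  rw [hn] at e2
  rcases parity_cases hx with he | ho
  · obtain ⟨z1, z3, z5, z7, hc⟩ := even_data hx he hb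
    have hw := even_word_mem hx he hb
    have hev := even_card_lev4 hx he hb
    rcases arith64e e2 z1 z3 z5 z7 hc hev with
      ⟨h8, h4, h2, h6⟩ | ⟨h8, h4, h2, h6⟩ | ⟨h8, h4, h2, h6⟩ | ⟨h8, h4, h2, h6⟩ | ⟨h8, h4, h2, h6⟩ |
        ⟨h8, h4, h2, h6⟩
    · left
      obtain ⟨σ, hσ, hS⟩ := exists_move_set (S := lev x 8) (T := setOf 8388608)
        (by rw [h8]; decide +kernel) (by rw [h8]; norm_num)
      exact nf_even_rep rA64 (by norm_num) hx he (h3_even (c := 4) (d := 6) hb he (by decide) h4 h6)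
        hσ hS (smul_zero_card h2 σ)
    · right; left
      obtain ⟨σ, hσ, hS⟩ := exists_move_set (S := lev x 4) (T := setOf 8388615)
        (by rw [h4]; decide +kernel) (by rw [h4]; norm_num)
      exact nf_even_rep rB64 (by norm_num) hx he (h3_even (c := 6) (d := 8) hb he (by decide) h6 h8)
        hσ hS (smul_zero_card h2 σ)
    · right; right; left
      obtain ⟨p, hp⟩ := Finset.card_eq_one.1 h6
      have hdisj : (lev x 2 ∪ lev x 6).card = 8 := by
        rw [card_lev_union (by norm_num), h2, h6]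
      have hpo : p ∈ lev x 2 ∪ lev x 6 := Finset.mem_union_right _ (by rw [hp]; simp)
      obtain ⟨σ, hσ, hS, hs⟩ := move_in (octad_of hw hdisj) hpo
      have h6' : σ • lev x 6 = setOf 8388608 := by
        rw [hp, Finset.smul_finset_singleton]
        show {σ p} = _
        rw [hs]
        decide +kernel
      have h2' : σ • lev x 2 = setOf 147503 := by
        have h9 : lev x 2 = (lev x 2 ∪ lev x 6) \ lev x 6 := by
          rw [Finset.union_sdiff_right, Finset.sdiff_eq_self_of_disjoint]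
          rw [Finset.disjoint_left]
          intro i h1 h2
          have h3 := mem_lev.1 h1
          rw [mem_lev.1 h2] at h3
          norm_num at h3
        rw [h9, Finset.smul_finset_sdiff, hS, h6']
        decide +kernel
      exact nf_even_rep rC64 (by norm_num) hx he (h3_even (c := 4) (d := 8) hb he (by decide) h4 h8)
        hσ h2' h6'
    · right; right; right
      rw [lev_union_zero h6] at hw
      have hcw : (lev x 2)ᶜ ∈ Sup := by
        have := symmDiff_mem_Sup hw univ_mem_Sup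
        convert this using 1
        ext p
        simp [Finset.mem_symmDiff]
      have hcc : ((lev x 2)ᶜ).card = 8 := by
        rw [Finset.card_compl, card_golayPt, h2]
      obtain ⟨σ, hσ, hS⟩ := move_octad (octad_of hcw hcc)
      have hlev : σ • lev x 2 = setOf A0 := by
        have : lev x 2 = (Finset.univ : Finset GolayPt) \ (lev x 2)ᶜ := by simp
        rw [this, Finset.smul_finset_sdiff, hS, Finset.smul_finset_univ]
        decide +kernel
      have hy := nrel_signed hσ empty_mem_Sup hx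
      have hmem : ∀ i, i ∈ lev x 2 ↔ σ i ∈ setOf A0 := by
        intro i
        rw [← hlev]
        constructor
        · intro h
          exact Finset.mem_smul_finset.2 ⟨i, h, rfl⟩
        · intro h
          obtain ⟨y, hy, hy'⟩ := Finset.mem_smul_finset.1 h
          have : y = i := σ.injective hy'
          rwa [← this]
      have hval : ∀ i, signedPerm σ ∅ x i = x (σ.symm i) := fun i => by
        rw [signedPerm_apply]
        simp
      have h3 := h3_even (a := 2) (b := 4) (c := 6) (d := 8) hb he (by decide) h6 h8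
      rcases nf_sixteen hy.mem_right (fun i hi => by
          rw [hval]
          have := (hmem (σ.symm i)).2 (by simpa using hi)
          exact mem_lev.1 this) (fun i hi => by
          rw [hval]
          have h5 : σ.symm i ∉ lev x 2 := fun h => hi (by simpa using (hmem _).1 h)
          have h6' : (x (σ.symm i)).natAbs ≠ 2 := fun h => h5 (mem_lev.2 h)
          have h7 := card_lev_eq_zero h4 (σ.symm i)
          rcases h3 (σ.symm i) with h9 | h9 | h9
          · exact absurd h9 h6'
          · exact absurd h9 h7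
          · exact Int.natAbs_eq_zero.1 h9) with h5 | h5
      · left
        exact hy.trans h5
      · right; left
        exact hy.trans h5
    · right; right; right; right; right; left
      rw [lev_union_zero h6] at hw
      obtain ⟨q, q', hne, hq⟩ := Finset.card_eq_two.1 h4
      have hnot : ∀ p ∈ lev x 4, p ∉ lev x 2 := by
        intro p hp h
        have h5 := mem_lev.1 h
        rw [mem_lev.1 hp] at h5
        norm_num at h5
      obtain ⟨σ, hσ, hS, hs, hs'⟩ := move_out2 (octad_of hw h2) (hnot q (by rw [hq]; simp))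
        (hnot q' (by rw [hq]; simp)) hne
      refine nf_even_rep rE64 (by norm_num) hx he (h3_even (c := 6) (d := 8) hb he (by decide) h6 h8)
        hσ hS ?_
      rw [hq, Finset.smul_finset_insert, Finset.smul_finset_singleton]
      show {σ q, σ q'} = _
      rw [hs, hs']
      decide +kernel
    · right; right; right; right; right; right; left
      rw [lev_union_zero h6] at hw
      obtain ⟨q, hq⟩ := Finset.card_eq_one.1 h4
      have hq' : q ∉ lev x 2 := by
        intro h
        have h5 := mem_lev.1 h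
        have h7 : q ∈ lev x 4 := by rw [hq]; simp
        rw [mem_lev.1 h7] at h5
        norm_num at h5
      obtain ⟨σ, hσ, hS, hs⟩ := move_dq (dodecad_of hw h2) hq'
      refine nf_even_rep rF64 (by norm_num) hx he (h3_even (c := 6) (d := 8) hb he (by decide) h6 h8)
        hσ hS ?_
      rw [hq, Finset.smul_finset_singleton]
      show {σ q} = _
      rw [hs]
      decide +kernel
  · obtain ⟨z0, z2, z4, z6, z8⟩ := odd_data ho
    rcases arith64o e1 e2 z0 z2 z4 z6 z8 with ⟨h5, h3, h7⟩ | ⟨h5, h3, h7⟩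
    · right; right; right; right; right; right; right; left
      obtain ⟨σ, hσ, hS⟩ := exists_move_set (S := lev x 3) (T := setOf 8388623)
        (by rw [h3]; decide +kernel) (le_of_eq h3)
      exact nf_odd_rep rG64 (by norm_num) hx ho (h3_odd (c := 7) hb ho (by decide) h7) hσ hS
        (smul_zero_card h5 σ)
    · right; right; right; right; right; right; right; right
      obtain ⟨p, hp⟩ := Finset.card_eq_one.1 h5
      obtain ⟨q, q', hne, hq⟩ := Finset.card_eq_two.1 h3
      have hnot : ∀ r ∈ lev x 3, r ≠ p := by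
        rintro r hr rfl
        have h8 : r ∈ lev x 5 := by rw [hp]; simp
        have h9 := mem_lev.1 hr
        rw [mem_lev.1 h8] at h9
        norm_num at h9
      obtain ⟨σ, hσ, h1, h2, h3'⟩ := exists_map_three (p := p) (q := q) (r := q')
        (p' := pt 23) (q' := pt 0) (r' := pt 1)
        (hnot q (by rw [hq]; simp)).symm (hnot q' (by rw [hq]; simp)).symm hne
        (by decide +kernel) (by decide +kernel) (by decide +kernel)
      refine nf_odd_rep rH64 (by norm_num) hx ho (h3_odd (c := 7) hb ho (by decide) h7) hσ ?_ ?_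
      · rw [hp, Finset.smul_finset_singleton]
        show {σ p} = _
        rw [h1]
        decide +kernel
      · rw [hq, Finset.smul_finset_insert, Finset.smul_finset_singleton]
        show {σ q, σ q'} = _
        rw [h2, h3']
        decide +kernel

end Cfsg.Agent.Lib.Leech.NF
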