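import Cfsg.Agent.Lib.Leech.Reach
import Cfsg.Agent.Lib.Golay.Stab
import Cfsg.Agent.Lib.Golay.Dodecad
import Cfsg.Agent.Lib.Golay.Orbits

/-!
# Normal forms under the monomial group: general lemmas

Level sets of a vector; sign changes between vectors with the same absolute values.
-/

set_option autoImplicit false

namespace Cfsg.Agent.Lib.Leech.NFBase

open Cfsg Cfsg.Agent.Lib.Golay.Core Cfsg.Agent.Lib.Golay.Perm Cfsg.Agent.Lib.Leech.Basic
  Cfsg.Agent.Lib.Leech.Even Cfsg.Agent.Lib.Leech.Lat Cfsg.Agent.Lib.Leech.Mon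
  Cfsg.Agent.Lib.Leech.Packed Cfsg.Agent.Lib.Leech.Vec Cfsg.Agent.Lib.Leech.Reach
open scoped Pointwise

/-! ### Level sets -/

/-- The coordinates with given absolute value. -/
def lev (x : GolayPt → ℤ) (k : ℕ) : Finset GolayPt := Finset.univ.filter fun i => (x i).natAbs = k

@[simp] theorem mem_lev {x : GolayPt → ℤ} {k : ℕ} {i : GolayPt} : i ∈ lev x k ↔ (x i).natAbs = k := by
  simp [lev]

theorem sum_lev (x : GolayPt → ℤ) (hb : ∀ i, (x i).natAbs ≤ 8) (f : ℕ → ℤ) :
    ∑ i, f (x i).natAbs = ∑ k ∈ Finset.range 9, ((lev x k).card : ℤ) * f k := by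
  rw [← Finset.sum_fiberwise_of_maps_to (s := Finset.univ) (t := Finset.range 9)
    (g := fun i => (x i).natAbs) (fun i _ => Finset.mem_range.2 (Nat.lt_succ_of_le (hb i)))]
  refine Finset.sum_congr rfl fun k _ => ?_
  rw [Finset.sum_congr rfl (g := fun _ => f k) fun i hi => by rw [(Finset.mem_filter.1 hi).2]]
  rw [Finset.sum_const]
  simp [lev]

theorem lev_eqs (x : GolayPt → ℤ) (hb : ∀ i, (x i).natAbs ≤ 8) :
    (lev x 0).card + (lev x 1).card + (lev x 2).card + (lev x 3).card + (lev x 4).card +
        (lev x 5).card + (lev x 6).card + (lev x 7).card + (lev x 8).card = 24 ∧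
      ((lev x 1).card + 4 * (lev x 2).card + 9 * (lev x 3).card + 16 * (lev x 4).card +
        25 * (lev x 5).card + 36 * (lev x 6).card + 49 * (lev x 7).card + 64 * (lev x 8).card : ℤ) =
          sqNorm x := by
  constructor
  · have h := sum_lev x hb (fun _ => 1)
    simp only [Finset.sum_const, Finset.card_univ, mul_one] at h
    rw [card_golayPt] at h
    simp only [Finset.sum_range_succ, Finset.sum_range_zero, zero_add] at h
    simp only [nsmul_eq_mul, Nat.cast_ofNat, mul_one] at h
    exact_mod_cast h.symm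
  · have h := sum_lev x hb (fun k => (k : ℤ) ^ 2)
    have h2 : ∑ i, (((x i).natAbs : ℕ) : ℤ) ^ 2 = sqNorm x := by
      unfold sqNorm
      refine Finset.sum_congr rfl fun i _ => ?_
      exact Int.natAbs_sq (x i)
    rw [h2] at h
    rw [h]
    simp only [Finset.sum_range_succ, Finset.sum_range_zero, zero_add]
    push_cast
    ring

theorem card_lev_eq_zero {x : GolayPt → ℤ} {k : ℕ} (h : (lev x k).card = 0) (i : GolayPt) :
    (x i).natAbs ≠ k := by
  intro hk
  have : i ∈ lev x k := mem_lev.2 hk
  rw [Finset.card_eq_zero] at h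
  rw [h] at this
  simp at this

/-- The parity of the lattice vectors. -/
theorem parity_cases {x : GolayPt → ℤ} (hx : x ∈ leechLattice) :
    (∀ i, x i % 2 = 0) ∨ (∀ i, x i % 2 = 1) := by
  rw [mem_leechLattice_iff, mem_leechSet_iff] at hx
  obtain ⟨m, hm, -, -⟩ := hx
  have : m % 2 = 0 ∨ m % 2 = 1 := by omega
  rcases this with h | h
  · left
    intro i
    have := hm i
    unfold Int.ModEq at this
    omega
  · right
    intro i
    have := hm i
    unfold Int.ModEq at this
    omega

theorem lev_even_eq_zero {x : GolayPt → ℤ} (h : ∀ i, x i % 2 = 1) {k : ℕ} (hk : k % 2 = 0) :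
    (lev x k).card = 0 := by
  rw [Finset.card_eq_zero]
  apply Finset.eq_empty_of_forall_notMem
  intro i hi
  have h1 := mem_lev.1 hi
  have h2 := h i
  omega

theorem lev_odd_eq_zero {x : GolayPt → ℤ} (h : ∀ i, x i % 2 = 0) {k : ℕ} (hk : k % 2 = 1) :
    (lev x k).card = 0 := by
  rw [Finset.card_eq_zero]
  apply Finset.eq_empty_of_forall_notMem
  intro i hi
  have h1 := mem_lev.1 hi
  have h2 := h i
  omega

/-- The support of the digit word of an even vector. -/
theorem even_word_mem {x : GolayPt → ℤ} (hx : x ∈ leechLattice) (he : ∀ i, x i % 2 = 0)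
    (hb : ∀ i, (x i).natAbs ≤ 8) : lev x 2 ∪ lev x 6 ∈ Sup := by
  rw [mem_leechLattice_iff, mem_leechSet_iff] at hx
  obtain ⟨m, -, -, hw⟩ := hx
  apply mem_Sup_of_word hw
  intro j
  have h1 := digit_int (x j)
  have h2 := he j
  have h3 := hb j
  simp only [Finset.mem_union, mem_lev, digitWord]
  by_cases h4 : bit1 (x j) ≠ 0
  · rw [if_pos h4] at h1
    simp only [ne_eq, h4, not_false_eq_true, iff_true]
    omega
  · rw [if_neg h4] at h1
    simp only [ne_eq, h4, not_false_eq_true, iff_false]
    omega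

theorem card_Sup_cases {c : Finset GolayPt} (hc : c ∈ Sup) :
    c.card = 0 ∨ c.card = 8 ∨ c.card = 12 ∨ c.card = 16 ∨ c.card = 24 := by
  obtain ⟨w, hw, rfl⟩ := hc
  rw [show (support₂ w).card = hammingNorm w by simp only [support₂, hammingNorm]]
  exact hammingNorm_mem hw

theorem card_lev_union {x : GolayPt → ℤ} {a b : ℕ} (hab : a ≠ b) :
    (lev x a ∪ lev x b).card = (lev x a).card + (lev x b).card := by
  apply Finset.card_union_of_disjoint
  rw [Finset.disjoint_left]
  intro i h1 h2
  exact hab ((mem_lev.1 h1).symm.trans (mem_lev.1 h2))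

/-! ### Sign changes for odd vectors -/

theorem symmDiff_mem_Sup {c d : Finset GolayPt} (hc : c ∈ Sup) (hd : d ∈ Sup) :
    symmDiff c d ∈ Sup := by
  rw [mem_supports_iff'] at hc hd ⊢
  obtain ⟨m, hm, rfl⟩ := hc
  obtain ⟨n, hn, rfl⟩ := hd
  refine ⟨m ^^^ n, lt_4096_xor hm hn, ?_⟩
  rw [← setOf_xor, code_xor hm hn]

theorem empty_mem_Sup : (∅ : Finset GolayPt) ∈ Sup := Spor.empty_mem_supports_golayCode

theorem univ_mem_Sup : (Finset.univ : Finset GolayPt) ∈ Sup := Spor.univ_mem_supports_golayCode

/-- Odd vectors with the same absolute values differ by a sign change on a code word. -/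
theorem sign_odd {x r : GolayPt → ℤ} (hx : x ∈ leechLattice) (hr : r ∈ leechLattice)
    (hodd : ∀ i, x i % 2 = 1) (h : ∀ i, (x i).natAbs = (r i).natAbs) :
    ∃ c ∈ Sup, signedPerm 1 c x = r := by
  rw [mem_leechLattice_iff, mem_leechSet_iff] at hx hr
  obtain ⟨m, -, -, hw⟩ := hx
  obtain ⟨n, -, -, hw'⟩ := hr
  refine ⟨Finset.univ.filter fun i => x i ≠ r i, ?_, ?_⟩
  · apply mem_Sup_of_word (Submodule.add_mem _ hw hw')
    intro j
    simp only [Finset.mem_filter, Finset.mem_univ, true_and, Pi.add_apply, digitWord]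
    by_cases h1 : x j = r j
    · simp only [h1, ne_eq, not_true_eq_false, false_iff, not_not]
      exact CharTwo.add_self_eq_zero _
    · simp only [ne_eq, h1, not_false_eq_true, true_iff]
      rcases Int.natAbs_eq_natAbs_iff.1 (h j) with h2 | h2
      · exact absurd h2 h1
      · have h3 : r j = - x j := by omega
        rw [h3, bit1_neg]
        have h4 : ((x j : ℤ) : ZMod 2) = 1 := by
          have h5 : x j = 2 * (x j / 2) + 1 := by
            have := hodd j
            omega
          rw [h5]
          exact cast_two_mul_add_one _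
        rw [h4, ← add_assoc, CharTwo.add_self_eq_zero, zero_add]
        exact one_ne_zero'
  · funext i
    rw [signedPerm_apply]
    have h1 : (1 : Equiv.Perm GolayPt).symm i = i := rfl
    rw [h1]
    simp only [Finset.mem_filter, Finset.mem_univ, true_and]
    by_cases h2 : x i = r i
    · simp [h2]
    · rw [if_pos h2]
      rcases Int.natAbs_eq_natAbs_iff.1 (h i) with h3 | h3
      · exact absurd h3 h2
      · omega

/-! ### Sign changes for even vectors -/

/-- Is there a code word with a given restriction to `A`? -/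
def exCode (A t : ℕ) : Bool :=
  !(allUpTo (fun m => !(Nat.beq (Nat.land (code m) A) t)) 4096)

theorem exCode_spec {A t : ℕ} (h : exCode A t = true) : ∃ m < 4096, Nat.land (code m) A = t := by
  unfold exCode at h
  by_contra hc
  push Not at hc
  have : allUpTo (fun m => !(Nat.beq (Nat.land (code m) A) t)) 4096 = true := by
    apply allUpTo_iff.2
    intro m hm
    have h1 := hc m hm
    cases h2 : Nat.beq (Nat.land (code m) A) t with
    | false => rfl
    | true => exact absurd (Nat.eq_of_beq_eq_true h2) h1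
  rw [this] at h
  exact absurd h (by simp)

/-- The mask of one point. -/
def bitM (i : ℕ) : ℕ := Nat.shiftLeft 1 i

/-- The check that the restrictions to `A` of the code contain the points of `A` outside `c0` and
the pairs of points of `c0`. -/
def RCheck (A c0 : ℕ) : Bool :=
  allUpTo (fun q => cond (Nat.beq (bit A q) 1)
    (cond (Nat.beq (bit c0 q) 1)
      (allUpTo (fun b => cond (Nat.beq (bit c0 b) 1) (exCode A (Nat.lor (bitM q) (bitM b))) true) q)
      (exCode A (bitM q)))
    true) 24

theorem RCheck_single {A c0 : ℕ} (h : RCheck A c0 = true) {q : ℕ} (hq : q < 24)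
    (h1 : A.testBit q = true) (h2 : c0.testBit q = false) :
    ∃ m < 4096, Nat.land (code m) A = bitM q := by
  have h3 := allUpTo_iff.1 h q hq
  rw [show Nat.beq (bit A q) 1 = true by rw [bit_eq_one_iff.2 h1]; rfl,
    show Nat.beq (bit c0 q) 1 = false by rw [bit_eq_zero_iff.2 h2]; rfl] at h3
  exact exCode_spec h3

theorem RCheck_pair {A c0 : ℕ} (h : RCheck A c0 = true) {q b : ℕ} (hq : q < 24) (hb : b < q)
    (h1 : A.testBit q = true) (h2 : c0.testBit q = true) (h3 : c0.testBit b = true) :
    ∃ m < 4096, Nat.land (code m) A = Nat.lor (bitM q) (bitM b) := by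
  have h4 := allUpTo_iff.1 h q hq
  rw [show Nat.beq (bit A q) 1 = true by rw [bit_eq_one_iff.2 h1]; rfl,
    show Nat.beq (bit c0 q) 1 = true by rw [bit_eq_one_iff.2 h2]; rfl] at h4
  have h5 := allUpTo_iff.1 h4 b hb
  rw [show Nat.beq (bit c0 b) 1 = true by rw [bit_eq_one_iff.2 h3]; rfl] at h5
  exact exCode_spec h5

theorem setOf_bitM {i : ℕ} (hi : i < 24) : setOf (bitM i) = {pt i} := by
  ext p
  rw [mem_setOf, Finset.mem_singleton]
  have : bitM i = 2 ^ i := by
    show 1 <<< i = _
    rw [Nat.one_shiftLeft]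
  rw [this, Nat.testBit_two_pow]
  simp only [decide_eq_true_eq]
  constructor
  · intro h
    rw [← pt_idx p, ← h]
  · rintro rfl
    exact (idx_pt hi).symm

/-- Sets which are restrictions to `A` of code words. -/
def RS (A : ℕ) (S : Finset GolayPt) : Prop := ∃ d ∈ Sup, d ∩ setOf A = S

theorem RS_empty (A : ℕ) : RS A ∅ := ⟨∅, empty_mem_Sup, by simp⟩

theorem RS_symmDiff {A : ℕ} {S T : Finset GolayPt} (hS : RS A S) (hT : RS A T) :
    RS A (symmDiff S T) := by
  obtain ⟨d, hd, rfl⟩ := hS
  obtain ⟨e, he, rfl⟩ := hT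
  refine ⟨symmDiff d e, symmDiff_mem_Sup hd he, ?_⟩
  ext p
  simp only [Finset.mem_inter, Finset.mem_symmDiff]
  tauto

theorem RS_of_land {A t m : ℕ} (hm : m < 4096) (h : Nat.land (code m) A = t) : RS A (setOf t) := by
  refine ⟨setOf (code m), setOf_code_mem hm, ?_⟩
  rw [← setOf_inter, ← h]
  rfl

theorem RS_single {A c0 : ℕ} (h : RCheck A c0 = true) {p : GolayPt} (h1 : p ∈ setOf A)
    (h2 : p ∉ setOf c0) : RS A {p} := by
  rw [mem_setOf] at h1 h2
  have h3 : c0.testBit (idx p) = false := by simpa using h2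
  obtain ⟨m, hm, hm'⟩ := RCheck_single h (idx_lt p) h1 h3
  have := RS_of_land hm hm'
  rwa [setOf_bitM (idx_lt p), pt_idx] at this

theorem RS_pair {A c0 : ℕ} (h : RCheck A c0 = true) {p q : GolayPt} (h1 : p ∈ setOf A)
    (h1' : q ∈ setOf A) (h2 : p ∈ setOf c0) (h3 : q ∈ setOf c0) (hne : p ≠ q) : RS A {p, q} := by
  rw [mem_setOf] at h1 h1' h2 h3
  have key : ∀ a b : GolayPt, idx b < idx a → A.testBit (idx a) = true → c0.testBit (idx a) = true →
      c0.testBit (idx b) = true → RS A {a, b} := by
    intro a b hab ha hb hc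
    obtain ⟨m, hm, hm'⟩ := RCheck_pair h (idx_lt a) hab ha hb hc
    have := RS_of_land hm hm'
    rw [show Nat.lor (bitM (idx a)) (bitM (idx b)) = bitM (idx a) ||| bitM (idx b) from rfl,
      setOf_union, setOf_bitM (idx_lt a), setOf_bitM (idx_lt b), pt_idx, pt_idx] at this
    have h6 : ({a} : Finset GolayPt) ∪ {b} = {a, b} := rfl
    rwa [h6] at this
  rcases Nat.lt_or_gt_of_ne (fun h => hne (idx_injective h)) with hl | hl
  · rw [Finset.pair_comm]
    exact key q p hl h1' h3 h2
  · exact key p q hl h1 h2 h3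

/-- All the subsets of `A` meeting `c0` evenly are restrictions of code words. -/
theorem RS_of_even {A c0 : ℕ} (h : RCheck A c0 = true) (S : Finset GolayPt) (hS : S ⊆ setOf A)
    (hev : Even (S ∩ setOf c0).card) : RS A S := by
  induction S using Finset.strongInduction with
  | H S ih =>
    by_cases h1 : ∃ q ∈ S, q ∉ setOf c0
    · obtain ⟨q, hq, hq'⟩ := h1
      have h2 : RS A (S.erase q) := by
        apply ih _ (Finset.erase_ssubset hq) ((Finset.erase_subset _ _).trans hS)
        have h3 : S.erase q ∩ setOf c0 = S ∩ setOf c0 := by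
          ext p
          simp only [Finset.mem_inter, Finset.mem_erase]
          constructor
          · rintro ⟨⟨_, h4⟩, h5⟩
            exact ⟨h4, h5⟩
          · rintro ⟨h4, h5⟩
            exact ⟨⟨fun hh => hq' (hh ▸ h5), h4⟩, h5⟩
        rwa [h3]
      have h3 := RS_symmDiff h2 (RS_single h (hS hq) hq')
      convert h3 using 1
      ext p
      simp only [Finset.mem_symmDiff, Finset.mem_erase, Finset.mem_singleton]
      by_cases hp : p = q
      · subst hp; simp [hq]
      · simp [hp]
    · push Not at h1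
      by_cases h2 : S = ∅
      · rw [h2]
        exact RS_empty A
      · obtain ⟨a, ha⟩ := Finset.nonempty_iff_ne_empty.2 h2
        have h3 : S ∩ setOf c0 = S := Finset.inter_eq_left.2 h1
        rw [h3] at hev
        have h4 : 2 ≤ S.card := by
          have h5 : 0 < S.card := Finset.card_pos.2 ⟨a, ha⟩
          obtain ⟨r, hr⟩ := hev
          omega
        obtain ⟨b, hb, hba⟩ : ∃ b ∈ S, b ≠ a := by
          by_contra hcon
          push Not at hcon
          have : S ⊆ {a} := fun x hx => Finset.mem_singleton.2 (hcon x hx)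
          have := Finset.card_le_card this
          simp at this
          omega
        have h5 : RS A ((S.erase a).erase b) := by
          apply ih _ (Finset.ssubset_of_subset_of_ssubset (Finset.erase_subset _ _) (Finset.erase_ssubset ha))
          · exact (Finset.erase_subset _ _).trans ((Finset.erase_subset _ _).trans hS)
          · have h6 : (S.erase a).erase b ∩ setOf c0 = (S.erase a).erase b :=
              Finset.inter_eq_left.2 ((Finset.erase_subset _ _).trans ((Finset.erase_subset _ _).trans h1))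
            rw [h6, Finset.card_erase_of_mem (Finset.mem_erase.2 ⟨hba, hb⟩), Finset.card_erase_of_mem ha]
            obtain ⟨r, hr⟩ := hev
            refine ⟨r - 1, ?_⟩
            omega
        have h6 := RS_symmDiff h5 (RS_pair h (hS ha) (hS hb) (h1 a ha) (h1 b hb) (Ne.symm hba))
        convert h6 using 1
        ext p
        simp only [Finset.mem_symmDiff, Finset.mem_erase, Finset.mem_insert, Finset.mem_singleton]
        by_cases hp : p = a
        · subst hp; simp [ha, hba.symm]
        · by_cases hq : p = b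
          · subst hq; simp [hb, hba]
          · simp [hp, hq]

/-- Even vectors with the same absolute values. -/
theorem sign_even {x r : GolayPt → ℤ} {A c0 : ℕ} (hx : x ∈ leechLattice) (hr : r ∈ leechLattice)
    (hxe : ∀ i, x i % 2 = 0) (hre : ∀ i, r i % 2 = 0)
    (h : ∀ i, (x i).natAbs = (r i).natAbs) (hA : ∀ i, i ∈ setOf A ↔ r i ≠ 0)
    (hc0 : ∀ i, i ∈ setOf c0 ↔ r i % 4 = 2) (hR : RCheck A c0 = true) :
    ∃ c ∈ Sup, signedPerm 1 c x = r := by
  set S : Finset GolayPt := Finset.univ.filter fun i => x i ≠ r i with hSdef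
  have hSA : S ⊆ setOf A := by
    intro i hi
    rw [hA]
    intro h0
    have h1 := (Finset.mem_filter.1 hi).2
    have h2 := h i
    rw [h0] at h2
    simp only [Int.natAbs_zero, Int.natAbs_eq_zero] at h2
    exact h1 (by rw [h2, h0])
  have hsum : (8 : ℤ) ∣ ∑ i, (x i - r i) := by
    rw [mem_leechLattice_iff, mem_leechSet_iff] at hx hr
    obtain ⟨m, hm, hs, -⟩ := hx
    obtain ⟨n, hn, hs', -⟩ := hr
    have h1 : m % 2 = 0 := by
      have := hm (pt 0)
      have := hxe (pt 0)
      unfold Int.ModEq at *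
      omega
    have h2 : n % 2 = 0 := by
      have := hn (pt 0)
      have := hre (pt 0)
      unfold Int.ModEq at *
      omega
    rw [Finset.sum_sub_distrib]
    unfold Int.ModEq at hs hs'
    omega
  have hev : Even (S ∩ setOf c0).card := by
    have h1 : ∀ i, (x i - r i) ≡ (if i ∈ S ∩ setOf c0 then 4 else 0) [ZMOD 8] := by
      intro i
      have h2 := h i
      have h3 := hre i
      have h4 := hc0 i
      simp only [Finset.mem_inter, hSdef, Finset.mem_filter, Finset.mem_univ, true_and]
      unfold Int.ModEq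
      by_cases h5 : x i = r i
      · simp [h5]
      · have h6 : x i = - r i := by
          rcases Int.natAbs_eq_natAbs_iff.1 h2 with h7 | h7
          · exact absurd h7 h5
          · exact h7
        rw [h6]
        by_cases h7 : i ∈ setOf c0
        · have h8 := h4.1 h7
          rw [if_pos ⟨by omega, h7⟩]
          omega
        · have h8 : r i % 4 ≠ 2 := fun hh => h7 (h4.2 hh)
          rw [if_neg (fun hh => h7 hh.2)]
          omega
    have h2 : ∑ i, (x i - r i) ≡ ∑ i, (if i ∈ S ∩ setOf c0 then (4 : ℤ) else 0) [ZMOD 8] :=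
      Int.ModEq.sum fun i _ => h1 i
    have h3 : ∑ i, (if i ∈ S ∩ setOf c0 then (4 : ℤ) else 0) = 4 * ((S ∩ setOf c0).card : ℤ) := by
      rw [Finset.sum_ite_mem, Finset.univ_inter, Finset.sum_const, nsmul_eq_mul, mul_comm]
    rw [h3] at h2
    obtain ⟨e, he⟩ := hsum
    rw [he] at h2
    unfold Int.ModEq at h2
    have h4 : ((S ∩ setOf c0).card : ℤ) % 2 = 0 := by omega
    exact Nat.even_iff.2 (by omega)
  obtain ⟨d, hd, hdS⟩ := RS_of_even hR S hSA hev
  refine ⟨d, hd, ?_⟩
  funext i
  rw [signedPerm_apply]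
  have h1 : (1 : Equiv.Perm GolayPt).symm i = i := rfl
  rw [h1]
  by_cases h2 : r i = 0
  · have h3 := h i
    rw [h2] at h3
    simp only [Int.natAbs_zero, Int.natAbs_eq_zero] at h3
    rw [h3, h2]
    simp
  · have h3 : i ∈ setOf A := (hA i).2 h2
    by_cases h4 : i ∈ d
    · rw [if_pos h4]
      have h5 : i ∈ S := by
        rw [← hdS]
        exact Finset.mem_inter.2 ⟨h4, h3⟩
      have h6 := (Finset.mem_filter.1 h5).2
      rcases Int.natAbs_eq_natAbs_iff.1 (h i) with h7 | h7
      · exact absurd h7 h6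
      · omega
    · rw [if_neg h4]
      by_contra h5
      have h6 : i ∈ S := Finset.mem_filter.2 ⟨Finset.mem_univ _, h5⟩
      rw [← hdS] at h6
      exact h4 (Finset.mem_inter.1 h6).1

/-! ### Moving patterns -/

/-- Absolute values with three levels. -/
def form (S T : Finset GolayPt) (a b c : ℕ) (i : GolayPt) : ℕ :=
  if i ∈ S then a else if i ∈ T then b else c

theorem form_of_lev {x : GolayPt → ℤ} {a b c : ℕ} (hab : a ≠ b)
    (h : ∀ i, (x i).natAbs = a ∨ (x i).natAbs = b ∨ (x i).natAbs = c) (i : GolayPt) :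
    (x i).natAbs = form (lev x a) (lev x b) a b c i := by
  unfold form
  by_cases h1 : (x i).natAbs = a
  · rw [if_pos (mem_lev.2 h1)]
    exact h1
  · rw [if_neg (fun h2 => h1 (mem_lev.1 h2))]
    by_cases h2 : (x i).natAbs = b
    · rw [if_pos (mem_lev.2 h2)]
      exact h2
    · rw [if_neg (fun h3 => h2 (mem_lev.1 h3))]
      rcases h i with h3 | h3 | h3
      · exact absurd h3 h1
      · exact absurd h3 h2
      · exact h3

theorem form_move {σ : Equiv.Perm GolayPt} {S T S0 T0 : Finset GolayPt} {a b c : ℕ}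
    (h1 : σ • S = S0) (h2 : σ • T = T0) (i : GolayPt) :
    form S T a b c (σ.symm i) = form S0 T0 a b c i := by
  unfold form
  have key : ∀ U : Finset GolayPt, σ.symm i ∈ U ↔ i ∈ σ • U := by
    intro U
    rw [Finset.mem_smul_finset]
    constructor
    · intro h
      exact ⟨_, h, by show σ (σ.symm i) = i; simp⟩
    · rintro ⟨j, hj, rfl⟩
      have : σ.symm (σ • j) = j := by
        show σ.symm (σ j) = j
        simp
      rwa [this]
  rw [← h1, ← h2]
  simp only [key]

/-- Normal form of odd vectors. -/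
theorem nf_odd {x r : GolayPt → ℤ} {σ : Equiv.Perm GolayPt} (hσ : σ ∈ M24)
    (hx : x ∈ leechLattice) (hr : r ∈ leechLattice) (hodd : ∀ i, x i % 2 = 1)
    (h : ∀ i, (x (σ.symm i)).natAbs = (r i).natAbs) : NRel x r := by
  have h1 := nrel_signed hσ empty_mem_Sup hx
  have h2 : ∀ i, signedPerm σ ∅ x i = x (σ.symm i) := fun i => by
    rw [signedPerm_apply]
    simp
  obtain ⟨c, hc, hc'⟩ := sign_odd h1.mem_right hr (fun i => by rw [h2]; exact hodd _)
    (fun i => by rw [h2]; exact h i)
  have h3 := nrel_signed (M24.one_mem) hc h1.mem_right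
  rw [hc'] at h3
  exact h1.trans h3

/-- Normal form of even vectors. -/
theorem nf_even {x r : GolayPt → ℤ} {σ : Equiv.Perm GolayPt} {A c0 : ℕ} (hσ : σ ∈ M24)
    (hx : x ∈ leechLattice) (hr : r ∈ leechLattice) (he : ∀ i, x i % 2 = 0)
    (hre : ∀ i, r i % 2 = 0) (hA : ∀ i, i ∈ setOf A ↔ r i ≠ 0)
    (hc0 : ∀ i, i ∈ setOf c0 ↔ r i % 4 = 2) (hR : RCheck A c0 = true)
    (h : ∀ i, (x (σ.symm i)).natAbs = (r i).natAbs) : NRel x r := by
  have h1 := nrel_signed hσ empty_mem_Sup hx
  have h2 : ∀ i, signedPerm σ ∅ x i = x (σ.symm i) := fun i => by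
    rw [signedPerm_apply]
    simp
  obtain ⟨c, hc, hc'⟩ := sign_even h1.mem_right hr (fun i => by rw [h2]; exact he _) hre
    (fun i => by rw [h2]; exact h i) hA hc0 hR
  have h3 := nrel_signed (M24.one_mem) hc h1.mem_right
  rw [hc'] at h3
  exact h1.trans h3

end Cfsg.Agent.Lib.Leech.NFBase
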