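import Cfsg.Agent.Lib.Leech.Trans
import Cfsg.Agent.Lib.Leech.Classes

/-!
# The order of the automorphism group of the lattice

Orbit-stabiliser on the vectors of norm 64: the stabiliser of `8 e_i` lies in the monomial group.
-/

set_option autoImplicit false

namespace Cfsg.Agent.Lib.Leech.Order

open Cfsg Cfsg.Agent.Lib.Golay.Core Cfsg.Agent.Lib.Golay.Perm
  Cfsg.Agent.Lib.Leech.Basic Cfsg.Agent.Lib.Leech.Lat Cfsg.Agent.Lib.Leech.Gen
  Cfsg.Agent.Lib.Leech.Mon Cfsg.Agent.Lib.Leech.Packed Cfsg.Agent.Lib.Leech.Vec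
  Cfsg.Agent.Lib.Leech.Reach Cfsg.Agent.Lib.Leech.Trans Cfsg.Agent.Lib.Leech.Count
open scoped Pointwise

/-! ### Orbit-stabiliser for transitive norm shells -/

theorem sqNorm_smul (g : Co0) (v : L) : sqNorm ((g • v : L) : GolayPt → ℤ) = sqNorm (v : GolayPt → ℤ) :=
  smul_sqNorm g v

theorem orbit_eq {N : ℤ} {v : L} (hv : sqNorm (v : GolayPt → ℤ) = N)
    (htr : ∀ w : L, sqNorm (w : GolayPt → ℤ) = N → ∃ g : Co0, g • v = w) :
    MulAction.orbit Co0 v = {w : L | sqNorm (w : GolayPt → ℤ) = N} := by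
  ext w
  simp only [MulAction.mem_orbit_iff, Set.mem_setOf_eq]
  constructor
  · rintro ⟨g, rfl⟩
    show sqNorm ((g • v : L) : GolayPt → ℤ) = N
    rw [sqNorm_smul, hv]
  · intro h
    exact htr w h

theorem card_eq_of_trans {N : ℤ} {v : L} (hv : sqNorm (v : GolayPt → ℤ) = N)
    (htr : ∀ w : L, sqNorm (w : GolayPt → ℤ) = N → ∃ g : Co0, g • v = w) :
    Nat.card (MulAction.stabilizer Co0 v) * {x : GolayPt → ℤ | x ∈ leechLattice ∧ sqNorm x = N}.ncard =
      Nat.card Co0 := by
  rw [← Cfsg.Agent.Lib.Leech.Classes.ncard_L N _ rfl, ← orbit_eq hv htr, ← MulAction.index_stabilizer]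
  exact Subgroup.card_mul_index _

/-! ### The standard cross -/

/-- Vectors with all coordinates divisible by 4 and sum divisible by 8 are in the lattice. -/
theorem mem_of_four {x : GolayPt → ℤ} (h : ∀ i, (4 : ℤ) ∣ x i) (hs : (8 : ℤ) ∣ ∑ i, x i) :
    x ∈ leechLattice :=
  four_mem leechLattice b4_mem (e8_mem none) x h hs

theorem stdCross_mem {y : GolayPt → ℤ} (hy : y ∈ stdCross) : y ∈ leechLattice := by
  obtain ⟨j, s, hs, rfl⟩ := hy
  apply mem_of_four
  · intro i
    by_cases hij : i = j
    · subst hij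
      rw [Pi.single_eq_same]
      rcases hs with rfl | rfl <;> norm_num
    · rw [Pi.single_eq_of_ne hij]
      exact dvd_zero _
  · rw [Finset.sum_pi_single']
    simp only [Finset.mem_univ, if_true]
    rcases hs with rfl | rfl <;> norm_num

theorem sqNorm_stdCross {y : GolayPt → ℤ} (hy : y ∈ stdCross) : sqNorm y = 64 := by
  obtain ⟨j, s, hs, rfl⟩ := hy
  unfold sqNorm
  have h : ∀ i, (Pi.single j s : GolayPt → ℤ) i ^ 2 = (Pi.single j (s ^ 2) : GolayPt → ℤ) i := by
    intro i
    by_cases hij : i = j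
    · subst hij
      simp
    · simp [Pi.single_eq_of_ne hij]
  rw [Finset.sum_congr rfl fun i _ => h i, Finset.sum_pi_single']
  simp only [Finset.mem_univ, if_true]
  rcases hs with rfl | rfl <;> norm_num

theorem ncard_stdCross : stdCross.ncard = 48 := by
  have h : stdCross = (fun p : GolayPt × Bool => (Pi.single p.1 (if p.2 then 8 else -8) : GolayPt → ℤ)) ''
      Set.univ := by
    ext y
    simp only [stdCross_iff, Set.image_univ, Set.mem_range, Prod.exists]
    constructor
    · rintro ⟨i, s, hs | hs, rfl⟩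
      · exact ⟨i, true, by simp [hs]⟩
      · exact ⟨i, false, by simp [hs]⟩
    · rintro ⟨i, b, rfl⟩
      refine ⟨i, _, ?_, rfl⟩
      cases b <;> simp
  rw [h, Set.ncard_image_of_injective, Set.ncard_univ]
  · simp [card_golayPt]
  · rintro ⟨i, b⟩ ⟨j, c⟩ hh
    simp only at hh
    have h1 := single_ne_neg (by cases b <;> norm_num) hh
    obtain ⟨rfl, h2⟩ := h1
    cases b <;> cases c <;> simp_all

theorem stdCross_sub_cross (i : GolayPt) : stdCross ⊆ cross (e8 i) := by
  intro y hy
  refine ⟨stdCross_mem hy, ?_, ?_⟩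
  · rw [sqNorm_stdCross hy, sqNorm_stdCross (e8_mem_stdCross i)]
  · obtain ⟨j, s, hs, rfl⟩ := hy
    refine ⟨Pi.single i 4 - Pi.single j (s / 2), ?_, ?_⟩
    · apply mem_of_four
      · intro k
        simp only [Pi.sub_apply]
        apply dvd_sub
        · by_cases hk : k = i
          · subst hk
            simp
          · simp [Pi.single_eq_of_ne hk]
        · by_cases hk : k = j
          · subst hk
            rw [Pi.single_eq_same]
            rcases hs with rfl | rfl <;> norm_num
          · simp [Pi.single_eq_of_ne hk]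
      · simp only [Pi.sub_apply]
        rw [Finset.sum_sub_distrib, Finset.sum_pi_single', Finset.sum_pi_single']
        simp only [Finset.mem_univ, if_true]
        rcases hs with rfl | rfl <;> norm_num
    · funext k
      simp only [Pi.sub_apply, Pi.smul_apply, e8]
      have h2 : (2 : ℕ) • ((Pi.single i (4 : ℤ) : GolayPt → ℤ) k - (Pi.single j (s / 2) : GolayPt → ℤ) k) =
          2 * ((Pi.single i (4 : ℤ) : GolayPt → ℤ) k - (Pi.single j (s / 2) : GolayPt → ℤ) k) := by
        simp
      rw [h2]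
      have h3 : (Pi.single i (8 : ℤ) : GolayPt → ℤ) k = 2 * (Pi.single i (4 : ℤ) : GolayPt → ℤ) k := by
        by_cases hk : k = i
        · subst hk
          simp
        · simp [Pi.single_eq_of_ne hk]
      have h4 : (Pi.single j s : GolayPt → ℤ) k = 2 * (Pi.single j (s / 2) : GolayPt → ℤ) k := by
        by_cases hk : k = j
        · subst hk
          rw [Pi.single_eq_same, Pi.single_eq_same]
          rcases hs with rfl | rfl <;> norm_num
        · simp [Pi.single_eq_of_ne hk]
      rw [h3, h4]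
      ring

theorem cross_e8 (i : GolayPt) : cross (e8 i) = stdCross := by
  symm
  have h1 := Cfsg.Agent.Lib.Leech.Classes.ncard_cross (e8_mem i) (sqNorm_stdCross (e8_mem_stdCross i))
  exact Set.eq_of_subset_of_ncard_le (stdCross_sub_cross i) (by rw [h1, ncard_stdCross])
    (Set.finite_of_ncard_ne_zero (by rw [h1]; norm_num))

/-- Fixing `8 e_i` implies preserving the standard cross. -/
theorem pres_of_fix {g : Co0} {i : GolayPt} (h : g • e8L i = e8L i) : PresCross g := by
  intro v hv
  have h1 : (v : GolayPt → ℤ) ∈ cross (e8 i) := stdCross_sub_cross i hv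
  obtain ⟨-, -, z, hz, h2⟩ := h1
  rw [← cross_e8 i]
  refine ⟨(g • v).2, ?_, ?_⟩
  · rw [sqNorm_smul, sqNorm_stdCross hv, sqNorm_stdCross (e8_mem_stdCross i)]
  · refine ⟨((g • (⟨z, hz⟩ : L) : L) : GolayPt → ℤ), (g • (⟨z, hz⟩ : L)).2, ?_⟩
    have h3 : e8L i - v = 2 • (⟨z, hz⟩ : L) := Subtype.ext h2
    have h4 : g • e8L i - g • v = 2 • (g • (⟨z, hz⟩ : L)) := by
      rw [← smul_nsmul, ← h3, smul_sub]
    rw [h] at h4
    exact congrArg Subtype.val h4

theorem orbit_NN (i : GolayPt) :
    MulAction.orbit NN (e8L i) = {v : L | (v : GolayPt → ℤ) ∈ stdCross} := by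
  ext v
  simp only [MulAction.mem_orbit_iff, Set.mem_setOf_eq]
  constructor
  · rintro ⟨⟨g, hg⟩, rfl⟩
    exact hg _ (e8_mem_stdCross i)
  · rintro ⟨j, s, hs, hv⟩
    obtain ⟨σ, hσ, hσi⟩ := Cfsg.Agent.Lib.Golay.Stab.exists_map_one i j
    have key : ∀ (c : Finset GolayPt) (hc : c ∈ Sup), (if j ∈ c then (-8 : ℤ) else 8) = s →
        ∃ x : NN, x • e8L i = v := by
      intro c hc h
      refine ⟨⟨monG σ hσ c hc, monG_mem_NN _ _ _ _⟩, Subtype.ext ?_⟩
      show signedPerm σ c (e8 i) = v.1
      unfold e8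
      rw [signedPerm_single, hσi, hv, h]
    rcases hs with rfl | rfl
    · exact key ∅ NFBase.empty_mem_Sup (by simp)
    · exact key Finset.univ NFBase.univ_mem_Sup (by simp)

theorem ncard_stdCross_L : {v : L | (v : GolayPt → ℤ) ∈ stdCross}.ncard = 48 := by
  rw [← ncard_stdCross, ← Set.ncard_image_of_injective _ Subtype.val_injective]
  congr 1
  ext y
  simp only [Set.mem_image, Set.mem_setOf_eq]
  constructor
  · rintro ⟨v, hv, rfl⟩
    exact hv
  · intro hy
    exact ⟨⟨y, stdCross_mem hy⟩, hy, rfl⟩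

theorem stab_le_NN (i : GolayPt) : MulAction.stabilizer Co0 (e8L i) ≤ NN :=
  fun _ hg => pres_of_fix hg

theorem card_NN : Nat.card NN = 4096 * 244823040 := card_presCross

theorem card_stab_e8 (i : GolayPt) : Nat.card (MulAction.stabilizer Co0 (e8L i)) * 48 = Nat.card NN := by
  have h1 : (MulAction.stabilizer NN (e8L i)) = (MulAction.stabilizer Co0 (e8L i)).subgroupOf NN := by
    ext x
    rfl
  have h2 : Nat.card (MulAction.stabilizer NN (e8L i)) = Nat.card (MulAction.stabilizer Co0 (e8L i)) := by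
    rw [h1]
    exact Nat.card_congr (Subgroup.subgroupOfEquivOfLe (stab_le_NN i)).toEquiv
  rw [← h2, ← ncard_stdCross_L, ← orbit_NN i, ← MulAction.index_stabilizer]
  exact Subgroup.card_mul_index _

theorem sqNorm_e8L (i : GolayPt) : sqNorm ((e8L i : L) : GolayPt → ℤ) = 64 :=
  sqNorm_stdCross (e8_mem_stdCross i)

/-- **The order of the automorphism group of the lattice.** -/
theorem card_Co0 : Nat.card Co0 = 8315553613086720000 := by
  have h1 := card_eq_of_trans (sqNorm_e8L none) (fun w hw => trans64 _ w (sqNorm_e8L none) hw)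
  rw [ncard_norm64] at h1
  have h2 := card_stab_e8 none
  rw [card_NN] at h2
  have h3 : Nat.card (MulAction.stabilizer Co0 (e8L none)) = 20891566080 :=
    Nat.eq_of_mul_eq_mul_right (by norm_num : 0 < 48) (h2.trans (by norm_num))
  rw [← h1, h3]

/-- Orders of the stabilisers of vectors of norm 32 and 48. -/
theorem card_stab32 {v : L} (hv : sqNorm (v : GolayPt → ℤ) = 32) :
    Nat.card (MulAction.stabilizer Co0 v) = 42305421312000 := by
  have h1 := card_eq_of_trans hv (fun w hw => trans32 _ w hv hw)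
  rw [ncard_norm32, card_Co0] at h1
  exact Nat.eq_of_mul_eq_mul_right (by norm_num : 0 < 196560) (h1.trans (by norm_num))

theorem card_stab48 {v : L} (hv : sqNorm (v : GolayPt → ℤ) = 48) :
    Nat.card (MulAction.stabilizer Co0 v) = 495766656000 := by
  have h1 := card_eq_of_trans hv (fun w hw => trans48 _ w hv hw)
  rw [ncard_norm48, card_Co0] at h1
  exact Nat.eq_of_mul_eq_mul_right (by norm_num : 0 < 16773120) (h1.trans (by norm_num))

end Cfsg.Agent.Lib.Leech.Order
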