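import Cfsg.Agent.Lib.Leech.Co1

/-!
# Data for the automorphisms of the central quotient

The words used below: `Ag` is the translation `x ↦ x + 1`, `Zg` is the multiplication `x ↦ 2 x`, both
as coordinate permutations; `Tg` is a sign change on a dodecad; `Rg` is an element of order 3
commuting with `Zg`.  Words are checked on the vectors `8 e_i`.
-/

set_option autoImplicit false

namespace Cfsg.Agent.Lib.Leech.OutCo1Base

open Cfsg Cfsg.Agent.Lib.Golay.Core Cfsg.Agent.Lib.Golay.Perm Cfsg.Agent.Lib.Leech.Basic
  Cfsg.Agent.Lib.Leech.Lat Cfsg.Agent.Lib.Leech.Mon Cfsg.Agent.Lib.Leech.Packed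
  Cfsg.Agent.Lib.Leech.Vec Cfsg.Agent.Lib.Leech.Xi Cfsg.Agent.Lib.Leech.Reach
  Cfsg.Agent.Lib.Leech.Order Cfsg.Agent.Lib.Leech.Word Cfsg.Agent.Lib.Leech.Maximal
  Cfsg.Agent.Lib.Leech.Center Cfsg.Agent.Lib.Leech.Co1 Cfsg.Agent.Lib.Leech.NF
open scoped Pointwise

/-! ### Equality of words -/

theorem ext_e8 {a b : Co0} (h : ∀ i, a • e8L i = b • e8L i) : a = b := by
  apply ext_smul
  intro v
  have key : ∀ g : Co0, (8 : ℤ) • (g • v) = ∑ i, (v.1 i) • (g • e8L i) := by
    intro g
    rw [← smul_zsmul, eight_nsmul_eq_sum v]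
    have := map_sum (toHom g) (fun i => (v.1 i) • e8L i) Finset.univ
    simp only [toHom_apply, smul_zsmul] at this
    exact this
  have h1 : (8 : ℤ) • (a • v) = (8 : ℤ) • (b • v) := by
    rw [key, key]
    exact Finset.sum_congr rfl fun i _ => by rw [h i]
  apply Subtype.ext
  funext j
  have h2 := congrFun (congrArg Subtype.val h1) j
  have h3 : ((8 : ℤ) • (a • v) : L).1 j = 8 * ((a • v : L) : GolayPt → ℤ) j := rfl
  have h4 : ((8 : ℤ) • (b • v) : L).1 j = 8 * ((b • v : L) : GolayPt → ℤ) j := rfl
  rw [h3, h4] at h2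
  omega

/-- The image of a packed vector under a word. -/
def imgW (w : List (ℕ × ℕ)) : ℕ → ℕ :=
  List.rec (motive := fun _ => ℕ → ℕ) (fun n => n)
    (fun o _ ih n => Nat.rec (motive := fun _ => ℕ) 0 (fun k _ => ih (Nat.succ k)) (opImg o n)) w

/-- Two words agree on one vector. -/
def eqAt (u v : List (ℕ × ℕ)) (n : ℕ) : Bool :=
  Nat.rec (motive := fun _ => Bool) false
    (fun k _ => cond (runW u n (Nat.succ k)) (runW v n (Nat.succ k)) false) (imgW u n)

/-- Two words agree on the vectors `8 e_i`. -/
def eqW (u v : List (ℕ × ℕ)) : Bool := allUpTo (fun k => eqAt u v (nE k 0)) 24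

theorem eqAt_spec {u v : List (ℕ × ℕ)} {n : ℕ} (h : eqAt u v n = true)
    (hn : dec n ∈ leechLattice) :
    wG u • (⟨dec n, hn⟩ : L) = wG v • (⟨dec n, hn⟩ : L) := by
  unfold eqAt at h
  cases h1 : imgW u n with
  | zero => rw [h1] at h; exact absurd h (by simp)
  | succ k =>
    rw [h1] at h
    simp only at h
    cases h2 : runW u n (Nat.succ k) with
    | false => rw [h2] at h; exact absurd h (by simp)
    | true =>
      rw [h2] at h
      have h3 : runW v n (Nat.succ k) = true := h
      apply Subtype.ext
      rw [wG_smul u h2 hn, wG_smul v h3 hn]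

theorem wG_eq {u v : List (ℕ × ℕ)} (h : eqW u v = true) : wG u = wG v := by
  apply ext_e8
  intro i
  have hi := idx_lt i
  have h1 := allUpTo_iff.1 h _ hi
  have hm : dec (nE (idx i) 0) ∈ leechLattice := by
    rw [← e8_eq_dec hi]
    exact e8_mem _
  have h2 := eqAt_spec h1 hm
  have h3 : (⟨dec (nE (idx i) 0), hm⟩ : L) = e8L i := by
    apply Subtype.ext
    show dec (nE (idx i) 0) = e8 i
    rw [← e8_eq_dec hi, pt_idx]
  rwa [h3] at h2

@[simp] theorem wG_nil : wG [] = 1 := rfl

@[simp] theorem wG_cons (o : ℕ × ℕ) (w : List (ℕ × ℕ)) : wG (o :: w) = wG w * opG o := rfl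

theorem wG_append (u v : List (ℕ × ℕ)) : wG (u ++ v) = wG v * wG u := by
  induction u with
  | nil => simp
  | cons o u ih => simp [ih, mul_assoc]

/-- Repeated word. -/
def rep (u : List (ℕ × ℕ)) : ℕ → List (ℕ × ℕ)
  | 0 => []
  | n + 1 => u ++ rep u n

theorem wG_rep (u : List (ℕ × ℕ)) (n : ℕ) : wG (rep u n) = wG u ^ n := by
  induction n with
  | zero => simp [rep]
  | succ n ih => rw [rep, wG_append, ih, pow_succ]

theorem opG_mon {P c : ℕ} (h0 : P ≠ 0) (hP : checkAut P = true) (hc : c < 2 ^ 24)
    (hc' : isCode c = true) :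
    opG (P, c) = monG (g P) (g_mem_M24 hP) (setOf c) (setOf_mem_of_isCode hc hc') := by
  have h2 : (checkAut (P, c).1 = true ∧ (P, c).2 < 2 ^ 24 ∧ isCode (P, c).2 = true) := ⟨hP, hc, hc'⟩
  unfold opG
  rw [if_neg h0, dif_pos h2]

theorem setOf_zero : setOf 0 = ∅ := by
  ext p
  simp [mem_setOf]

theorem opG_uu {P : ℕ} (h0 : P ≠ 0) (hP : checkAut P = true) :
    opG (P, 0) = uu (g P) (g_mem_M24 hP) := by
  rw [opG_mon h0 hP (by norm_num) (by decide +kernel)]
  unfold uu
  congr 1

/-! ### Not central -/

/-- The word sends `8 e` to a vector whose coordinate there is not `± 8`. -/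
def notCen (w : List (ℕ × ℕ)) (m : ℕ) : Bool :=
  cond (runW w nA64 m) (cond (Nat.beq (img m 23) 24) false (cond (Nat.beq (img m 23) 8) false true)) false

theorem not_cen {w : List (ℕ × ℕ)} {m : ℕ} (h : notCen w m = true) :
    wG w ∉ Subgroup.center Co0 := by
  unfold notCen at h
  cases h1 : runW w nA64 m with
  | false => rw [h1] at h; exact absurd h (by simp)
  | true =>
    rw [h1] at h
    simp only [cond_true] at h
    cases h2 : Nat.beq (img m 23) 24 with
    | true => rw [h2] at h; exact absurd h (by simp)
    | false =>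
      rw [h2] at h
      simp only [cond_false] at h
      cases h3 : Nat.beq (img m 23) 8 with
      | true => rw [h3] at h; exact absurd h (by simp)
      | false =>
        intro hc
        have h4 := wG_smul w h1 mem_A64
        rw [e8L_eq] at h4
        have h5 := congrFun h4 (pt 23)
        rw [dec_pt m (by norm_num)] at h5
        rcases Center.mem_center_iff.1 hc with h6 | h6
        · rw [h6] at h5
          have h7 : (((1 : Co0) • e8L none : L) : GolayPt → ℤ) (pt 23) = 8 := by
            show e8 none (pt 23) = 8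
            have : pt 23 = none := rfl
            rw [this]
            simp [e8]
          rw [h7] at h5
          have h8 : img m 23 = 24 := by omega
          rw [h8] at h2
          exact absurd h2 (by decide)
        · rw [h6] at h5
          have h7 : ((negG • e8L none : L) : GolayPt → ℤ) (pt 23) = -8 := by
            show - e8 none (pt 23) = -8
            have : pt 23 = none := rfl
            rw [this]
            simp [e8]
          rw [h7] at h5
          have h8 : img m 23 = 8 := by omega
          rw [h8] at h3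
          exact absurd h3 (by decide)

/-! ### The data -/

/-- The permutation `x ↦ x + 1`. -/
def PA : ℕ := 956302485175575353788796878166559809

/-- The permutation `x ↦ x - 1`. -/
def PAi : ℕ := 983478296959358443554250846857397270

/-- The permutation `x ↦ 2 x`. -/
def Pz : ℕ := 983435072843990828779021698901151808

/-- The dodecad containing `0` and the squares. -/
def D1 : ℕ := 340831

/-- The dodecad containing the extra point and the non-squares. -/
def D2 : ℕ := 16436384

def oA : ℕ × ℕ := (PA, 0)
def oAi : ℕ × ℕ := (PAi, 0)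
def oz : ℕ × ℕ := (Pz, 0)
def oT : ℕ × ℕ := (Pid, D1)

/-- The word of the element of order 3. -/
def wR : List (ℕ × ℕ) := [(236966270027324726824233382183995726, 16334734), (0, 0), (929435187350749894039635303794494807, 14582982), (0, 0), (927475537403168830775647402593934706, 12430709), (0, 0), (767854649725533564486018718027338341, 14053784)]

theorem cA : checkAut PA = true := by decide +kernel
theorem cAi : checkAut PAi = true := by decide +kernel
theorem cz : checkAut Pz = true := by decide +kernel
theorem cD1 : D1 < 2 ^ 24 ∧ isCode D1 = true := by decide +kernel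
theorem cD2 : D2 < 2 ^ 24 ∧ isCode D2 = true := by decide +kernel

theorem vA : validPerm PA = true := checkAut_valid cA
theorem vz : validPerm Pz = true := checkAut_valid cz

/-- The translation. -/
noncomputable def Ag : Co0 := uu (g PA) (g_mem_M24 cA)

/-- The multiplication by 2. -/
noncomputable def Zg : Co0 := uu (g Pz) (g_mem_M24 cz)

/-- The sign change on the dodecad. -/
noncomputable def Tg : Co0 := eps (setOf D1) (setOf_mem_of_isCode cD1.1 cD1.2)

/-- The element of order 3. -/
noncomputable def Rg : Co0 := wG wR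

theorem opG_oA : opG oA = Ag := opG_uu (by decide +kernel) cA
theorem opG_oz : opG oz = Zg := opG_uu (by decide +kernel) cz
theorem opG_oT : opG oT = Tg := opG_eps cD1.1 cD1.2

theorem wG_A : wG [oA] = Ag := by simp [opG_oA]
theorem wG_z : wG [oz] = Zg := by simp [opG_oz]
theorem wG_T : wG [oT] = Tg := by simp [opG_oT]

/-- `A⁻¹`. -/
theorem opG_oAi : opG oAi = Ag⁻¹ := by
  have h : eqW [oAi, oA] [] = true := by decide +kernel
  have h1 := wG_eq h
  simp only [wG_cons, wG_nil, one_mul, opG_oA] at h1
  exact eq_inv_of_mul_eq_one_right h1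

end Cfsg.Agent.Lib.Leech.OutCo1Base
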