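import Cfsg.Agent.Lib.Leech.OutCo1Base

/-!
# Relations among the elements of the data
-/

set_option autoImplicit false

namespace Cfsg.Agent.Lib.Leech.OutCo1Rel

open Cfsg Cfsg.Agent.Lib.Golay.Core Cfsg.Agent.Lib.Golay.Perm Cfsg.Agent.Lib.Leech.Basic
  Cfsg.Agent.Lib.Leech.Lat Cfsg.Agent.Lib.Leech.Mon Cfsg.Agent.Lib.Leech.Packed
  Cfsg.Agent.Lib.Leech.Vec Cfsg.Agent.Lib.Leech.Xi Cfsg.Agent.Lib.Leech.Reach
  Cfsg.Agent.Lib.Leech.Order Cfsg.Agent.Lib.Leech.Word Cfsg.Agent.Lib.Leech.Maximal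
  Cfsg.Agent.Lib.Leech.Center Cfsg.Agent.Lib.Leech.Co1 Cfsg.Agent.Lib.Leech.NF
  Cfsg.Agent.Lib.Leech.OutCo1Base
open scoped Pointwise


theorem A_pow : Ag ^ 23 = 1 := by
  have h : eqW (rep [oA] 23) [] = true := by decide +kernel
  have h1 := wG_eq h
  rwa [wG_rep, wG_A, wG_nil] at h1

theorem Z_pow : Zg ^ 11 = 1 := by
  have h : eqW (rep [oz] 11) [] = true := by decide +kernel
  have h1 := wG_eq h
  rwa [wG_rep, wG_z, wG_nil] at h1

/-- `z A = A A z`. -/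
theorem Z_A : Zg * Ag = Ag * Ag * Zg := by
  have h : eqW [oA, oz] [oz, oA, oA] = true := by decide +kernel
  have h1 := wG_eq h
  simp only [wG_cons, wG_nil, one_mul, opG_oA, opG_oz] at h1
  exact h1

theorem R_pow : Rg ^ 3 = 1 := by
  have h : eqW (rep wR 3) [] = true := by decide +kernel
  have h1 := wG_eq h
  rwa [wG_rep, wG_nil] at h1

theorem R_Z : Rg * Zg = Zg * Rg := by
  have h : eqW ([oz] ++ wR) (wR ++ [oz]) = true := by decide +kernel
  have h1 := wG_eq h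
  rwa [wG_append, wG_append, wG_z] at h1

theorem T_R : Tg * Rg * Tg = Rg ^ 2 := by
  have h : eqW ([oT] ++ wR ++ [oT]) (wR ++ wR) = true := by decide +kernel
  have h1 := wG_eq h
  rw [wG_append, wG_append, wG_append, wG_T] at h1
  rw [pow_two]
  exact h1

theorem T_sq : Tg ^ 2 = 1 := by
  rw [pow_two]
  exact eps_sq _ _

theorem T_Z : Tg * Zg = Zg * Tg := by
  have h : eqW [oz, oT] [oT, oz] = true := by decide +kernel
  have h1 := wG_eq h
  simp only [wG_cons, wG_nil, one_mul, opG_oT, opG_oz] at h1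
  exact h1

/-- `(A R)^24 = 1`. -/
theorem rel1 : (Ag * Rg) ^ 24 = 1 := by
  have h : eqW (rep (wR ++ [oA]) 24) [] = true := by decide +kernel
  have h1 := wG_eq h
  rwa [wG_rep, wG_append, wG_A, wG_nil] at h1

/-- `(A A A R A R R)^22 = 1`. -/
theorem rel2 : (Ag * Ag * Ag * Rg * Ag * Rg * Rg) ^ 22 = 1 := by
  have h : eqW (rep (wR ++ wR ++ [oA] ++ wR ++ [oA, oA, oA]) 22) [] = true := by decide +kernel
  have h1 := wG_eq h
  rw [wG_rep, wG_nil] at h1
  have e : wG (wR ++ wR ++ [oA] ++ wR ++ [oA, oA, oA]) = Ag * Ag * Ag * Rg * Ag * Rg * Rg := by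
    have hR : wG wR = Rg := rfl
    simp only [wG_append, wG_cons, wG_nil, one_mul, opG_oA, hR, mul_assoc]
  rw [e] at h1
  exact h1

/-- `(A R²)^24` is not central. -/
theorem bad1 : (Ag * Rg ^ 2) ^ 24 ∉ Subgroup.center Co0 := by
  have h : notCen (rep (wR ++ wR ++ [oA]) 24) 643342169182471427598664985778570801 = true := by decide +kernel
  have h1 := not_cen h
  rw [wG_rep] at h1
  have e : wG (wR ++ wR ++ [oA]) = Ag * Rg ^ 2 := by
    have hR : wG wR = Rg := rfl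
    simp only [wG_append, wG_cons, wG_nil, one_mul, opG_oA, hR, pow_two]
  rwa [e] at h1

/-- `(A⁻¹ R)^24` is not central. -/
theorem bad2 : (Ag⁻¹ * Rg) ^ 24 ∉ Subgroup.center Co0 := by
  have h : notCen (rep (wR ++ [oAi]) 24) 640578688318224424756554204345449965 = true := by decide +kernel
  have h1 := not_cen h
  rw [wG_rep] at h1
  have e : wG (wR ++ [oAi]) = Ag⁻¹ * Rg := by
    have hR : wG wR = Rg := rfl
    simp only [wG_append, wG_cons, wG_nil, one_mul, opG_oAi, hR]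
  rwa [e] at h1

/-- `(A⁻¹ A⁻¹ A⁻¹ R² A⁻¹ R² R²)^22` is not central. -/
theorem bad3 : (Ag⁻¹ * Ag⁻¹ * Ag⁻¹ * Rg ^ 2 * Ag⁻¹ * Rg ^ 2 * Rg ^ 2) ^ 22 ∉ Subgroup.center Co0 := by
  have h : notCen (rep (wR ++ wR ++ wR ++ wR ++ [oAi] ++ wR ++ wR ++ [oAi, oAi, oAi]) 22) 769132525781642179844762477315705488 = true := by
    decide +kernel
  have h1 := not_cen h
  rw [wG_rep] at h1
  have e : wG (wR ++ wR ++ wR ++ wR ++ [oAi] ++ wR ++ wR ++ [oAi, oAi, oAi]) =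
      Ag⁻¹ * Ag⁻¹ * Ag⁻¹ * Rg ^ 2 * Ag⁻¹ * Rg ^ 2 * Rg ^ 2 := by
    have hR : wG wR = Rg := rfl
    simp only [wG_append, wG_cons, wG_nil, one_mul, opG_oAi, hR, pow_two, mul_assoc]
  rwa [e] at h1

end Cfsg.Agent.Lib.Leech.OutCo1Rel
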