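import Cfsg.Agent.Lib.Leech.OutCo1Norm
import Cfsg.Agent.Lib.Leech.OutCo1Rel

/-!
# The centraliser of the element of order 11
-/

set_option autoImplicit false

namespace Cfsg.Agent.Lib.Leech.OutCo1Cent

open Cfsg Cfsg.Agent.Lib.Golay.Core Cfsg.Agent.Lib.Golay.Perm Cfsg.Agent.Lib.Leech.Basic
  Cfsg.Agent.Lib.Leech.Lat Cfsg.Agent.Lib.Leech.Mon Cfsg.Agent.Lib.Leech.Packed
  Cfsg.Agent.Lib.Leech.Vec Cfsg.Agent.Lib.Leech.Xi Cfsg.Agent.Lib.Leech.Reach
  Cfsg.Agent.Lib.Leech.Order Cfsg.Agent.Lib.Leech.Word Cfsg.Agent.Lib.Leech.Maximal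
  Cfsg.Agent.Lib.Leech.Center Cfsg.Agent.Lib.Leech.Co1 Cfsg.Agent.Lib.Leech.NF
  Cfsg.Agent.Lib.Leech.NFBase Cfsg.Agent.Lib.Leech.Even Cfsg.Agent.Lib.Leech.OutCo1Base
  Cfsg.Agent.Lib.Leech.OutCo1Norm Cfsg.Agent.Lib.Leech.OutCo1Rel
open scoped Pointwise

/-! ### Codes of permutations in the group -/

theorem pack_congr {f f' : ℕ → ℕ} {k : ℕ} (h : ∀ i < k, f i = f' i) : pack f k = pack f' k := by
  induction k with
  | zero => rfl
  | succ k ih =>
    rw [pack_succ, pack_succ, ih fun i hi => h i (Nat.lt_succ_of_lt hi), h k (Nat.lt_succ_self k)]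

theorem checkAut_of_mem {σ : Equiv.Perm GolayPt} (hσ : σ ∈ M24) :
    checkAut (pack (fun i => idx (σ (pt i))) 24) = true := by
  set P := pack (fun i => idx (σ (pt i))) 24 with hP
  have hf : ∀ j < 24, (fun i => idx (σ (pt i))) j < 32 := fun j _ => by
    have := idx_lt (σ (pt j))
    show idx (σ (pt j)) < 32
    omega
  have himg : ∀ i < 24, img P i = idx (σ (pt i)) := fun i hi => img_pack _ 24 i hf hi
  have hv : validPerm P = true := by
    unfold validPerm
    rw [Bool.and_eq_true]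
    constructor
    · apply allUpTo_iff.2
      intro i hi
      rw [himg i hi]
      have := idx_lt (σ (pt i))
      exact Nat.ble_eq_true_of_le (by omega)
    · apply Vec.beq_of_eq
      apply Nat.eq_of_testBit_eq
      intro j
      have hm : (16777215 : ℕ) = 2 ^ 24 - 1 := by norm_num
      by_cases hj : j < 24
      · have h1 : (16777215 : ℕ).testBit j = true := by
          rw [hm, Nat.testBit_two_pow_sub_one]
          simpa using hj
        rw [h1]
        apply (testBit_mapMask P 16777215 j).2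
        refine ⟨idx (σ.symm (pt j)), idx_lt _, ?_, ?_⟩
        · rw [hm, Nat.testBit_two_pow_sub_one]
          simpa using idx_lt _
        · rw [himg _ (idx_lt _), pt_idx, Equiv.apply_symm_apply, idx_pt hj]
      · have h1 : (16777215 : ℕ).testBit j = false := by
          rw [hm, Nat.testBit_two_pow_sub_one]
          simpa using hj
        rw [h1]
        cases h2 : (mapMask P 16777215).testBit j with
        | false => rfl
        | true =>
          obtain ⟨i, hi, -, h3⟩ := (testBit_mapMask P 16777215 j).1 h2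
          rw [himg i hi] at h3
          have := idx_lt (σ (pt i))
          omega
  have hg : g P = σ := by
    apply Equiv.ext
    intro p
    rw [g_apply hv, himg _ (idx_lt p), pt_idx, pt_idx]
  unfold checkAut
  rw [hv, Bool.true_and]
  apply allL_iff.2
  intro b hb
  have h1 : Cfsg.Agent.Lib.Golay.Core.setOf b ∈ Sup := by
    have := support_wordOf b
    rw [← this]
    exact ⟨_, basis_mem b hb, rfl⟩
  have h2 := perm_mem_supports hσ h1
  rw [← hg, smul_setOf hv] at h2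
  exact (setOf_mem_supports_iff (mapMask_lt hv b)).1 h2

/-! ### Orbits of the element of order 11 -/

/-- The index of the orbit representative. -/
def PCl : ℕ := 962082354895792693790338923348657184

/-- The exponent. -/
def PJ : ℕ := 6736580137028735938643161793168384

def cl (i : ℕ) : ℕ := img PCl i

def jt (i : ℕ) : ℕ := img PJ i

/-- The action on indices. -/
def hz (i : ℕ) : ℕ := img Pz i

theorem hz_lt : ∀ i < 24, hz i < 24 := by decide +kernel

theorem cl_tab : ∀ i < 24, cl i = 23 ∨ cl i = 0 ∨ cl i = 1 ∨ cl i = 5 := by decide +kernel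

theorem iter_tab : ∀ i < 24, hz^[jt i] (cl i) = i := by decide +kernel

theorem cl_lt : ∀ i < 24, cl i < 24 := by decide +kernel

theorem sum_cl (f : ℕ → ℤ) (hf : ∀ i < 24, f i = f (cl i)) :
    ∑ i ∈ Finset.range 24, f i = f 23 + f 0 + 11 * f 1 + 11 * f 5 := by
  have h2 : f 2 = f 1 := hf 2 (by norm_num)
  have h3 : f 3 = f 1 := hf 3 (by norm_num)
  have h4 : f 4 = f 1 := hf 4 (by norm_num)
  have h6 : f 6 = f 1 := hf 6 (by norm_num)
  have h7 : f 7 = f 5 := hf 7 (by norm_num)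
  have h8 : f 8 = f 1 := hf 8 (by norm_num)
  have h9 : f 9 = f 1 := hf 9 (by norm_num)
  have h10 : f 10 = f 5 := hf 10 (by norm_num)
  have h11 : f 11 = f 5 := hf 11 (by norm_num)
  have h12 : f 12 = f 1 := hf 12 (by norm_num)
  have h13 : f 13 = f 1 := hf 13 (by norm_num)
  have h14 : f 14 = f 5 := hf 14 (by norm_num)
  have h15 : f 15 = f 5 := hf 15 (by norm_num)
  have h16 : f 16 = f 1 := hf 16 (by norm_num)
  have h17 : f 17 = f 5 := hf 17 (by norm_num)
  have h18 : f 18 = f 1 := hf 18 (by norm_num)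
  have h19 : f 19 = f 5 := hf 19 (by norm_num)
  have h20 : f 20 = f 5 := hf 20 (by norm_num)
  have h21 : f 21 = f 5 := hf 21 (by norm_num)
  have h22 : f 22 = f 5 := hf 22 (by norm_num)
  simp only [Finset.sum_range_succ, Finset.sum_range_zero]
  rw [h2, h3, h4, h6, h7, h8, h9, h10, h11, h12, h13, h14, h15, h16, h17, h18, h19, h20, h21, h22]
  ring

/-- Select according to the class. -/
def vSel (a b c d : ℤ) (t : ℕ) : ℤ := if t = 23 then a else if t = 0 then b else if t = 1 then c else d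

/-- The vector with given values on the orbits. -/
def mk4 (a b c d : ℤ) : ℕ := pack (fun i => (vSel a b c d (cl i) + 16).toNat) 24

theorem dec_mk4 {a b c d : ℤ} (ha : -16 ≤ a ∧ a ≤ 15) (hb : -16 ≤ b ∧ b ≤ 15) (hc : -16 ≤ c ∧ c ≤ 15)
    (hd : -16 ≤ d ∧ d ≤ 15) {i : ℕ} (hi : i < 24) : dec (mk4 a b c d) (pt i) = vSel a b c d (cl i) := by
  have hr : ∀ t, -16 ≤ vSel a b c d t ∧ vSel a b c d t ≤ 15 := by
    intro t
    unfold vSel
    split_ifs <;> assumption
  have hf : ∀ j < 24, (fun i => (vSel a b c d (cl i) + 16).toNat) j < 32 := by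
    intro j _
    have := hr (cl j)
    show (vSel a b c d (cl j) + 16).toNat < 32
    omega
  rw [dec_pt _ hi]
  unfold mk4
  rw [img_pack _ 24 i hf hi]
  have := hr (cl i)
  have h2 : (((vSel a b c d (cl i) + 16).toNat : ℕ) : ℤ) = vSel a b c d (cl i) + 16 :=
    Int.toNat_of_nonneg (by omega)
  rw [h2]
  ring

def R8 : List ℤ := [-8, -7, -6, -5, -4, -3, -2, -1, 0, 1, 2, 3, 4, 5, 6, 7, 8]

def R2 : List ℤ := [-2, -1, 0, 1, 2]

/-- The vectors of norm 64 fixed by the element of order 11. -/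
def L12 : List (ℤ × ℤ × ℤ × ℤ) := [(-8, 0, 0, 0), (-4, -2, 2, 0), (-4, 2, -2, 0), (-2, -4, 0, 2), (-2, 4, 0, 2), (0, -8, 0, 0), (0, 8, 0, 0), (2, -4, 0, -2), (2, 4, 0, -2), (4, -2, 2, 0), (4, 2, -2, 0), (8, 0, 0, 0)]

theorem L12_complete : ∀ a ∈ R8, ∀ b ∈ R8, ∀ c ∈ R2, ∀ d ∈ R2,
    a * a + b * b + 11 * (c * c) + 11 * (d * d) = 64 → inL (mk4 a b c d) = true → (a, b, c, d) ∈ L12 := by
  decide +kernel

theorem T12 : ∀ e ∈ L12, ∃ i ∈ [0, 1, 2], ∃ k ∈ [23, 0], ∃ s ∈ [0, 1],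
    runW (rep wR i) (mk4 e.1 e.2.1 e.2.2.1 e.2.2.2) (nE k s) = true := by
  decide +kernel

theorem mem_R8 {a : ℤ} (h1 : -8 ≤ a) (h2 : a ≤ 8) : a ∈ R8 := by
  interval_cases a <;> decide

theorem mem_R2 {a : ℤ} (h1 : -2 ≤ a) (h2 : a ≤ 2) : a ∈ R2 := by
  interval_cases a <;> decide

theorem Z_e8 : Zg • e8L none = e8L none := by
  have h0 : g Pz none = none := by
    have := g_pt vz (i := 23) (by norm_num)
    rw [img_Pz23] at this
    exact this
  unfold Zg
  rw [uu_e8L, h0]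

/-- A vector of norm 64 fixed by the element of order 11 is brought to the cross. -/
theorem exists_rot_vec (y : L) (hfix : Zg • y = y) (hn : sqNorm y.1 = 64) :
    ∃ i < 3, ((Rg ^ i • y : L) : GolayPt → ℤ) ∈ stdCross := by
  have hval : ∀ i < 24, hz i < 24 ∧ (fun i => y.1 (pt i)) (hz i) = (fun i => y.1 (pt i)) i := by
    intro i hi
    refine ⟨hz_lt i hi, ?_⟩
    have h1 := coord_fix (σ := g Pz) hfix (pt i)
    rw [g_pt vz hi] at h1
    exact h1
  have hcl : ∀ i < 24, y.1 (pt i) = y.1 (pt (cl i)) := by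
    intro i hi
    have h1 := (iter_val (y := fun i => y.1 (pt i)) (f := hz) hval (jt i) (cl i) (cl_lt i hi)).2
    rw [iter_tab i hi] at h1
    exact h1
  have hs : (y.1 (pt 23)) ^ 2 + (y.1 (pt 0)) ^ 2 + 11 * (y.1 (pt 1)) ^ 2 + 11 * (y.1 (pt 5)) ^ 2 = 64 := by
    rw [← hn]
    unfold sqNorm
    rw [sum_golay]
    exact (sum_cl (fun i => (y.1 (pt i)) ^ 2) fun i hi => by
      show (y.1 (pt i)) ^ 2 = (y.1 (pt (cl i))) ^ 2
      rw [← hcl i hi]).symm
  obtain ⟨a, ha⟩ : ∃ a, a = y.1 (pt 23) := ⟨_, rfl⟩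
  obtain ⟨b, hb⟩ : ∃ b, b = y.1 (pt 0) := ⟨_, rfl⟩
  obtain ⟨c, hc⟩ : ∃ c, c = y.1 (pt 1) := ⟨_, rfl⟩
  obtain ⟨d, hd⟩ : ∃ d, d = y.1 (pt 5) := ⟨_, rfl⟩
  rw [← ha, ← hb, ← hc, ← hd] at hs
  have hc2 : -2 ≤ c ∧ c ≤ 2 := by
    constructor <;> nlinarith [sq_nonneg a, sq_nonneg b, sq_nonneg d]
  have hd2 : -2 ≤ d ∧ d ≤ 2 := by
    constructor <;> nlinarith [sq_nonneg a, sq_nonneg b, sq_nonneg c]
  have ha2 : -8 ≤ a ∧ a ≤ 8 := by
    constructor <;> nlinarith [sq_nonneg c, sq_nonneg b, sq_nonneg d]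
  have hb2 : -8 ≤ b ∧ b ≤ 8 := by
    constructor <;> nlinarith [sq_nonneg c, sq_nonneg a, sq_nonneg d]
  have hvec : y.1 = dec (mk4 a b c d) := by
    funext p
    rw [← pt_idx p]
    have hp := idx_lt p
    rw [dec_mk4 (by omega) (by omega) (by omega) (by omega) hp, hcl _ hp]
    unfold vSel
    rcases cl_tab _ hp with h | h | h | h <;> rw [h] <;> simp [ha, hb, hc, hd]
  have hL : inL (mk4 a b c d) = true := inL_of_mem (by rw [← hvec]; exact y.2)
  have hm := L12_complete a (mem_R8 ha2.1 ha2.2) b (mem_R8 hb2.1 hb2.2) c (mem_R2 hc2.1 hc2.2) d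
    (mem_R2 hd2.1 hd2.2) (by nlinarith) hL
  obtain ⟨i, hi, k, hk, s, hs', hrun⟩ := T12 _ hm
  have hmem : dec (mk4 a b c d) ∈ leechLattice := by
    rw [← hvec]
    exact y.2
  have h1 := wG_smul (rep wR i) hrun hmem
  have hy : (⟨dec (mk4 a b c d), hmem⟩ : L) = y := Subtype.ext hvec.symm
  rw [hy, wG_rep] at h1
  refine ⟨i, ?_, ?_⟩
  · simp only [List.mem_cons, List.not_mem_nil, or_false] at hi
    omega
  · have hk' : k < 24 := by
      simp only [List.mem_cons, List.not_mem_nil, or_false] at hk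
      omega
    have hs'' : s < 2 := by
      simp only [List.mem_cons, List.not_mem_nil, or_false] at hs'
      omega
    have h2 : wG wR = Rg := rfl
    rw [h2] at h1
    rw [h1]
    exact dec_nE_stdCross hk' hs''

theorem exists_rot {w : Co0} (h : w * Zg = Zg * w) : ∃ i < 3, Rg ^ i * w ∈ NN := by
  have hfix : Zg • (w • e8L none) = w • e8L none := by
    calc Zg • (w • e8L none) = (Zg * w) • e8L none := (mul_smul _ _ _).symm
      _ = (w * Zg) • e8L none := by rw [h]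
      _ = w • (Zg • e8L none) := mul_smul _ _ _
      _ = w • e8L none := by rw [Z_e8]
  obtain ⟨i, hi, h1⟩ := exists_rot_vec _ hfix (by
    rw [smul_sqNorm]
    exact sqNorm_stdCross (e8_mem_stdCross none))
  refine ⟨i, hi, mem_NN_of_cross ?_⟩
  rw [mul_smul]
  exact h1

/-! ### Permutations commuting with the element of order 11 -/

/-- Select according to the class. -/
def nSel (s23 s0 s1 s5 t : ℕ) : ℕ := if t = 23 then s23 else if t = 0 then s0 else if t = 1 then s1 else s5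

/-- The candidate commuting permutation. -/
def cand (s23 s0 s1 s5 i : ℕ) : ℕ := hz^[jt i] (nSel s23 s0 s1 s5 (cl i))

set_option maxRecDepth 100000 in
theorem cand_tab : ∀ s23 ∈ [23, 0], ∀ s0 ∈ [23, 0], ∀ s1 ∈ List.range 24, ∀ s5 ∈ List.range 24,
    checkAut (pack (cand s23 s0 s1 s5) 24) = true →
      s23 = 23 ∧ s0 = 0 ∧ ∃ k ∈ List.range 11, s1 = hz^[k] 1 ∧ s5 = hz^[k] 5 := by
  decide +kernel

theorem cand_eq : ∀ k < 11, ∀ i < 24, cand 23 0 (hz^[k] 1) (hz^[k] 5) i = hz^[k] i := by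
  decide +kernel

theorem hz_fix : ∀ t < 24, hz t = t → t = 23 ∨ t = 0 := by decide +kernel

theorem gz_pow_pt (k : ℕ) : ∀ i < 24, ((g Pz) ^ k) (pt i) = pt (hz^[k] i) ∧ hz^[k] i < 24 := by
  induction k with
  | zero =>
    intro i hi
    exact ⟨by simp, hi⟩
  | succ k ih =>
    intro i hi
    rw [pow_succ', Function.iterate_succ_apply']
    obtain ⟨h1, h2⟩ := ih i hi
    refine ⟨?_, hz_lt _ h2⟩
    show g Pz (((g Pz) ^ k) (pt i)) = _
    rw [h1, g_pt vz h2]
    rfl

theorem perm_z {σ : Equiv.Perm GolayPt} (hσ : σ ∈ M24) (h : σ * g Pz = g Pz * σ) :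
    ∃ k : ℕ, σ = (g Pz) ^ k := by
  have hS : ∀ i < 24, idx (σ (pt (hz i))) = hz (idx (σ (pt i))) := by
    intro i hi
    have h1 : σ (g Pz (pt i)) = g Pz (σ (pt i)) := congrFun (congrArg DFunLike.coe h) (pt i)
    rw [g_pt vz hi] at h1
    show idx (σ (pt (img Pz i))) = _
    rw [h1, idx_g vz]
    rfl
  have hit : ∀ n, ∀ i < 24, hz^[n] i < 24 ∧ idx (σ (pt (hz^[n] i))) = hz^[n] (idx (σ (pt i))) := by
    intro n
    induction n with
    | zero => exact fun i hi => ⟨hi, rfl⟩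
    | succ n ih =>
      intro i hi
      obtain ⟨h1, h2⟩ := ih i hi
      rw [Function.iterate_succ_apply', Function.iterate_succ_apply']
      exact ⟨hz_lt _ h1, by rw [hS _ h1, h2]⟩
  have hcand : ∀ i < 24, idx (σ (pt i)) =
      cand (idx (σ (pt 23))) (idx (σ (pt 0))) (idx (σ (pt 1))) (idx (σ (pt 5))) i := by
    intro i hi
    have h1 := (hit (jt i) (cl i) (cl_lt i hi)).2
    rw [iter_tab i hi] at h1
    rw [h1]
    unfold cand nSel
    rcases cl_tab i hi with h2 | h2 | h2 | h2 <;> rw [h2] <;> simp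
  have hcheck := checkAut_of_mem hσ
  rw [pack_congr hcand] at hcheck
  have hf23 : idx (σ (pt 23)) = 23 ∨ idx (σ (pt 23)) = 0 := by
    apply hz_fix _ (idx_lt _)
    have := hS 23 (by norm_num)
    rw [show hz 23 = 23 from img_Pz23] at this
    exact this.symm
  have hf0 : idx (σ (pt 0)) = 23 ∨ idx (σ (pt 0)) = 0 := by
    apply hz_fix _ (idx_lt _)
    have := hS 0 (by norm_num)
    rw [show hz 0 = 0 by decide +kernel] at this
    exact this.symm
  obtain ⟨h1, h2, k, hk, h3, h4⟩ := cand_tab _ (by simpa using hf23) _ (by simpa using hf0) _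
    (List.mem_range.2 (idx_lt _)) _ (List.mem_range.2 (idx_lt _)) hcheck
  have hk := List.mem_range.1 hk
  refine ⟨k, Equiv.ext fun p => ?_⟩
  rw [← pt_idx p]
  have hp := idx_lt p
  rw [(gz_pow_pt k _ hp).1, ← cand_eq k hk _ hp, ← h3, ← h4, ← h1, ← h2, ← hcand _ hp, pt_idx]
  exact (pt_idx _).symm

/-! ### Invariant sign changes -/

/-- The union of orbits. -/
def MM (b23 b0 b1 b5 : Bool) : ℕ :=
  (cond b23 8388608 0) + (cond b0 1 0) + (cond b1 340830 0) + (cond b5 8047776 0)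

/-- Select according to the class. -/
def bSel (b23 b0 b1 b5 : Bool) (t : ℕ) : Bool := if t = 23 then b23 else if t = 0 then b0 else if t = 1 then b1 else b5

theorem MM_bit : ∀ b23 b0 b1 b5 : Bool, ∀ i < 24, (MM b23 b0 b1 b5).testBit i = bSel b23 b0 b1 b5 (cl i) := by
  decide +kernel

theorem MM_lt : ∀ b23 b0 b1 b5 : Bool, MM b23 b0 b1 b5 < 2 ^ 24 := by decide +kernel

theorem MM_code : ∀ b23 b0 b1 b5 : Bool, isCode (MM b23 b0 b1 b5) = true →
    MM b23 b0 b1 b5 = 0 ∨ MM b23 b0 b1 b5 = 16777215 ∨ MM b23 b0 b1 b5 = D1 ∨ MM b23 b0 b1 b5 = D2 := by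
  decide +kernel

theorem sign_z {c : Finset GolayPt} (hc : c ∈ Sup) (h : c = g Pz • c) :
    c = Cfsg.Agent.Lib.Golay.Core.setOf 0 ∨ c = Cfsg.Agent.Lib.Golay.Core.setOf 16777215 ∨
      c = Cfsg.Agent.Lib.Golay.Core.setOf D1 ∨ c = Cfsg.Agent.Lib.Golay.Core.setOf D2 := by
  have hB : ∀ i < 24, hz i < 24 ∧ (fun i => if pt i ∈ c then (1 : ℤ) else 0) (hz i) =
      (fun i => if pt i ∈ c then (1 : ℤ) else 0) i := by
    intro i hi
    refine ⟨hz_lt i hi, ?_⟩
    have h1 : pt (hz i) ∈ c ↔ pt i ∈ c := by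
      have h2 : pt (hz i) = g Pz (pt i) := (g_pt vz hi).symm
      rw [h2]
      conv_lhs => rw [h]
      exact Finset.smul_mem_smul_finset_iff _
    simp only [h1]
  have hcl : ∀ i < 24, (pt i ∈ c ↔ pt (cl i) ∈ c) := by
    intro i hi
    have h1 := (iter_val (y := fun i => if pt i ∈ c then (1 : ℤ) else 0) (f := hz) hB (jt i) (cl i)
      (cl_lt i hi)).2
    rw [iter_tab i hi] at h1
    by_cases h2 : pt i ∈ c <;> by_cases h3 : pt (cl i) ∈ c <;> simp [h2, h3] at h1 ⊢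
  have key : c = Cfsg.Agent.Lib.Golay.Core.setOf (MM (decide (pt 23 ∈ c)) (decide (pt 0 ∈ c))
      (decide (pt 1 ∈ c)) (decide (pt 5 ∈ c))) := by
    ext p
    rw [mem_setOf]
    have hp := idx_lt p
    rw [MM_bit _ _ _ _ _ hp]
    have h1 := hcl _ hp
    rw [pt_idx] at h1
    rw [h1]
    unfold bSel
    rcases cl_tab _ hp with h2 | h2 | h2 | h2 <;> rw [h2] <;> simp
  have h1 := hc
  rw [key] at h1
  have h2 := (setOf_mem_supports_iff (MM_lt _ _ _ _)).1 h1
  rcases MM_code _ _ _ _ h2 with h3 | h3 | h3 | h3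
  · left; rw [h3] at key; exact key
  · right; left; rw [h3] at key; exact key
  · right; right; left; rw [h3] at key; exact key
  · right; right; right; rw [h3] at key; exact key

theorem eps_D2 (h : Cfsg.Agent.Lib.Golay.Core.setOf D2 ∈ Sup) :
    eps (Cfsg.Agent.Lib.Golay.Core.setOf D2) h = negG * Tg := by
  have h1 : Cfsg.Agent.Lib.Golay.Core.setOf D2 = symmDiff Finset.univ (Cfsg.Agent.Lib.Golay.Core.setOf D1) := by
    have h2 : D2 = 16777215 ^^^ D1 := by decide +kernel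
    rw [h2, setOf_xor]
    congr 1
  have h3 := eps_mul Finset.univ (Cfsg.Agent.Lib.Golay.Core.setOf D1) univ_mem_Sup
    (setOf_mem_of_isCode cD1.1 cD1.2)
  rw [eps_univ] at h3
  unfold Tg
  rw [h3]
  congr 1

theorem eps_Omega (h : Cfsg.Agent.Lib.Golay.Core.setOf 16777215 ∈ Sup) :
    eps (Cfsg.Agent.Lib.Golay.Core.setOf 16777215) h = negG := by
  have h1 : Cfsg.Agent.Lib.Golay.Core.setOf 16777215 = Finset.univ := by
    ext p
    simp only [mem_setOf, Finset.mem_univ, iff_true]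
    have := idx_lt p
    revert p
    decide +kernel
  rw [← eps_univ]
  congr 1

/-- **The centraliser of the element of order 11.** -/
theorem cent_data {w : Co0} (h : w * Zg = Zg * w) :
    ∃ i < 3, ∃ j < 2, ∃ k : ℕ, ∃ s : Co0, (s = 1 ∨ s = negG) ∧ Rg ^ i * w = s * (Tg ^ j * Zg ^ k) := by
  obtain ⟨i, hi, hNN⟩ := exists_rot h
  have hRZ : Rg ^ i * Zg = Zg * Rg ^ i := ((Commute.pow_left (show Commute Rg Zg from R_Z) i)).eq
  have hcomm : (Rg ^ i * w) * Zg = Zg * (Rg ^ i * w) := by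
    rw [mul_assoc, h, ← mul_assoc, hRZ, mul_assoc]
  obtain ⟨σ, hσ, c, hc, hx⟩ := presCross_eq_monG hNN
  rw [hx] at hcomm
  obtain ⟨h1, h2⟩ := comm_data (a := g Pz) (a' := g Pz) hcomm
  obtain ⟨k, hk⟩ := perm_z hσ h1
  subst hk
  have hu : uu ((g Pz) ^ k) hσ = Zg ^ k := uu_pow _ _ _
  have hmon : monG ((g Pz) ^ k) hσ c hc = eps c hc * Zg ^ k := by
    rw [monG_eq, hu]
  refine ⟨i, hi, ?_⟩
  rw [hx, hmon]
  rcases sign_z hc h2 with rfl | rfl | rfl | rfl
  · refine ⟨0, by norm_num, k, 1, Or.inl rfl, ?_⟩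
    have : eps (Cfsg.Agent.Lib.Golay.Core.setOf 0) hc = 1 := by
      rw [← eps_empty]
      congr 1
    rw [this]
    simp
  · refine ⟨0, by norm_num, k, negG, Or.inr rfl, ?_⟩
    rw [eps_Omega]
    simp
  · refine ⟨1, by norm_num, k, 1, Or.inl rfl, ?_⟩
    have : eps (Cfsg.Agent.Lib.Golay.Core.setOf D1) hc = Tg := rfl
    rw [this]
    simp
  · refine ⟨1, by norm_num, k, negG, Or.inr rfl, ?_⟩
    rw [eps_D2]
    simp [mul_assoc]

end Cfsg.Agent.Lib.Leech.OutCo1Cent
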