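import Cfsg.Agent.Lib.Leech.OutCo1Base
import Cfsg.Agent.Lib.Golay.OutFam

/-!
# Generation

A subgroup containing the translation and the element of order 3 is everything: it contains a monomial
element whose permutation generates the group of the code with the translation, and the sign change on
an octad; so it contains the monomial group, which is maximal.
-/

set_option autoImplicit false

namespace Cfsg.Agent.Lib.Leech.OutCo1Gen

open Cfsg Cfsg.Agent.Lib.Golay.Core Cfsg.Agent.Lib.Golay.Perm Cfsg.Agent.Lib.Leech.Basic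
  Cfsg.Agent.Lib.Leech.Lat Cfsg.Agent.Lib.Leech.Mon Cfsg.Agent.Lib.Leech.Packed
  Cfsg.Agent.Lib.Leech.Vec Cfsg.Agent.Lib.Leech.Xi Cfsg.Agent.Lib.Leech.Reach
  Cfsg.Agent.Lib.Leech.Order Cfsg.Agent.Lib.Leech.Word Cfsg.Agent.Lib.Leech.Maximal
  Cfsg.Agent.Lib.Leech.Center Cfsg.Agent.Lib.Leech.Co1 Cfsg.Agent.Lib.Leech.NF
  Cfsg.Agent.Lib.Leech.NFBase Cfsg.Agent.Lib.Leech.Even Cfsg.Agent.Lib.Leech.OutCo1Base
  Cfsg.Agent.Lib.Golay.OutFam
open Cfsg.Agent.Lib.PermComp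
open scoped Pointwise

def oc1_n : Nat := nat_lit 24
def oc1_w : Nat := nat_lit 5
def oc1_mask : Nat := nat_lit 31
def oc1_L : Nat := nat_lit 120
def oc1_maskL : Nat := nat_lit 0xffffffffffffffffffffffffffffff
def oc1_idc : Nat := nat_lit 0xbdab49ca307b9ac5a928398a418820
def oc1_T : List Nat := [nat_lit 0xb82d5a4e5183dcd62d4941cc520c41, nat_lit 0x4ad4a95667254c43da438e61b8a30]
def oc1_prog : List (Nat × Nat × Nat) := [(nat_lit 1, nat_lit 1, nat_lit 0), (nat_lit 0, nat_lit 2, nat_lit 2), (nat_lit 0, nat_lit 0, nat_lit 2), (nat_lit 0, nat_lit 0, nat_lit 3), (nat_lit 0, nat_lit 0, nat_lit 5), (nat_lit 0, nat_lit 0, nat_lit 6), (nat_lit 0, nat_lit 0, nat_lit 6), (nat_lit 0, nat_lit 0, nat_lit 7), (nat_lit 0, nat_lit 0, nat_lit 9), (nat_lit 0, nat_lit 0, nat_lit 10), (nat_lit 0, nat_lit 0, nat_lit 10), (nat_lit 0, nat_lit 0, nat_lit 11), (nat_lit 0, nat_lit 11, nat_lit 11), (nat_lit 0, nat_lit 0, nat_lit 1), (nat_lit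 0, nat_lit 14, nat_lit 15), (nat_lit 0, nat_lit 0, nat_lit 16), (nat_lit 0, nat_lit 0, nat_lit 16), (nat_lit 0, nat_lit 0, nat_lit 18), (nat_lit 0, nat_lit 0, nat_lit 19), (nat_lit 0, nat_lit 18, nat_lit 0), (nat_lit 1, nat_lit 6, nat_lit 0), (nat_lit 1, nat_lit 1, nat_lit 0), (nat_lit 0, nat_lit 8, nat_lit 2), (nat_lit 0, nat_lit 0, nat_lit 9), (nat_lit 0, nat_lit 0, nat_lit 4), (nat_lit 0, nat_lit 4, nat_lit 4), (nat_lit 0, nat_lit 0, nat_lit 1), (nat_lit 0, nat_lit 7, nat_lit 7), (nat_lit 0, nat_lit 0, nat_lit 8), (nat_lit 0, nat_lit 0, nat_lit 9), (nat_lit 0, nat_lit 0, nat_lit 16), (nat_lit 0, nat_lit 0, nat_lit 11), (nat_lit 0, nat_lit 0, nat_lit 18), (nat_lit 0, nat_lit 0, nat_lit 19), (nat_lit 0, nat_lit 0, nat_lit 20), (nat_lit 0, nat_lit 0, nat_lit 15), (nat_lit 0, nat_lit 15, nat_lit 14), (nat_lit 0, nat_lit 0, nat_lit 16), (nat_lit 0, nat_lit 0, nat_lit 16), (nat_lit 0, nat_lit 0, nat_lit 3), (nat_lit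 1, nat_lit 13, nat_lit 0), (nat_lit 1, nat_lit 1, nat_lit 0), (nat_lit 0, nat_lit 15, nat_lit 2), (nat_lit 0, nat_lit 0, nat_lit 3), (nat_lit 0, nat_lit 0, nat_lit 4), (nat_lit 0, nat_lit 0, nat_lit 5), (nat_lit 0, nat_lit 0, nat_lit 6), (nat_lit 0, nat_lit 0, nat_lit 7), (nat_lit 0, nat_lit 0, nat_lit 21), (nat_lit 0, nat_lit 8, nat_lit 8), (nat_lit 0, nat_lit 0, nat_lit 9), (nat_lit 0, nat_lit 0, nat_lit 2), (nat_lit 0, nat_lit 8, nat_lit 25), (nat_lit 0, nat_lit 0, nat_lit 26), (nat_lit 0, nat_lit 0, nat_lit 14), (nat_lit 0, nat_lit 0, nat_lit 15), (nat_lit 0, nat_lit 14, nat_lit 14), (nat_lit 0, nat_lit 0, nat_lit 15), (nat_lit 0, nat_lit 0, nat_lit 2), (nat_lit 1, nat_lit 7, nat_lit 0), (nat_lit 1, nat_lit 1, nat_lit 0), (nat_lit 0, nat_lit 9, nat_lit 9), (nat_lit 0, nat_lit 0, nat_lit 3), (nat_lit 0, nat_lit 0, nat_lit 11), (nat_lit 0, nat_lit 0, nat_lit 12), (nat_lit 0, nat_lit 0, nat_lit 6), (nat_lit 0,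 nat_lit 0, nat_lit 7), (nat_lit 0, nat_lit 0, nat_lit 8), (nat_lit 0, nat_lit 0, nat_lit 16), (nat_lit 0, nat_lit 8, nat_lit 9), (nat_lit 0, nat_lit 0, nat_lit 1), (nat_lit 0, nat_lit 19, nat_lit 12), (nat_lit 0, nat_lit 0, nat_lit 13), (nat_lit 0, nat_lit 0, nat_lit 14), (nat_lit 0, nat_lit 14, nat_lit 13), (nat_lit 0, nat_lit 0, nat_lit 14), (nat_lit 0, nat_lit 0, nat_lit 2), (nat_lit 0, nat_lit 5, nat_lit 25), (nat_lit 0, nat_lit 0, nat_lit 26), (nat_lit 0, nat_lit 19, nat_lit 19), (nat_lit 0, nat_lit 0, nat_lit 20), (nat_lit 0, nat_lit 0, nat_lit 20), (nat_lit 0, nat_lit 0, nat_lit 3), (nat_lit 1, nat_lit 12, nat_lit 0), (nat_lit 1, nat_lit 7, nat_lit 0), (nat_lit 0, nat_lit 14, nat_lit 14), (nat_lit 0, nat_lit 0, nat_lit 15), (nat_lit 0, nat_lit 0, nat_lit 10), (nat_lit 0, nat_lit 0, nat_lit 11), (nat_lit 0, nat_lit 0, nat_lit 6), (nat_lit 0, nat_lit 0, nat_lit 13), (nat_lit 0, nat_lit 0, nat_lit 20), (nat_lit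 0, nat_lit 0, nat_lit 9), (nat_lit 0, nat_lit 0, nat_lit 22), (nat_lit 0, nat_lit 0, nat_lit 17), (nat_lit 0, nat_lit 0, nat_lit 18), (nat_lit 0, nat_lit 12, nat_lit 11), (nat_lit 0, nat_lit 0, nat_lit 1), (nat_lit 0, nat_lit 21, nat_lit 21), (nat_lit 0, nat_lit 0, nat_lit 22), (nat_lit 0, nat_lit 0, nat_lit 23), (nat_lit 0, nat_lit 0, nat_lit 18), (nat_lit 0, nat_lit 0, nat_lit 25), (nat_lit 0, nat_lit 20, nat_lit 32), (nat_lit 0, nat_lit 0, nat_lit 21), (nat_lit 0, nat_lit 0, nat_lit 22), (nat_lit 0, nat_lit 0, nat_lit 29), (nat_lit 0, nat_lit 0, nat_lit 30), (nat_lit 0, nat_lit 0, nat_lit 25), (nat_lit 0, nat_lit 0, nat_lit 26), (nat_lit 0, nat_lit 0, nat_lit 27), (nat_lit 0, nat_lit 0, nat_lit 40), (nat_lit 0, nat_lit 0, nat_lit 35), (nat_lit 0, nat_lit 0, nat_lit 36), (nat_lit 0, nat_lit 17, nat_lit 30), (nat_lit 0, nat_lit 0, nat_lit 30), (nat_lit 0, nat_lit 0, nat_lit 2), (nat_lit 1, nat_lit 19, nat_lit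 0), (nat_lit 1, nat_lit 1, nat_lit 0), (nat_lit 0, nat_lit 2, nat_lit 21), (nat_lit 0, nat_lit 0, nat_lit 3), (nat_lit 0, nat_lit 0, nat_lit 4), (nat_lit 0, nat_lit 0, nat_lit 19), (nat_lit 0, nat_lit 0, nat_lit 20), (nat_lit 0, nat_lit 5, nat_lit 6), (nat_lit 0, nat_lit 0, nat_lit 7), (nat_lit 0, nat_lit 0, nat_lit 2)]
def oc1_s0 : Nat := nat_lit 0xb82d5a4e5183dcd62d4941cc520c41
def oc1_s1 : Nat := nat_lit 0x928a77d066b91c9855a264c2b8d900
def oc1_s2 : Nat := nat_lit 0xb248c428abacc5483eee8c9a638c20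
def oc1_s3 : Nat := nat_lit 0xbad45a560c89107338737a5b2b0820
def oc1_s4 : Nat := nat_lit 0x711b55ca264968f3c1969aae818820
def oc1_s5 : Nat := nat_lit 0x5be54bb53129aaa99e0e622c418820
def oc1_s6 : Nat := nat_lit 0x43ab2b35e65ce878b2e95160418820
def oc1_s7 : Nat := nat_lit 0x8bcd6925d5a5d674326d540a418820
noncomputable def oc1_lev0 : Core.Lev := Core.mkLev oc1_n oc1_w oc1_mask oc1_L oc1_maskL oc1_idc (nat_lit 0) [oc1_s7, oc1_s5, oc1_s6, oc1_s4, oc1_s3, oc1_s2, oc1_s1, oc1_s0] [(nat_lit 1, oc1_s0, nat_lit 0), (nat_lit 8, oc1_s1, nat_lit 1), (nat_lit 2, oc1_s0, nat_lit 1), (nat_lit 13, oc1_s7, nat_lit 8), (nat_lit 14, oc1_s5, nat_lit 8), (nat_lit 9, oc1_s6, nat_lit 8), (nat_lit 22, oc1_s4, nat_lit 8), (nat_lit 19, oc1_s3, nat_lit 8), (nat_lit 3, oc1_s2, nat_lit 2), (nat_lit 11, oc1_s7, nat_lit 13), (nat_lit 21, oc1_s5, nat_lit 13), (nat_lit 20, oc1_s6, nat_lit 13), (nat_lit 23, oc1_s7, nat_lit 14), (nat_lit 6, oc1_s5,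 nat_lit 14), (nat_lit 5, oc1_s4, nat_lit 14), (nat_lit 4, oc1_s3, nat_lit 14), (nat_lit 15, oc1_s0, nat_lit 14), (nat_lit 16, oc1_s5, nat_lit 9), (nat_lit 12, oc1_s4, nat_lit 9), (nat_lit 10, oc1_s0, nat_lit 9), (nat_lit 18, oc1_s7, nat_lit 19), (nat_lit 7, oc1_s2, nat_lit 3), (nat_lit 17, oc1_s1, nat_lit 3)]
noncomputable def oc1_lev1 : Core.Lev := Core.mkLev oc1_n oc1_w oc1_mask oc1_L oc1_maskL oc1_idc (nat_lit 1) [oc1_s7, oc1_s5, oc1_s6, oc1_s4, oc1_s3, oc1_s2, oc1_s1] [(nat_lit 8, oc1_s1, nat_lit 1), (nat_lit 13, oc1_s7, nat_lit 8), (nat_lit 14, oc1_s5, nat_lit 8), (nat_lit 9, oc1_s6, nat_lit 8), (nat_lit 22, oc1_s4, nat_lit 8), (nat_lit 19, oc1_s3, nat_lit 8), (nat_lit 2, oc1_s1, nat_lit 8), (nat_lit 11, oc1_s7, nat_lit 13), (nat_lit 21, oc1_s5, nat_lit 13), (nat_lit 20, oc1_s6, nat_lit 13), (nat_lit 23, oc1_s7, nat_lit 14), (nat_lit 6, oc1_s5, nat_lit 14), (nat_lit 5, oc1_s4, nat_lit 14), (nat_lit 4, oc1_s3,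 nat_lit 14), (nat_lit 16, oc1_s5, nat_lit 9), (nat_lit 12, oc1_s4, nat_lit 9), (nat_lit 3, oc1_s3, nat_lit 9), (nat_lit 15, oc1_s7, nat_lit 22), (nat_lit 10, oc1_s1, nat_lit 22), (nat_lit 18, oc1_s7, nat_lit 19), (nat_lit 17, oc1_s6, nat_lit 11), (nat_lit 7, oc1_s4, nat_lit 11)]
noncomputable def oc1_lev2 : Core.Lev := Core.mkLev oc1_n oc1_w oc1_mask oc1_L oc1_maskL oc1_idc (nat_lit 2) [oc1_s7, oc1_s5, oc1_s6, oc1_s4, oc1_s3, oc1_s2] [(nat_lit 3, oc1_s2, nat_lit 2), (nat_lit 22, oc1_s3, nat_lit 3), (nat_lit 7, oc1_s2, nat_lit 3), (nat_lit 15, oc1_s7, nat_lit 22), (nat_lit 14, oc1_s6, nat_lit 22), (nat_lit 4, oc1_s4, nat_lit 22), (nat_lit 11, oc1_s3, nat_lit 22), (nat_lit 9, oc1_s2, nat_lit 22), (nat_lit 10, oc1_s7, nat_lit 7), (nat_lit 12, oc1_s5, nat_lit 7), (nat_lit 19, oc1_s4, nat_lit 7), (nat_lit 17, oc1_s2, nat_lit 7), (nat_lit 20, oc1_s7, nat_lit 15), (nat_lit 5, oc1_s5, nat_lit 15), (nat_lit 21, oc1_s2,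 nat_lit 15), (nat_lit 23, oc1_s7, nat_lit 14), (nat_lit 6, oc1_s5, nat_lit 14), (nat_lit 8, oc1_s4, nat_lit 4), (nat_lit 18, oc1_s3, nat_lit 4), (nat_lit 16, oc1_s2, nat_lit 11), (nat_lit 13, oc1_s3, nat_lit 5)]
noncomputable def oc1_lev3 : Core.Lev := Core.mkLev oc1_n oc1_w oc1_mask oc1_L oc1_maskL oc1_idc (nat_lit 3) [oc1_s7, oc1_s5, oc1_s6, oc1_s4, oc1_s3] [(nat_lit 22, oc1_s3, nat_lit 3), (nat_lit 15, oc1_s7, nat_lit 22), (nat_lit 14, oc1_s6, nat_lit 22), (nat_lit 4, oc1_s4, nat_lit 22), (nat_lit 11, oc1_s3, nat_lit 22), (nat_lit 20, oc1_s7, nat_lit 15), (nat_lit 5, oc1_s5, nat_lit 15), (nat_lit 9, oc1_s4, nat_lit 15), (nat_lit 17, oc1_s3, nat_lit 15), (nat_lit 23, oc1_s7, nat_lit 14), (nat_lit 6, oc1_s5, nat_lit 14), (nat_lit 19, oc1_s6, nat_lit 14), (nat_lit 8, oc1_s4, nat_lit 4), (nat_lit 18, oc1_s3, nat_lit 4), (nat_lit 7, oc1_s4, nat_lit 11), (nat_lit 21, oc1_s4, nat_lit 20), (nat_lit 16, oc1_s6, nat_lit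 5), (nat_lit 13, oc1_s3, nat_lit 5), (nat_lit 12, oc1_s4, nat_lit 9), (nat_lit 10, oc1_s4, nat_lit 6)]
noncomputable def oc1_lev4 : Core.Lev := Core.mkLev oc1_n oc1_w oc1_mask oc1_L oc1_maskL oc1_idc (nat_lit 4) [oc1_s7, oc1_s5, oc1_s6, oc1_s4] [(nat_lit 8, oc1_s4, nat_lit 4), (nat_lit 13, oc1_s7, nat_lit 8), (nat_lit 14, oc1_s5, nat_lit 8), (nat_lit 9, oc1_s6, nat_lit 8), (nat_lit 22, oc1_s4, nat_lit 8), (nat_lit 11, oc1_s7, nat_lit 13), (nat_lit 21, oc1_s5, nat_lit 13), (nat_lit 20, oc1_s6, nat_lit 13), (nat_lit 23, oc1_s7, nat_lit 14), (nat_lit 6, oc1_s5, nat_lit 14), (nat_lit 19, oc1_s6, nat_lit 14), (nat_lit 5, oc1_s4, nat_lit 14), (nat_lit 16, oc1_s5, nat_lit 9), (nat_lit 12, oc1_s4, nat_lit 9), (nat_lit 15, oc1_s7, nat_lit 22), (nat_lit 17, oc1_s6, nat_lit 11), (nat_lit 7, oc1_s4, nat_lit 11), (nat_lit 18, oc1_s5, nat_lit 21), (nat_lit 10, oc1_s4, nat_lit 6)]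
noncomputable def oc1_lev5 : Core.Lev := Core.mkLev oc1_n oc1_w oc1_mask oc1_L oc1_maskL oc1_idc (nat_lit 5) [oc1_s7, oc1_s5, oc1_s6] [(nat_lit 22, oc1_s5, nat_lit 5), (nat_lit 16, oc1_s6, nat_lit 5), (nat_lit 15, oc1_s7, nat_lit 22), (nat_lit 14, oc1_s6, nat_lit 22), (nat_lit 21, oc1_s7, nat_lit 16), (nat_lit 17, oc1_s5, nat_lit 16), (nat_lit 6, oc1_s6, nat_lit 16), (nat_lit 20, oc1_s7, nat_lit 15), (nat_lit 11, oc1_s6, nat_lit 15), (nat_lit 23, oc1_s7, nat_lit 14), (nat_lit 19, oc1_s6, nat_lit 14), (nat_lit 18, oc1_s5, nat_lit 21), (nat_lit 9, oc1_s5, nat_lit 17), (nat_lit 8, oc1_s5, nat_lit 6), (nat_lit 13, oc1_s5, nat_lit 18)]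
noncomputable def oc1_lev6 : Core.Lev := Core.mkLev oc1_n oc1_w oc1_mask oc1_L oc1_maskL oc1_idc (nat_lit 6) [oc1_s7] [(nat_lit 16, oc1_s7, nat_lit 6), (nat_lit 21, oc1_s7, nat_lit 16)]
noncomputable def oc1_levels : List Core.Lev := [oc1_lev0, oc1_lev1, oc1_lev2, oc1_lev3, oc1_lev4, oc1_lev5, oc1_lev6]

set_option maxRecDepth 100000 in
theorem oc1_check : Core.checkAll oc1_n oc1_w oc1_mask oc1_L oc1_maskL oc1_idc oc1_T oc1_prog
    oc1_levels = true := by decide +kernel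

theorem oc1_order : Core.orderC oc1_levels = 244823040 := by decide +kernel

/-- The permutation of the monomial element. -/
def Ps : ℕ := 24283953416713915485742498309704240

/-- The sign set of the monomial element. -/
def cs : ℕ := 12275877

/-- An octad. -/
def cO : ℕ := 2245426

theorem cPs : checkAut Ps = true := by decide +kernel
theorem ccs : cs < 2 ^ 24 ∧ isCode cs = true := by decide +kernel
theorem ccO : cO < 2 ^ 24 ∧ isCode cO = true := by decide +kernel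

theorem hgen : Subgroup.closure ({g PA, g Ps} : Set (Equiv.Perm GolayPt)) = M24 := by
  refine closure_pair (checkAut_valid cA) (checkAut_valid cPs) (g_mem_M24 cA) (g_mem_M24 cPs)
    (by rfl : oc1_T = [PA, Ps]) oc1_check ?_
  rw [oc1_order, Cfsg.Agent.Lib.Golay.M24.card_M24]

/-- Blocks of a word. -/
def blk : Bool → List (ℕ × ℕ)
  | true => [oA]
  | false => wR

/-- A word spelled by letters, first letter applied first. -/
def flatB : List Bool → List (ℕ × ℕ)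
  | [] => []
  | b :: l => blk b ++ flatB l

theorem flatB_mem {K : Subgroup Co0} (hA : Ag ∈ K) (hR : Rg ∈ K) (l : List Bool) : wG (flatB l) ∈ K := by
  induction l with
  | nil => exact K.one_mem
  | cons b l ih =>
    rw [flatB, wG_append]
    refine K.mul_mem ih ?_
    cases b
    · exact hR
    · show wG [oA] ∈ K
      rw [wG_A]
      exact hA

/-- The monomial element. -/
def og : ℕ × ℕ := (Ps, cs)

theorem opG_og : opG og = monG (g Ps) (g_mem_M24 cPs) (Cfsg.Agent.Lib.Golay.Core.setOf cs)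
    (setOf_mem_of_isCode ccs.1 ccs.2) :=
  opG_mon (by decide +kernel) cPs ccs.1 ccs.2

theorem og_word : eqW (og :: flatB [false, true, true, true, true, true, false, true, true, true, true, true, true, true, true, true, true, true, true, false, false, true, true, false]) (flatB [false, true, true, true, true, false, true, true, true, true, true, true, true, true, true, true, true, true, true, true, true, true, true, true, true, true, true, false, false, true, false]) = true := by decide +kernel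

theorem og_mem {K : Subgroup Co0} (hA : Ag ∈ K) (hR : Rg ∈ K) : opG og ∈ K := by
  have h1 := wG_eq og_word
  rw [wG_cons] at h1
  have h2 : opG og = (wG (flatB [false, true, true, true, true, true, false, true, true, true, true, true, true, true, true, true, true, true, true, false, false, true, true, false]))⁻¹ * wG (flatB [false, true, true, true, true, false, true, true, true, true, true, true, true, true, true, true, true, true, true, true, true, true, true, true, true, true, true, false, false, true, false]) := by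
    rw [← h1, inv_mul_cancel_left]
  rw [h2]
  exact K.mul_mem (K.inv_mem (flatB_mem hA hR _)) (flatB_mem hA hR _)

theorem oct_word : eqW (rep (rep [oA] 10 ++ [og]) 15) [(Pid, cO)] = true := by decide +kernel

theorem oct_mem {K : Subgroup Co0} (hA : Ag ∈ K) (hR : Rg ∈ K) :
    eps (Cfsg.Agent.Lib.Golay.Core.setOf cO) (setOf_mem_of_isCode ccO.1 ccO.2) ∈ K := by
  have h1 := wG_eq oct_word
  rw [wG_rep, wG_cons, wG_nil, one_mul, opG_eps ccO.1 ccO.2] at h1
  rw [← h1]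
  apply K.pow_mem
  rw [wG_append, wG_rep, wG_A, wG_cons, wG_nil, one_mul]
  exact K.mul_mem (og_mem hA hR) (K.pow_mem hA _)

theorem monG_inv (σ : Equiv.Perm GolayPt) (hσ : σ ∈ M24) (c : Finset GolayPt) (hc : c ∈ Sup) :
    (monG σ hσ c hc)⁻¹ = monG σ⁻¹ (M24.inv_mem hσ) (σ⁻¹ • c) (inv_smul_mem_Sup hσ hc) := by
  apply inv_eq_of_mul_eq_one_right
  apply ext_smul
  intro v
  apply Subtype.ext
  exact signedPerm_inv' σ c v.1

theorem exists_mon {K : Subgroup Co0} (hA : Ag ∈ K) (hR : Rg ∈ K) :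
    ∀ τ (hτ : τ ∈ M24), ∃ (c : Finset GolayPt) (hc : c ∈ Sup), monG τ hτ c hc ∈ K := by
  have key : ∀ τ ∈ Subgroup.closure ({g PA, g Ps} : Set (Equiv.Perm GolayPt)),
      ∃ (hτ : τ ∈ M24) (c : Finset GolayPt) (hc : c ∈ Sup), monG τ hτ c hc ∈ K := by
    intro τ hτ
    induction hτ using Subgroup.closure_induction with
    | mem x hx =>
      rcases hx with rfl | rfl
      · exact ⟨g_mem_M24 cA, ∅, empty_mem_Sup, hA⟩
      · refine ⟨g_mem_M24 cPs, _, setOf_mem_of_isCode ccs.1 ccs.2, ?_⟩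
        rw [← opG_og]
        exact og_mem hA hR
    | one =>
      refine ⟨M24.one_mem, ∅, empty_mem_Sup, ?_⟩
      have : monG 1 M24.one_mem ∅ empty_mem_Sup = 1 := uu_one
      rw [this]
      exact K.one_mem
    | mul x y _ _ ihx ihy =>
      obtain ⟨hx', c, hc, h1⟩ := ihx
      obtain ⟨hy', d, hd, h2⟩ := ihy
      have h3 := K.mul_mem h1 h2
      rw [monG_mul] at h3
      exact ⟨_, _, _, h3⟩
    | inv x _ ihx =>
      obtain ⟨hx', c, hc, h1⟩ := ihx
      have h3 := K.inv_mem h1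
      rw [monG_inv] at h3
      exact ⟨_, _, _, h3⟩
  intro τ hτ
  obtain ⟨_, c, hc, h⟩ := key τ (by rw [hgen]; exact hτ)
  exact ⟨c, hc, h⟩

theorem eps_smul_mem {K : Subgroup Co0} (hA : Ag ∈ K) (hR : Rg ∈ K) (τ : Equiv.Perm GolayPt)
    (hτ : τ ∈ M24) :
    eps (τ • Cfsg.Agent.Lib.Golay.Core.setOf cO) (perm_mem_supports hτ (setOf_mem_of_isCode ccO.1 ccO.2)) ∈ K := by
  obtain ⟨c, hc, h⟩ := exists_mon hA hR τ hτ
  have h1 := K.mul_mem (K.mul_mem h (oct_mem hA hR)) (K.inv_mem h)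
  have h2 : monG τ hτ c hc * eps (Cfsg.Agent.Lib.Golay.Core.setOf cO) (setOf_mem_of_isCode ccO.1 ccO.2) *
      (monG τ hτ c hc)⁻¹ =
      eps (τ • Cfsg.Agent.Lib.Golay.Core.setOf cO) (perm_mem_supports hτ (setOf_mem_of_isCode ccO.1 ccO.2)) := by
    rw [monG_eq, mul_inv_rev, eps_inv]
    have h3 : eps c hc * uu τ hτ * eps (Cfsg.Agent.Lib.Golay.Core.setOf cO) (setOf_mem_of_isCode ccO.1 ccO.2) *
        ((uu τ hτ)⁻¹ * eps c hc) =
        eps c hc * (uu τ hτ * eps (Cfsg.Agent.Lib.Golay.Core.setOf cO) (setOf_mem_of_isCode ccO.1 ccO.2) *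
          (uu τ hτ)⁻¹) * eps c hc := by group
    rw [h3, uu_conj]
    have h4 := AA_comm _ (eps_mem_AA c hc) _
      (eps_mem_AA _ (perm_mem_supports hτ (setOf_mem_of_isCode ccO.1 ccO.2)))
    rw [h4, mul_assoc, eps_sq, mul_one]
  rwa [h2] at h1

/-- Elements of the group sending the octad to the basis vectors. -/
def TB : List ℕ := [(878247770804348043806581575913805313), (487316864289787429028860701645580680), (4847958250409500319054237560932039), (486907728017130504071558368951800528), (938161163494707007345642062229876323), (513561349721400463197577145101271616), (142367745798306267750124317477833441), (169247970220888446418952168814249416), (307184862347105654681348172245108234), (141032916012273541822203466538879654), (319736393076393584287164703718787718), (55064368308538038729285136643264204)]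

theorem TB_ok : ∀ e ∈ TB, checkAut e = true := by decide +kernel

theorem TB_cover : ∀ b ∈ basis, ∃ e ∈ TB, mapMask e cO = b := by decide +kernel

theorem basis_eps {K : Subgroup Co0} (hA : Ag ∈ K) (hR : Rg ∈ K) {b : ℕ} (hb : b ∈ basis)
    (hs : Cfsg.Agent.Lib.Golay.Core.setOf b ∈ Sup) : eps (Cfsg.Agent.Lib.Golay.Core.setOf b) hs ∈ K := by
  obtain ⟨e, he, rfl⟩ := TB_cover b hb
  have h1 := TB_ok e he
  have h2 := eps_smul_mem hA hR (g e) (g_mem_M24 h1)
  have h3 : g e • Cfsg.Agent.Lib.Golay.Core.setOf cO = Cfsg.Agent.Lib.Golay.Core.setOf (mapMask e cO) :=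
    smul_setOf (checkAut_valid h1) cO
  have h4 : eps (Cfsg.Agent.Lib.Golay.Core.setOf (mapMask e cO)) hs =
      eps (g e • Cfsg.Agent.Lib.Golay.Core.setOf cO)
        (perm_mem_supports (g_mem_M24 h1) (setOf_mem_of_isCode ccO.1 ccO.2)) := by
    congr 1
    exact h3.symm
  rw [h4]
  exact h2

theorem AA_le {K : Subgroup Co0} (hA : Ag ∈ K) (hR : Rg ∈ K) : AA ≤ K := by
  have key : ∀ w : GolayPt → ZMod 2, w ∈ golayCode → w ∈ golayCode ∧ ∀ hs : support₂ w ∈ Sup,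
      eps (support₂ w) hs ∈ K := by
    intro w hw
    refine Cfsg.Agent.Lib.Golay.Basic.code_induction (C := fun w => w ∈ golayCode ∧
      ∀ hs : support₂ w ∈ Sup, eps (support₂ w) hs ∈ K) ?_ ?_ ?_ hw
    · refine ⟨Submodule.zero_mem _, fun hs => ?_⟩
      have h1 : support₂ (0 : GolayPt → ZMod 2) = ∅ := by
        ext p
        simp [support₂]
      have h2 : eps (support₂ (0 : GolayPt → ZMod 2)) hs = eps ∅ empty_mem_Sup := by
        congr 1
      rw [h2, eps_empty]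
      exact K.one_mem
    · rintro a b ⟨ha, iha⟩ ⟨hb, ihb⟩
      refine ⟨Submodule.add_mem _ ha hb, fun hs => ?_⟩
      have h1 : support₂ (a + b) = symmDiff (support₂ a) (support₂ b) := by
        ext p
        simp only [support₂, Finset.mem_filter, Finset.mem_univ, true_and, Finset.mem_symmDiff]
        have h2 : ∀ x : ZMod 2, x = 0 ∨ x = 1 := by decide
        rw [Pi.add_apply]
        rcases h2 (a p) with h3 | h3 <;> rcases h2 (b p) with h4 | h4 <;> rw [h3, h4] <;> decide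
      have hs1 : support₂ a ∈ Sup := ⟨a, ha, rfl⟩
      have hs2 : support₂ b ∈ Sup := ⟨b, hb, rfl⟩
      have h5 : eps (support₂ (a + b)) hs = eps (support₂ a) hs1 * eps (support₂ b) hs2 := by
        rw [eps_mul]
        congr 1
      rw [h5]
      exact K.mul_mem (iha hs1) (ihb hs2)
    · intro b hb
      refine ⟨basis_mem b hb, fun hs => ?_⟩
      have h1 := support_wordOf b
      have h2 : eps (support₂ (wordOf b)) hs = eps (Cfsg.Agent.Lib.Golay.Core.setOf b) (h1 ▸ hs) := by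
        congr 1
      rw [h2]
      exact basis_eps hA hR hb _
  rintro _ ⟨c, hc, rfl⟩
  obtain ⟨w, hw, rfl⟩ := hc
  exact (key w hw).2 _

theorem NN_le {K : Subgroup Co0} (hA : Ag ∈ K) (hR : Rg ∈ K) : NN ≤ K := by
  intro n hn
  obtain ⟨τ, hτ, e, he, rfl⟩ := presCross_eq_monG hn
  obtain ⟨c, hc, h⟩ := exists_mon hA hR τ hτ
  rw [monG_eq] at h
  have h1 : uu τ hτ ∈ K := by
    have := K.mul_mem (K.inv_mem (AA_le hA hR (eps_mem_AA c hc))) h
    rwa [inv_mul_cancel_left] at this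
  rw [monG_eq]
  exact K.mul_mem (AA_le hA hR (eps_mem_AA e he)) h1

/-- The image of `8 e` under the element of order 3. -/
def nYR : ℕ := 519899662119978811430580411339197006

theorem R_not_NN : Rg ∉ NN := by
  intro h
  have h1 : ((Rg • e8L none : L) : GolayPt → ℤ) ∈ stdCross := h _ (e8_mem_stdCross none)
  have h2 : runW wR nA64 nYR = true := by decide +kernel
  have h3 := wG_smul _ h2 mem_A64
  rw [e8L_eq] at h3
  have h5 : Rg = wG wR := rfl
  rw [h5, h3] at h1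
  obtain ⟨i, s, -, hs⟩ := h1
  have key : dec nYR (pt 0) ≠ 0 ∧ dec nYR (pt 23) ≠ 0 ∧ pt 0 ≠ pt 23 := by decide +kernel
  have h4 : pt 0 = i := by
    by_contra hne
    apply key.1
    rw [hs, Pi.single_eq_of_ne hne]
  have h6 : pt 23 = i := by
    by_contra hne
    apply key.2.1
    rw [hs, Pi.single_eq_of_ne hne]
  exact key.2.2 (h4.trans h6.symm)

/-- **Generation.** -/
theorem eq_top {K : Subgroup Co0} (hA : Ag ∈ K) (hR : Rg ∈ K) : K = ⊤ := by
  apply coatom_NN.2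
  exact lt_of_le_of_ne (NN_le hA hR) fun h => R_not_NN (by rw [h]; exact hR)

end Cfsg.Agent.Lib.Leech.OutCo1Gen
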