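import Cfsg.Agent.Lib.Leech.OutCo1Cent
import Cfsg.Agent.Lib.Leech.OutCo1Gen
import Cfsg.Agent.Lib.Golay.OutAbs
import Cfsg.Prelude.Def_Spor_Conway

/-!
# The automorphisms of the central quotient of `Co0` are inner

An automorphism is adjusted by inner ones until it sends the class of `A` to itself or its inverse and
fixes the class of `z`; it then sends the class of the element `R` of order 3 commuting with `z` to the
class of `R` or `R²`, and relations leave only the case of the identity on `A` and `R`, which generate.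
-/

set_option autoImplicit false

namespace Cfsg.Agent.Lib.Leech.OutCo1Final

open Cfsg Cfsg.Agent.Lib.Golay.Core Cfsg.Agent.Lib.Golay.Perm Cfsg.Agent.Lib.Leech.Basic
  Cfsg.Agent.Lib.Leech.Lat Cfsg.Agent.Lib.Leech.Mon Cfsg.Agent.Lib.Leech.Packed
  Cfsg.Agent.Lib.Leech.Vec Cfsg.Agent.Lib.Leech.Xi Cfsg.Agent.Lib.Leech.Reach
  Cfsg.Agent.Lib.Leech.Order Cfsg.Agent.Lib.Leech.Word Cfsg.Agent.Lib.Leech.Maximal
  Cfsg.Agent.Lib.Leech.Center Cfsg.Agent.Lib.Leech.Co1 Cfsg.Agent.Lib.Leech.NF
  Cfsg.Agent.Lib.Leech.NFBase Cfsg.Agent.Lib.Leech.Even Cfsg.Agent.Lib.Leech.OutCo1Base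
  Cfsg.Agent.Lib.Leech.OutCo1Norm Cfsg.Agent.Lib.Leech.OutCo1Rel Cfsg.Agent.Lib.Leech.OutCo1Cent
  Cfsg.Agent.Lib.Leech.OutCo1Gen Cfsg.Agent.Lib.Golay.OutAbs
open scoped Pointwise

/-! ### A small group computation -/

theorem pow_twelve {G : Type*} [Group G] {u : G} (hu : u ^ 11 = 1) (n : ℕ) : u ^ (12 * n) = u ^ n := by
  have : 12 * n = 11 * n + n := by ring
  rw [this, pow_add, pow_mul, hu, one_pow, one_mul]

theorem s3 {G : Type*} [Group G] {r t u x : G} (hr : r ^ 3 = 1) (ht : t ^ 2 = 1) (htr : t * r * t = r ^ 2)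
    (hu : u ^ 11 = 1) (hur : u * r = r * u) (hut : u * t = t * u) (ht1 : t ≠ 1) {i j k : ℕ} (hi : i < 3)
    (hj : j < 2) (hx : r ^ i * x = t ^ j * u ^ k) (hx3 : x ^ 3 = 1) (hx1 : x ≠ 1) :
    x = r ∨ x = r ^ 2 := by
  have hri : r⁻¹ = r ^ 2 := by
    apply inv_eq_of_mul_eq_one_right
    rw [← pow_succ', hr]
  have hcr : Commute u r := hur
  have hct : Commute u t := hut
  have hv : ∀ v : G, Commute v u → x = v * u ^ k → v ^ 3 * u ^ (3 * k) = 1 := by
    intro v hc hxv
    have h1 : Commute v (u ^ k) := hc.pow_right k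
    rw [hxv, h1.mul_pow, ← pow_mul, mul_comm k 3] at hx3
    exact hx3
  have hrc : ∀ m, Commute ((r ^ m)⁻¹ * t ^ j) u := by
    intro m
    exact ((hcr.symm.pow_left m).inv_left).mul_left (hct.symm.pow_left j)
  have hx' : x = ((r ^ i)⁻¹ * t ^ j) * u ^ k := by
    rw [mul_assoc, ← hx, inv_mul_cancel_left]
  have h3 := hv _ (hrc i) hx'
  interval_cases j
  · -- no sign change
    simp only [pow_zero, mul_one] at h3 hx'
    have h4 : ((r ^ i)⁻¹) ^ 3 = 1 := by
      rw [inv_pow, ← pow_mul, mul_comm, pow_mul, hr, one_pow, inv_one]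
    rw [h4, one_mul] at h3
    have h5 : u ^ k = 1 := by
      rw [← pow_twelve hu k, show 12 * k = 4 * (3 * k) by ring, pow_mul', h3, one_pow]
    rw [h5, mul_one] at hx'
    interval_cases i
    · exact absurd (by simpa using hx') hx1
    · right
      rw [hx', pow_one, hri]
    · left
      rw [hx', ← hri, inv_inv]
  · -- a sign change
    exfalso
    simp only [pow_one] at h3 hx'
    set v := (r ^ i)⁻¹ * t with hvdef
    have hts : t * t = 1 := by rw [← pow_two, ht]
    have hv2 : v * v = 1 := by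
      interval_cases i
      · simp [hvdef, hts]
      · have e : v = r ^ 2 * t := by rw [hvdef, pow_one, hri]
        rw [e]
        have e2 : r ^ 2 * t * (r ^ 2 * t) = r ^ 2 * (t * (r * r) * t) := by
          simp only [pow_two, mul_assoc]
        have e3 : t * (r * r) * t = (t * r * t) * (t * r * t) := by
          calc t * (r * r) * t = t * r * (t * t) * r * t := by simp only [hts, mul_one, mul_assoc]
            _ = _ := by simp only [mul_assoc]
        rw [e2, e3, htr, ← pow_add, ← pow_add]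
        show r ^ 6 = 1
        rw [show 6 = 3 * 2 by norm_num, pow_mul, hr, one_pow]
      · have e : v = r * t := by
          rw [hvdef, ← hri, inv_inv]
        rw [e]
        have e2 : r * t * (r * t) = r * (t * r * t) := by simp only [mul_assoc]
        rw [e2, htr, ← pow_succ', hr]
    have hv3 : v ^ 3 = v := by
      rw [pow_succ, pow_two, hv2, one_mul]
    rw [hv3] at h3
    have hUv : u ^ (3 * k) = v := mul_left_cancel (h3.trans hv2.symm)
    have h4 : u ^ (12 * k) = 1 := by
      have e : 12 * k = 3 * k + 3 * k + (3 * k + 3 * k) := by ring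
      rw [e, pow_add, pow_add, hUv, hv2, one_mul]
    have h5 : u ^ k = 1 := by rw [← pow_twelve hu k, h4]
    have h6 : v = 1 := by
      rw [← hUv, mul_comm, pow_mul, h5, one_pow]
    apply ht1
    have h7 : t = r ^ i := by
      rw [hvdef] at h6
      exact (inv_mul_eq_one.1 h6).symm
    have h8 : t ^ 3 = 1 := by
      rw [h7, ← pow_mul, mul_comm, pow_mul, hr, one_pow]
    calc t = t ^ 3 := by rw [pow_succ, ht, one_mul]
      _ = 1 := h8

/-! ### The quotient -/

/-- The quotient map. -/
noncomputable abbrev qq : Co0 →* Spor.Co1 := QuotientGroup.mk' (Subgroup.center Co0)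

theorem qq_surj : Function.Surjective qq := QuotientGroup.mk'_surjective _

theorem qq_eq_one {a : Co0} : qq a = 1 ↔ a ∈ Subgroup.center Co0 := by
  rw [QuotientGroup.mk'_apply, QuotientGroup.eq_one_iff]

theorem qq_neg : qq negG = 1 := qq_eq_one.2 negG_mem_center

theorem negG_sq : negG * negG = 1 := by
  apply ext_smul
  intro v
  rw [mul_smul, negG_smul', negG_smul', neg_neg, one_smul]

theorem lift_eq {a b : Co0} {n : ℕ} (hn : Odd n) (ha : a ^ n = 1) (hb : b ^ n = 1) (h : qq a = qq b) :
    a = b := by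
  have h1 : a⁻¹ * b ∈ Subgroup.center Co0 := by
    rw [← qq_eq_one, map_mul, map_inv, h, inv_mul_cancel]
  rcases Center.mem_center_iff.1 h1 with h2 | h2
  · exact inv_mul_eq_one.1 h2
  · exfalso
    have h3 : b = a * negG := by rw [← h2, mul_inv_cancel_left]
    have hc : Commute a negG := (negG_central a).symm
    rw [h3, hc.mul_pow, ha, one_mul] at hb
    obtain ⟨k, rfl⟩ := hn
    rw [pow_succ, pow_mul, pow_two, negG_sq, one_pow, one_mul] at hb
    exact negG_ne_one hb

/-! ### The images -/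

noncomputable abbrev AB : Spor.Co1 := qq Ag
noncomputable abbrev ZB : Spor.Co1 := qq Zg
noncomputable abbrev RB : Spor.Co1 := qq Rg
noncomputable abbrev TB' : Spor.Co1 := qq Tg

theorem AB_pow : AB ^ 23 = 1 := by rw [AB, ← map_pow, A_pow, map_one]
theorem ZB_pow : ZB ^ 11 = 1 := by rw [ZB, ← map_pow, Z_pow, map_one]
theorem RB_pow : RB ^ 3 = 1 := by rw [RB, ← map_pow, R_pow, map_one]
theorem TB_pow : TB' ^ 2 = 1 := by rw [TB', ← map_pow, T_sq, map_one]
theorem TB_R : TB' * RB * TB' = RB ^ 2 := by simp only [TB', RB, ← map_mul, ← map_pow, T_R]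
theorem ZB_R : ZB * RB = RB * ZB := by simp only [ZB, RB, ← map_mul, R_Z]
theorem ZB_T : ZB * TB' = TB' * ZB := by simp only [ZB, TB', ← map_mul, T_Z]
theorem ZB_A : ZB * AB = AB * AB * ZB := by simp only [ZB, AB, ← map_mul, Z_A]

theorem Ag_not_center : Ag ∉ Subgroup.center Co0 := by
  intro h
  rcases Center.mem_center_iff.1 h with h1 | h1
  · have h2 : Ag • e8L (pt 0) = e8L (pt 1) := by
      unfold Ag
      rw [uu_e8L, g_pt vA (by norm_num)]
      congr 1
    rw [h1, one_smul] at h2
    have h3 := congrFun (congrArg Subtype.val h2) (pt 0)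
    have h4 : e8 (pt 0) (pt 0) = e8 (pt 1) (pt 0) := h3
    have h5 : pt 0 ≠ pt 1 := by decide
    unfold e8 at h4
    rw [Pi.single_eq_same, Pi.single_eq_of_ne h5] at h4
    norm_num at h4
  · have h2 := A_pow
    rw [h1, show 23 = 2 * 11 + 1 by norm_num, pow_succ, pow_mul, pow_two, negG_sq, one_pow, one_mul] at h2
    exact negG_ne_one h2

theorem AB_ne : AB ≠ 1 := fun h => Ag_not_center (qq_eq_one.1 h)

theorem RB_ne : RB ≠ 1 := by
  intro h
  have h1 : notCen wR nYR = true := by decide +kernel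
  exact not_cen h1 (qq_eq_one.1 h)

theorem TB_ne : TB' ≠ 1 := by
  intro h
  have h1 : Tg ∈ Subgroup.center Co0 := qq_eq_one.1 h
  have h2 : Tg • e8L (pt 0) = - e8L (pt 0) := by
    apply Subtype.ext
    show signedPerm 1 (Cfsg.Agent.Lib.Golay.Core.setOf D1) (e8 (pt 0)) = - e8 (pt 0)
    unfold e8
    rw [signedPerm_single]
    have h3 : (1 : Equiv.Perm GolayPt) (pt 0) = pt 0 := rfl
    have h4 : pt 0 ∈ Cfsg.Agent.Lib.Golay.Core.setOf D1 := by
      rw [mem_setOf, idx_pt (by norm_num)]
      decide +kernel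
    rw [h3, if_pos h4, Pi.single_neg]
  have h3 : Tg • e8L (pt 23) = e8L (pt 23) := by
    apply Subtype.ext
    show signedPerm 1 (Cfsg.Agent.Lib.Golay.Core.setOf D1) (e8 (pt 23)) = e8 (pt 23)
    unfold e8
    rw [signedPerm_single]
    have h3 : (1 : Equiv.Perm GolayPt) (pt 23) = pt 23 := rfl
    have h4 : pt 23 ∉ Cfsg.Agent.Lib.Golay.Core.setOf D1 := by
      rw [mem_setOf, idx_pt (by norm_num)]
      decide +kernel
    rw [h3, if_neg h4]
  rcases Center.mem_center_iff.1 h1 with h4 | h4
  · rw [h4, one_smul] at h2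
    have h5 := congrFun (congrArg Subtype.val h2) (pt 0)
    have h6 : e8 (pt 0) (pt 0) = - e8 (pt 0) (pt 0) := h5
    unfold e8 at h6
    rw [Pi.single_eq_same] at h6
    norm_num at h6
  · rw [h4, negG_smul'] at h3
    have h5 := congrFun (congrArg Subtype.val h3) (pt 23)
    have h6 : - e8 (pt 23) (pt 23) = e8 (pt 23) (pt 23) := h5
    unfold e8 at h6
    rw [Pi.single_eq_same] at h6
    norm_num at h6

/-! ### An automorphism fixing the two elements -/

theorem key (γ : MulAut Spor.Co1) (hA : γ AB = AB ∨ γ AB = AB⁻¹) (hz : γ ZB = ZB) : γ = 1 := by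
  -- the image of `R`
  obtain ⟨w, hw⟩ := qq_surj (γ RB)
  have hcomm : qq (w * Zg * w⁻¹) = qq Zg := by
    rw [map_mul, map_mul, map_inv, hw]
    have h1 : γ RB * ZB = ZB * γ RB := by
      have h2 := congrArg γ ZB_R
      rw [map_mul γ, map_mul γ, hz] at h2
      exact h2.symm
    rw [h1, mul_inv_cancel_right]
  have hlift : w * Zg * w⁻¹ = Zg :=
    lift_eq (n := 11) (by decide) (by rw [conj_pow, Z_pow]; group) Z_pow hcomm
  have hwz : w * Zg = Zg * w := by
    rw [← mul_inv_eq_iff_eq_mul]
    exact hlift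
  obtain ⟨i, hi, j, hj, k, s, hs, he⟩ := cent_data hwz
  have hq : RB ^ i * γ RB = TB' ^ j * ZB ^ k := by
    have h1 := congrArg qq he
    simp only [map_mul, map_pow, hw] at h1
    have h2 : qq s = 1 := by
      rcases hs with rfl | rfl
      · exact map_one _
      · exact qq_neg
    rw [h2, one_mul] at h1
    exact h1
  have hr3 : (γ RB) ^ 3 = 1 := by rw [← map_pow, RB_pow, map_one]
  have hr1 : γ RB ≠ 1 := by
    intro h
    apply RB_ne
    have := (map_eq_one_iff γ γ.injective).1 h
    exact this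
  have hr := s3 RB_pow TB_pow TB_R ZB_pow ZB_R ZB_T TB_ne hi hj hq hr3 hr1
  -- the relations
  have hrel1 : (AB * RB) ^ 24 = 1 := by
    simp only [AB, RB, ← map_mul, ← map_pow, rel1, map_one]
  have hrel2 : (AB * AB * AB * RB * AB * RB * RB) ^ 22 = 1 := by
    simp only [AB, RB, ← map_mul, ← map_pow, rel2, map_one]
  have himg1 : (γ AB * γ RB) ^ 24 = 1 := by
    have h2 := congrArg γ hrel1
    simpa only [map_mul γ, map_pow γ, map_one γ] using h2
  have himg2 : (γ AB * γ AB * γ AB * γ RB * γ AB * γ RB * γ RB) ^ 22 = 1 := by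
    have h2 := congrArg γ hrel2
    simpa only [map_mul γ, map_pow γ, map_one γ] using h2
  have hfix : γ AB = AB ∧ γ RB = RB := by
    rcases hA with hA | hA <;> rcases hr with hr | hr
    · exact ⟨hA, hr⟩
    · exfalso
      rw [hA, hr] at himg1
      apply bad1
      apply qq_eq_one.1
      simpa only [map_mul, map_pow] using himg1
    · exfalso
      rw [hA, hr] at himg1
      apply bad2
      apply qq_eq_one.1
      simpa only [map_mul, map_pow, map_inv] using himg1
    · exfalso
      rw [hA, hr] at himg2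
      apply bad3
      apply qq_eq_one.1
      simpa only [map_mul, map_pow, map_inv] using himg2
  -- generation
  let K : Subgroup Co0 := (MonoidHom.eqLocus γ.toMonoidHom (MonoidHom.id _)).comap qq
  have hKA : Ag ∈ K := hfix.1
  have hKR : Rg ∈ K := hfix.2
  have htop := eq_top hKA hKR
  ext x
  obtain ⟨y, rfl⟩ := qq_surj x
  have h1 : y ∈ K := by rw [htop]; trivial
  exact h1

theorem inv_rel {G : Type*} [Group G] {u a : G} (h : u * a⁻¹ = a⁻¹ * a⁻¹ * u) : u * a = a * a * u := by
  have h1 : a * a * (u * a⁻¹) = u := by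
    rw [h]
    group
  calc u * a = (a * a * (u * a⁻¹)) * a := by rw [h1]
    _ = a * a * u := by group

/-- **The outer automorphism group of the central quotient is trivial.** -/
theorem out_co1 : Nat.card (Out Spor.Co1) = 1 := by
  apply card_out_one
  intro α
  have : Fact (Nat.Prime 23) := ⟨by norm_num⟩
  have : Finite Co0 := Nat.finite_of_card_ne_zero (by rw [card_Co0]; norm_num)
  have hcardG : Nat.card Spor.Co1 = 4157776806543360000 := by
    have h1 := Subgroup.card_eq_card_quotient_mul_card_subgroup (Subgroup.center Co0)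
    rw [Center.card_center, card_Co0] at h1
    show Nat.card (Co0 ⧸ Subgroup.center Co0) = _
    omega
  have hcard : Nat.card (⊤ : Subgroup Spor.Co1) = 23 * 180772904632320000 := by
    rw [Subgroup.card_top, hcardG]
  have hord : orderOf AB = 23 := orderOf_eq_prime AB_pow AB_ne
  have hcr : ZB * AB * ZB⁻¹ = AB ^ 2 := by
    rw [ZB_A, pow_two, mul_inv_cancel_right]
  have hnorm := hnorm_of_sylow (H := (⊤ : Subgroup Spor.Co1)) (A := AB) (c := ZB) trivial trivial 23 2
    180772904632320000 hcard (by norm_num) hord hcr (by decide)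
  obtain ⟨x, -, hx⟩ := hnorm (α AB) trivial (by rw [MulEquiv.orderOf_eq])
  -- first adjustment
  let β : MulAut Spor.Co1 := MulAut.conj x * α
  have hβA : β AB = AB ∨ β AB = AB⁻¹ := hx
  -- the image of `z`
  obtain ⟨w, hw⟩ := qq_surj (β ZB)
  have hrel : qq w * AB = AB * AB * qq w := by
    have h1 : β ZB * β AB = β AB * β AB * β ZB := by
      have h2 := congrArg β ZB_A
      simpa only [map_mul β] using h2
    rw [← hw] at h1
    rcases hβA with h2 | h2
    · rwa [h2] at h1
    · rw [h2] at h1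
      exact inv_rel h1
  have hlift : w * Ag * w⁻¹ = Ag * Ag := by
    refine lift_eq (n := 23) (by decide) (by rw [conj_pow, A_pow]; group) ?_ ?_
    · rw [(Commute.refl Ag).mul_pow, A_pow, one_mul]
    · rw [map_mul, map_mul, map_inv, hrel, map_mul, mul_inv_cancel_right]
  have hwA : w * Ag = Ag * Ag * w := by
    rw [← mul_inv_eq_iff_eq_mul]
    exact hlift
  obtain ⟨b, hb⟩ := norm_lift hwA
  have hβZ : β ZB = AB ^ b * ZB := by
    rw [← hw]
    rcases hb with h1 | h1
    · rw [h1, map_mul, map_pow]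
    · rw [h1, map_mul, map_mul, map_pow, qq_neg, one_mul]
  -- second adjustment
  let γ : MulAut Spor.Co1 := MulAut.conj (AB ^ b) * β
  have hcA : Commute (AB ^ b) AB := (Commute.refl AB).pow_left b
  have hγA : γ AB = AB ∨ γ AB = AB⁻¹ := by
    have h1 : γ AB = AB ^ b * β AB * (AB ^ b)⁻¹ := rfl
    rcases hβA with h2 | h2
    · left
      rw [h1, h2, hcA.eq, mul_inv_cancel_right]
    · right
      rw [h1, h2, hcA.inv_right.eq, mul_inv_cancel_right]
  have hγZ : γ ZB = ZB := by
    have h1 : γ ZB = AB ^ b * β ZB * (AB ^ b)⁻¹ := rfl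
    have h2 : ZB * AB ^ b = (AB * AB) ^ b * ZB := by
      have h3 : SemiconjBy ZB AB (AB * AB) := ZB_A
      exact (h3.pow_right b).eq
    have h4 : (AB * AB) ^ b = AB ^ b * AB ^ b := (Commute.refl AB).mul_pow b
    rw [h1, hβZ, ← mul_assoc, ← h4, ← h2, mul_inv_cancel_right]
  have hγ := key γ hγA hγZ
  -- conclusion
  have h1 : α = MulAut.conj ((AB ^ b * x)⁻¹) := by
    have h2 : MulAut.conj (AB ^ b) * (MulAut.conj x * α) = 1 := hγ
    rw [map_inv, map_mul]
    rw [← mul_assoc] at h2
    exact eq_inv_of_mul_eq_one_right h2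
  rw [h1]
  exact ⟨_, rfl⟩

end Cfsg.Agent.Lib.Leech.OutCo1Final
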