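import Cfsg.Agent.Lib.Leech.OutCo1Base

/-!
# The normaliser of the translation
-/

set_option autoImplicit false

namespace Cfsg.Agent.Lib.Leech.OutCo1Norm

open Cfsg Cfsg.Agent.Lib.Golay.Core Cfsg.Agent.Lib.Golay.Perm Cfsg.Agent.Lib.Leech.Basic
  Cfsg.Agent.Lib.Leech.Lat Cfsg.Agent.Lib.Leech.Mon Cfsg.Agent.Lib.Leech.Packed
  Cfsg.Agent.Lib.Leech.Vec Cfsg.Agent.Lib.Leech.Xi Cfsg.Agent.Lib.Leech.Reach
  Cfsg.Agent.Lib.Leech.Order Cfsg.Agent.Lib.Leech.Word Cfsg.Agent.Lib.Leech.Maximal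
  Cfsg.Agent.Lib.Leech.Center Cfsg.Agent.Lib.Leech.Co1 Cfsg.Agent.Lib.Leech.NF
  Cfsg.Agent.Lib.Leech.NFBase Cfsg.Agent.Lib.Leech.Even Cfsg.Agent.Lib.Leech.OutCo1Base
open scoped Pointwise

theorem coord_fix {σ : Equiv.Perm GolayPt} {hσ : σ ∈ M24} {y : L} (h : uu σ hσ • y = y)
    (p : GolayPt) : y.1 (σ p) = y.1 p := by
  have h1 : ((uu σ hσ • y : L) : GolayPt → ℤ) (σ p) = y.1 p := by
    show signedPerm σ ∅ y.1 (σ p) = y.1 p
    rw [signedPerm_apply]
    simp
  rw [h] at h1
  exact h1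

theorem uu_e8L (σ : Equiv.Perm GolayPt) (hσ : σ ∈ M24) (i : GolayPt) :
    uu σ hσ • e8L i = e8L (σ i) := by
  apply Subtype.ext
  show signedPerm σ ∅ (e8 i) = e8 (σ i)
  unfold e8
  rw [signedPerm_single]
  simp

theorem mem_NN_of_cross {w : Co0} (h : ((w • e8L none : L) : GolayPt → ℤ) ∈ stdCross) : w ∈ NN := by
  have h1 : (w • e8L none) ∈ {v : L | (v : GolayPt → ℤ) ∈ stdCross} := h
  rw [← orbit_NN none] at h1
  obtain ⟨x, hx⟩ := MulAction.mem_orbit_iff.1 h1
  exact mem_of_smul_eq le_rfl x.2 hx.symm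

/-- Commutation data of a monomial element. -/
theorem comm_data {σ : Equiv.Perm GolayPt} {hσ : σ ∈ M24} {c : Finset GolayPt} {hc : c ∈ Sup}
    {a a' : Equiv.Perm GolayPt} {ha : a ∈ M24} {ha' : a' ∈ M24}
    (h : monG σ hσ c hc * uu a ha = uu a' ha' * monG σ hσ c hc) : σ * a = a' * σ ∧ c = a' • c := by
  have h1 : monG σ hσ c hc * uu a ha = monG (σ * a) (M24.mul_mem hσ ha) (symmDiff c (σ • ∅))
      (symmDiff_mem_Sup hc (perm_mem_supports hσ empty_mem_Sup)) :=
    monG_mul σ hσ c hc a ha ∅ empty_mem_Sup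
  have h2 : uu a' ha' * monG σ hσ c hc = monG (a' * σ) (M24.mul_mem ha' hσ) (symmDiff ∅ (a' • c))
      (symmDiff_mem_Sup empty_mem_Sup (perm_mem_supports ha' hc)) :=
    monG_mul a' ha' ∅ empty_mem_Sup σ hσ c hc
  rw [h1, h2] at h
  obtain ⟨h3, h4⟩ := monG_inj h
  refine ⟨h3, ?_⟩
  have h5 : σ • (∅ : Finset GolayPt) = ∅ := Finset.smul_finset_empty σ
  rw [h5] at h4
  have h6 : symmDiff c (∅ : Finset GolayPt) = c := symmDiff_bot c
  have h7 : symmDiff (∅ : Finset GolayPt) (a' • c) = a' • c := bot_symmDiff _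
  rw [h6, h7] at h4
  exact h4

theorem eps_univ : eps Finset.univ univ_mem_Sup = negG := by
  apply ext_smul
  intro v
  apply Subtype.ext
  funext i
  show signedPerm 1 Finset.univ v.1 i = - v.1 i
  rw [signedPerm_apply]
  simp
  rfl

theorem uu_pow (σ : Equiv.Perm GolayPt) (hσ : σ ∈ M24) (n : ℕ) :
    uu (σ ^ n) (M24.pow_mem hσ n) = uu σ hσ ^ n := by
  induction n with
  | zero =>
    simp only [pow_zero]
    exact uu_one
  | succ n ih =>
    simp only [pow_succ]
    rw [← ih, uu_mul]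

/-- Iterating an index map preserving values. -/
theorem iter_val {y : ℕ → ℤ} {f : ℕ → ℕ} (h : ∀ i < 24, f i < 24 ∧ y (f i) = y i) (n : ℕ) :
    ∀ i < 24, f^[n] i < 24 ∧ y (f^[n] i) = y i := by
  induction n with
  | zero => exact fun i hi => ⟨hi, rfl⟩
  | succ n ih =>
    intro i hi
    rw [Function.iterate_succ_apply']
    obtain ⟨h1, h2⟩ := ih i hi
    obtain ⟨h3, h4⟩ := h _ h1
    exact ⟨h3, h4.trans h2⟩

/-- Two steps of the translation. -/
def fA2 (i : ℕ) : ℕ := img PA (img PA i)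

theorem fA2_lt : ∀ i < 24, fA2 i < 24 := by decide +kernel

theorem fA2_tab : ∀ i < 23, fA2^[(i * 12) % 23] 0 = i := by decide +kernel

theorem fA2_fix : ∀ t < 24, fA2 t = t → t = 23 := by decide +kernel

theorem fA2_eq : ∀ t < 23, fA2 t = (t + 2) % 23 := by decide +kernel

theorem img_PA : ∀ i < 23, img PA i = (i + 1) % 23 := by decide +kernel

theorem img_PA23 : img PA 23 = 23 := by decide +kernel

theorem img_Pz : ∀ i < 23, img Pz i = (2 * i) % 23 := by decide +kernel

theorem img_Pz23 : img Pz 23 = 23 := by decide +kernel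

theorem mulAA_pt {i : ℕ} (hi : i < 24) : (g PA * g PA) (pt i) = pt (fA2 i) := by
  have h1 : img PA i < 24 := valid_img_lt vA hi
  show g PA (g PA (pt i)) = _
  rw [g_pt vA hi, g_pt vA h1]
  rfl

theorem Ag_mul : Ag * Ag = uu (g PA * g PA) (M24.mul_mem (g_mem_M24 cA) (g_mem_M24 cA)) := uu_mul _ _ _ _

theorem gA_pow_pt (b : ℕ) : ∀ j < 23, ((g PA) ^ b) (pt j) = pt ((j + b) % 23) := by
  induction b with
  | zero =>
    intro j hj
    simp [Nat.mod_eq_of_lt hj]
  | succ b ih =>
    intro j hj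
    rw [pow_succ']
    show g PA (((g PA) ^ b) (pt j)) = _
    rw [ih j hj]
    have h1 : (j + b) % 23 < 23 := Nat.mod_lt _ (by norm_num)
    rw [g_pt vA (by omega), img_PA _ h1]
    congr 1
    omega

theorem gA_pow_pt23 (b : ℕ) : ((g PA) ^ b) (pt 23) = pt 23 := by
  induction b with
  | zero => simp
  | succ b ih =>
    rw [pow_succ']
    show g PA (((g PA) ^ b) (pt 23)) = _
    rw [ih, g_pt vA (by norm_num), img_PA23]

theorem sign_data {c : Finset GolayPt} (hc : c ∈ Sup) (h : c = (g PA * g PA) • c) :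
    c = ∅ ∨ c = Finset.univ := by
  have hB : ∀ i < 24, fA2 i < 24 ∧ (fun i => if pt i ∈ c then (1 : ℤ) else 0) (fA2 i) =
      (fun i => if pt i ∈ c then (1 : ℤ) else 0) i := by
    intro i hi
    refine ⟨fA2_lt i hi, ?_⟩
    have h1 : pt (fA2 i) ∈ c ↔ pt i ∈ c := by
      rw [← mulAA_pt hi]
      conv_lhs => rw [h]
      exact Finset.smul_mem_smul_finset_iff _
    simp only [h1]
  have hall : ∀ i < 23, (pt i ∈ c ↔ pt 0 ∈ c) := by
    intro i hi
    have h1 := (iter_val (y := fun i => if pt i ∈ c then (1 : ℤ) else 0) (f := fA2) hB ((i * 12) % 23) 0 (by norm_num)).2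
    rw [fA2_tab i hi] at h1
    by_cases h2 : pt i ∈ c <;> by_cases h3 : pt 0 ∈ c <;> simp [h2, h3] at h1 ⊢
  have key : ∀ m : ℕ, (∀ i < 24, m.testBit i = true ↔ pt i ∈ c) → c = Cfsg.Agent.Lib.Golay.Core.setOf m := by
    intro m hm
    ext p
    rw [mem_setOf]
    have := hm (idx p) (idx_lt p)
    rw [pt_idx] at this
    exact this.symm
  by_cases h0 : pt 0 ∈ c <;> by_cases h23 : pt 23 ∈ c
  · right
    ext p
    simp only [Finset.mem_univ, iff_true]
    have h1 := idx_lt p
    rw [← pt_idx p]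
    by_cases h2 : idx p = 23
    · rw [h2]; exact h23
    · exact (hall _ (by omega)).2 h0
  · exfalso
    have h1 : c = Cfsg.Agent.Lib.Golay.Core.setOf 8388607 := by
      apply key
      intro i hi
      by_cases h2 : i = 23
      · subst h2
        simp only [h23, iff_false]
        decide +kernel
      · have h3 : i < 23 := by omega
        have h4 : pt i ∈ c := (hall i h3).2 h0
        simp only [h4, iff_true]
        have tb : ∀ i < 23, Nat.testBit 8388607 i = true := by decide +kernel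
        exact tb i h3
    rw [h1] at hc
    have := (setOf_mem_supports_iff (by norm_num)).1 hc
    exact absurd this (by decide +kernel)
  · exfalso
    have h1 : c = Cfsg.Agent.Lib.Golay.Core.setOf 8388608 := by
      apply key
      intro i hi
      by_cases h2 : i = 23
      · subst h2
        simp only [h23, iff_true]
        decide +kernel
      · have h3 : i < 23 := by omega
        have h4 : ¬ pt i ∈ c := fun h5 => h0 ((hall i h3).1 h5)
        simp only [h4, iff_false]
        have tb : ∀ i < 23, ¬ Nat.testBit 8388608 i = true := by decide +kernel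
        exact tb i h3
    rw [h1] at hc
    have := (setOf_mem_supports_iff (by norm_num)).1 hc
    exact absurd this (by decide +kernel)
  · left
    ext p
    simp only [Finset.notMem_empty, iff_false]
    have h1 := idx_lt p
    rw [← pt_idx p]
    by_cases h2 : idx p = 23
    · rw [h2]; exact h23
    · exact fun h5 => h0 ((hall _ (by omega)).1 h5)

theorem perm_data {σ : Equiv.Perm GolayPt} (h : σ * g PA = (g PA * g PA) * σ) :
    ∃ b : ℕ, σ = (g PA) ^ b * g Pz := by
  have hS : ∀ i < 24, idx (σ (pt (img PA i))) = fA2 (idx (σ (pt i))) := by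
    intro i hi
    have h1 : σ (g PA (pt i)) = (g PA * g PA) (σ (pt i)) := congrFun (congrArg DFunLike.coe h) (pt i)
    rw [g_pt vA hi] at h1
    rw [h1]
    have h2 := mulAA_pt (idx_lt (σ (pt i)))
    rw [pt_idx] at h2
    rw [h2, idx_pt (fA2_lt _ (idx_lt _))]
  have h23 : idx (σ (pt 23)) = 23 := by
    have h1 := hS 23 (by norm_num)
    rw [img_PA23] at h1
    exact fA2_fix _ (idx_lt _) h1.symm
  have hb : idx (σ (pt 0)) < 23 := by
    have h1 := idx_lt (σ (pt 0))
    by_contra h2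
    have h3 : idx (σ (pt 0)) = 23 := by omega
    have h4 : σ (pt 0) = σ (pt 23) := idx_injective (h3.trans h23.symm)
    have h5 : pt 0 = pt 23 := σ.injective h4
    exact absurd h5 (by decide)
  set b := idx (σ (pt 0)) with hbdef
  have hall : ∀ i, i < 23 → idx (σ (pt i)) = (b + 2 * i) % 23 := by
    intro i
    induction i with
    | zero =>
      intro _
      rw [Nat.mul_zero, Nat.add_zero, Nat.mod_eq_of_lt hb]
    | succ i ih =>
      intro hi
      have h1 := hS i (by omega)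
      rw [img_PA i (by omega), Nat.mod_eq_of_lt hi, ih (by omega),
        fA2_eq _ (Nat.mod_lt _ (by norm_num))] at h1
      rw [h1]
      omega
  refine ⟨b, Equiv.ext fun p => ?_⟩
  rw [← pt_idx p]
  have hp := idx_lt p
  by_cases h2 : idx p = 23
  · rw [h2]
    show σ (pt 23) = ((g PA) ^ b) (g Pz (pt 23))
    have h3 : σ (pt 23) = pt 23 := by
      have := pt_idx (σ (pt 23))
      rw [h23] at this
      exact this.symm
    rw [g_pt vz (by norm_num), img_Pz23, gA_pow_pt23, h3]
  · have h3 : idx p < 23 := by omega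
    show σ (pt (idx p)) = ((g PA) ^ b) (g Pz (pt (idx p)))
    rw [g_pt vz hp, img_Pz _ h3, gA_pow_pt b _ (Nat.mod_lt _ (by norm_num))]
    rw [← pt_idx (σ (pt (idx p))), hall _ h3]
    congr 1
    omega

theorem arith23 (a b : ℤ) (h : 23 * b ^ 2 + a ^ 2 = 64) : b = 0 ∧ (a = 8 ∨ a = -8) := by
  have h1 : b ^ 2 ≤ 2 := by nlinarith [sq_nonneg a]
  have h2 : b ≤ 1 := by nlinarith
  have h3 : -1 ≤ b := by nlinarith
  have h4 : a ≤ 8 := by nlinarith [sq_nonneg b]
  have h5 : -8 ≤ a := by nlinarith [sq_nonneg b]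
  interval_cases b <;> interval_cases a <;> simp_all

/-- A vector of norm 64 fixed by two steps of the translation. -/
theorem cross_of_fix (y : L) (hfix : uu (g PA * g PA) (M24.mul_mem (g_mem_M24 cA) (g_mem_M24 cA)) • y = y)
    (hn : sqNorm y.1 = 64) : (y : GolayPt → ℤ) ∈ stdCross := by
  have hval : ∀ i < 24, fA2 i < 24 ∧ (fun i => y.1 (pt i)) (fA2 i) = (fun i => y.1 (pt i)) i := by
    intro i hi
    refine ⟨fA2_lt i hi, ?_⟩
    have h1 := coord_fix hfix (pt i)
    rw [mulAA_pt hi] at h1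
    exact h1
  have hconst : ∀ i < 23, y.1 (pt i) = y.1 (pt 0) := by
    intro i hi
    have h1 := (iter_val (y := fun i => y.1 (pt i)) (f := fA2) hval ((i * 12) % 23) 0 (by norm_num)).2
    rw [fA2_tab i hi] at h1
    exact h1
  have hs : (23 : ℤ) * (y.1 (pt 0)) ^ 2 + (y.1 (pt 23)) ^ 2 = 64 := by
    rw [← hn]
    unfold sqNorm
    rw [sum_golay, Finset.sum_range_succ]
    congr 1
    rw [Finset.sum_congr rfl fun i hi => by rw [hconst i (Finset.mem_range.1 hi)]]
    simp
  obtain ⟨hb, ha⟩ := arith23 _ _ hs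
  refine ⟨none, y.1 (pt 23), ha, ?_⟩
  funext p
  rw [← pt_idx p]
  have hp := idx_lt p
  by_cases h2 : idx p = 23
  · rw [h2]
    have h3 : pt 23 = none := rfl
    rw [h3, Pi.single_eq_same]
  · have h3 : idx p < 23 := by omega
    rw [hconst _ h3, hb]
    have h4 : pt (idx p) ≠ none := by
      rw [pt_idx]
      intro h5
      rw [h5] at h2
      exact h2 rfl
    rw [Pi.single_eq_of_ne h4]

/-- **The normaliser of the translation.** -/
theorem norm_lift {w : Co0} (h : w * Ag = Ag * Ag * w) :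
    ∃ b : ℕ, w = Ag ^ b * Zg ∨ w = negG * (Ag ^ b * Zg) := by
  have hA : Ag • e8L none = e8L none := by
    have h0 : g PA none = none := by
      have := g_pt vA (i := 23) (by norm_num)
      rw [img_PA23] at this
      exact this
    unfold Ag
    rw [uu_e8L, h0]
  have hfix : uu (g PA * g PA) (M24.mul_mem (g_mem_M24 cA) (g_mem_M24 cA)) • (w • e8L none) =
      w • e8L none := by
    rw [← Ag_mul]
    calc (Ag * Ag) • (w • e8L none) = (Ag * Ag * w) • e8L none := (mul_smul _ _ _).symm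
      _ = (w * Ag) • e8L none := by rw [h]
      _ = w • (Ag • e8L none) := mul_smul _ _ _
      _ = w • e8L none := by rw [hA]
  have hcross := cross_of_fix _ hfix (by
    rw [smul_sqNorm]
    exact sqNorm_stdCross (e8_mem_stdCross none))
  have hNN : w ∈ NN := mem_NN_of_cross hcross
  obtain ⟨σ, hσ, c, hc, rfl⟩ := presCross_eq_monG hNN
  rw [Ag_mul] at h
  obtain ⟨h1, h2⟩ := comm_data h
  obtain ⟨b', rfl⟩ := perm_data h1
  refine ⟨b', ?_⟩
  have hu : uu ((g PA) ^ b' * g Pz) hσ = Ag ^ b' * Zg := by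
    have h4 := uu_mul ((g PA) ^ b') (g Pz) (M24.pow_mem (g_mem_M24 cA) b') (g_mem_M24 cz)
    rw [uu_pow] at h4
    exact h4.symm
  rcases sign_data hc h2 with rfl | rfl
  · left
    rw [monG_eq, eps_empty, one_mul, hu]
  · right
    rw [monG_eq, hu]
    congr 1
    exact eps_univ

end Cfsg.Agent.Lib.Leech.OutCo1Norm
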