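import Cfsg.Agent.Lib.Leech.Mon
import Cfsg.Agent.Lib.Golay.Perm

/-!
# Elements of `Co0` from packed data

`monP P m` is the signed permutation with packed permutation `P` and sign word `code m`.
-/

set_option autoImplicit false

namespace Cfsg.Agent.Lib.Leech.Packed

open Cfsg Cfsg.Agent.Lib.Golay.Core Cfsg.Agent.Lib.Golay.Perm Cfsg.Agent.Lib.Leech.Lat
  Cfsg.Agent.Lib.Leech.Mon
open scoped Pointwise

theorem setOf_code_mem {m : ℕ} (hm : m < 4096) : setOf (code m) ∈ Sup :=
  mem_supports_iff'.2 ⟨m, hm, rfl⟩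

theorem setOf_mem_of_isCode {n : ℕ} (hn : n < 2 ^ 24) (h : isCode n = true) : setOf n ∈ Sup :=
  (setOf_mem_supports_iff hn).2 h

/-- Signed permutation from a packed permutation and a mask. -/
noncomputable def monP (P c : ℕ) (hP : checkAut P = true) (hc : c < 2 ^ 24) (hc' : isCode c = true) :
    Co0 :=
  monG (g P) (g_mem_M24 hP) (setOf c) (setOf_mem_of_isCode hc hc')

theorem monP_smul_apply {P c : ℕ} (hP : checkAut P = true) (hc : c < 2 ^ 24)
    (hc' : isCode c = true) (v : L) (i : GolayPt) :
    ((monP P c hP hc hc' • v : L) : GolayPt → ℤ) (g P i) =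
      if c.testBit (img P (idx i)) = true then -v.1 i else v.1 i := by
  have hv := checkAut_valid hP
  show signedPerm (g P) (setOf c) v (g P i) = _
  rw [signedPerm_apply, Equiv.symm_apply_apply]
  simp only [mem_setOf, idx_g hv]

end Cfsg.Agent.Lib.Leech.Packed
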