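import Cfsg.Agent.Lib.Leech.Xi

/-!
# Orbit relations on lattice vectors

`Reach x y`: some element of `Co0` sends `x` to `y`; `NRel x y`: some element of the monomial group
sends `x` to `y`.  Kernel checks of single steps on packed vectors.
-/

set_option autoImplicit false

namespace Cfsg.Agent.Lib.Leech.Reach

open Cfsg Cfsg.Agent.Lib.Golay.Core Cfsg.Agent.Lib.Golay.Perm Cfsg.Agent.Lib.Leech.Basic
  Cfsg.Agent.Lib.Leech.Lat Cfsg.Agent.Lib.Leech.Mon Cfsg.Agent.Lib.Leech.Packed
  Cfsg.Agent.Lib.Leech.Vec Cfsg.Agent.Lib.Leech.Xi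
open scoped Pointwise

/-- The monomial group as a subgroup of `Co0`. -/
theorem monG_inv_eq (σ : Equiv.Perm GolayPt) (hσ : σ ∈ M24) (d : Finset GolayPt) (hd : d ∈ Sup) :
    (monG σ hσ d hd)⁻¹ = monG σ⁻¹ (M24.inv_mem hσ) (σ⁻¹ • d) (inv_smul_mem_Sup hσ hd) := by
  apply inv_eq_of_mul_eq_one_right
  apply ext_smul
  intro v
  apply Subtype.ext
  show signedPerm σ d (signedPerm σ⁻¹ (σ⁻¹ • d) v) = v
  exact signedPerm_inv' σ d v

theorem presCross_mul {g h : Co0} (hg : PresCross g) (hh : PresCross h) : PresCross (g * h) :=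
  fun v hv => hg _ (hh v hv)

theorem presCross_inv {g : Co0} (hg : PresCross g) : PresCross g⁻¹ := by
  obtain ⟨σ, hσ, d, hd, rfl⟩ := presCross_eq_monG hg
  rw [monG_inv_eq]
  exact monG_presCross _ _ _ _

theorem presCross_one : PresCross 1 := fun _ hv => hv

/-- The stabiliser of the standard cross. -/
def NN : Subgroup Co0 where
  carrier := {g | PresCross g}
  one_mem' := presCross_one
  mul_mem' := presCross_mul
  inv_mem' := presCross_inv

@[simp] theorem mem_NN {g : Co0} : g ∈ NN ↔ PresCross g := Iff.rfl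

theorem monG_mem_NN (σ : Equiv.Perm GolayPt) (hσ : σ ∈ M24) (d : Finset GolayPt) (hd : d ∈ Sup) :
    monG σ hσ d hd ∈ NN := monG_presCross σ hσ d hd

/-- Elements of a subgroup `H` of `Co0` sending `x` to `y`. -/
def Rel (H : Subgroup Co0) (x y : GolayPt → ℤ) : Prop :=
  ∃ (hx : x ∈ leechLattice) (g : Co0), g ∈ H ∧ ((g • (⟨x, hx⟩ : L) : L) : GolayPt → ℤ) = y

/-- Orbits of the whole group. -/
abbrev Reach := Rel ⊤

/-- Orbits of the monomial group. -/
abbrev NRel := Rel NN

variable {H : Subgroup Co0} {x y z : GolayPt → ℤ}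

theorem Rel.mem_left (h : Rel H x y) : x ∈ leechLattice := h.1

theorem Rel.mem_right (h : Rel H x y) : y ∈ leechLattice := by
  obtain ⟨hx, g, -, rfl⟩ := h
  exact (g • (⟨x, hx⟩ : L)).2

theorem Rel.refl (hx : x ∈ leechLattice) : Rel H x x := ⟨hx, 1, H.one_mem, rfl⟩

theorem Rel.symm (h : Rel H x y) : Rel H y x := by
  obtain ⟨hx, g, hg, rfl⟩ := h
  refine ⟨(g • (⟨x, hx⟩ : L)).2, g⁻¹, H.inv_mem hg, ?_⟩
  have : g⁻¹ • (g • (⟨x, hx⟩ : L)) = ⟨x, hx⟩ := inv_smul_smul g _
  exact congrArg Subtype.val this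

theorem Rel.trans (h1 : Rel H x y) (h2 : Rel H y z) : Rel H x z := by
  obtain ⟨hx, g, hg, rfl⟩ := h1
  obtain ⟨hy, g', hg', rfl⟩ := h2
  exact ⟨hx, g' * g, H.mul_mem hg' hg, rfl⟩

theorem Rel.mono {H K : Subgroup Co0} (hHK : H ≤ K) (h : Rel H x y) : Rel K x y := by
  obtain ⟨hx, g, hg, rfl⟩ := h
  exact ⟨hx, g, hHK hg, rfl⟩

theorem NRel.reach (h : NRel x y) : Reach x y := Rel.mono le_top h

theorem rel_iff {H : Subgroup Co0} {v w : L} : Rel H v.1 w.1 ↔ ∃ g ∈ H, g • v = w := by
  constructor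
  · rintro ⟨hx, g, hg, h⟩
    exact ⟨g, hg, Subtype.ext h⟩
  · rintro ⟨g, hg, h⟩
    exact ⟨v.2, g, hg, congrArg Subtype.val h⟩

theorem nrel_signed {σ : Equiv.Perm GolayPt} (hσ : σ ∈ M24) {c : Finset GolayPt} (hc : c ∈ Sup)
    (hx : x ∈ leechLattice) : NRel x (signedPerm σ c x) :=
  ⟨hx, monG σ hσ c hc, monG_mem_NN _ _ _ _, rfl⟩

theorem reach_xi (hx : x ∈ leechLattice) : Reach x (xiF x) :=
  ⟨hx, xiG, Subgroup.mem_top _, rfl⟩

/-- A step by a signed permutation, on packed vectors. -/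
def monOK (P c n n' : ℕ) : Bool :=
  cond (checkAut P) (cond (Nat.blt c 16777216) (cond (isCode c) (monCheck P c n n') false) false) false

theorem nrel_of_monOK {P c n n' : ℕ} (h : monOK P c n n' = true) (hn : dec n ∈ leechLattice) :
    NRel (dec n) (dec n') := by
  unfold monOK at h
  cases h1 : checkAut P with
  | false => rw [h1] at h; exact absurd h (by simp)
  | true =>
    rw [h1] at h
    cases h2 : Nat.blt c 16777216 with
    | false => rw [h2] at h; exact absurd h (by simp)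
    | true =>
      rw [h2] at h
      cases h3 : isCode c with
      | false => rw [h3] at h; exact absurd h (by simp)
      | true =>
        rw [h3] at h
        have hc : c < 2 ^ 24 := by
          have : Nat.blt c 16777216 = true := h2
          simp only [Nat.blt_eq] at this
          norm_num
          exact this
        have := nrel_signed (g_mem_M24 h1) (setOf_mem_of_isCode hc h3) hn
        rwa [monCheck_sound (checkAut_valid h1) h] at this

theorem reach_of_xiCheck {n n' : ℕ} (h : xiCheck n n' = true) (hn : dec n ∈ leechLattice) :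
    Reach (dec n) (dec n') := by
  have := reach_xi hn
  rwa [xiF_eq_of_check h] at this

end Cfsg.Agent.Lib.Leech.Reach
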