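import Cfsg.Agent.Lib.PermComp.Simple

/-!
# Orbits of normal subgroups, abstract lemmas towards simplicity of stabilisers
-/

set_option autoImplicit false

namespace Cfsg.Agent.Lib.Leech.SimpleBase

open MulAction

section abstract

variable {Γ Ω : Type*} [Group Γ] [MulAction Γ Ω]

variable {K H : Subgroup Γ}

theorem mem_orbit_K {x y : Ω} : y ∈ orbit K x ↔ ∃ k ∈ K, k • x = y := by
  rw [mem_orbit_iff]
  constructor
  · rintro ⟨k, rfl⟩
    exact ⟨k.1, k.2, rfl⟩
  · rintro ⟨k, hk, rfl⟩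
    exact ⟨⟨k, hk⟩, rfl⟩

/-- A conjugate of a normal subgroup's orbit. -/
theorem image_orbit (hn : ∀ h ∈ H, ∀ k ∈ K, h * k * h⁻¹ ∈ K) {h : Γ} (hh : h ∈ H) (x : Ω) :
    (fun y => h • y) '' orbit K x = orbit K (h • x) := by
  ext y
  simp only [Set.mem_image]
  constructor
  · rintro ⟨z, hz, rfl⟩
    obtain ⟨k, hk, rfl⟩ := mem_orbit_K.1 hz
    refine mem_orbit_K.2 ⟨h * k * h⁻¹, hn h hh k hk, ?_⟩
    rw [mul_smul, mul_smul, inv_smul_smul]
  · intro hy
    obtain ⟨k, hk, rfl⟩ := mem_orbit_K.1 hy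
    refine ⟨(h⁻¹ * k * h) • x, mem_orbit_K.2 ⟨h⁻¹ * k * h, ?_, rfl⟩, ?_⟩
    · have := hn h⁻¹ (H.inv_mem hh) k hk
      rwa [inv_inv] at this
    · simp only [mul_smul, smul_inv_smul]

theorem ncard_orbit_conj (hn : ∀ h ∈ H, ∀ k ∈ K, h * k * h⁻¹ ∈ K) {h : Γ} (hh : h ∈ H) (x : Ω) :
    (orbit K (h • x)).ncard = (orbit K x).ncard := by
  rw [← image_orbit hn hh x]
  exact Set.ncard_image_of_injective _ (MulAction.injective h)

theorem orbit_eq_of_mem {x y : Ω} (h : y ∈ orbit K x) : orbit K y = orbit K x :=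
  MulAction.orbit_eq_iff.2 h

/-- The sizes of the orbits of a normal subgroup divide the size of the set. -/
theorem ncard_orbit_dvd (hn : ∀ h ∈ H, ∀ k ∈ K, h * k * h⁻¹ ∈ K) {X : Set Ω} (hXf : X.Finite)
    (hinv : ∀ k ∈ K, ∀ y ∈ X, k • y ∈ X) (htr : ∀ x ∈ X, ∀ y ∈ X, ∃ h ∈ H, h • x = y) {x : Ω}
    (hx : x ∈ X) : (orbit K x).ncard ∣ X.ncard := by
  classical
  rw [Set.ncard_eq_toFinset_card X hXf]
  set F := hXf.toFinset with hF
  have hmem : ∀ y, y ∈ F ↔ y ∈ X := fun y => hXf.mem_toFinset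
  rw [Finset.card_eq_sum_card_image (fun y => orbit K y) F]
  apply Finset.dvd_sum
  intro b hb
  obtain ⟨y, hy, rfl⟩ := Finset.mem_image.1 hb
  have hy' : y ∈ X := (hmem y).1 hy
  obtain ⟨h, hh, rfl⟩ := htr x hx y hy'
  have h1 : (orbit K (h • x)).ncard = (orbit K x).ncard := ncard_orbit_conj hn hh x
  have h2 : (F.filter fun z => orbit K z = orbit K (h • x)).card = (orbit K (h • x)).ncard := by
    have hsub : orbit K (h • x) ⊆ X := by
      intro z hz
      obtain ⟨k, hk, rfl⟩ := mem_orbit_K.1 hz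
      exact hinv k hk _ hy'
    have hfin : (orbit K (h • x)).Finite := hXf.subset hsub
    rw [Set.ncard_eq_toFinset_card _ hfin]
    congr 1
    ext z
    simp only [Finset.mem_filter, hfin.mem_toFinset]
    constructor
    · rintro ⟨-, h3⟩
      rw [← h3]
      exact mem_orbit_self z
    · intro h3
      exact ⟨(hmem z).2 (hsub h3), orbit_eq_of_mem h3⟩
  rw [h2, h1]

/-- The size of an orbit divides the order of the group. -/
theorem ncard_orbit_dvd_card [Finite K] (x : Ω) : (orbit K x).ncard ∣ Nat.card K := by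
  rw [← MulAction.index_stabilizer]
  exact Subgroup.index_dvd_card _

/-- An orbit of a normal subgroup is stable under the point stabiliser. -/
theorem mem_orbit_of_stab (hn : ∀ h ∈ H, ∀ k ∈ K, h * k * h⁻¹ ∈ K) {x a b : Ω} (ha : a ∈ orbit K x)
    {h : Γ} (hh : h ∈ H) (hx : h • x = x) (hab : h • a = b) : b ∈ orbit K x := by
  have := image_orbit hn hh x
  rw [hx] at this
  rw [← this]
  exact ⟨a, ha, hab⟩

/-- Possible sizes of a union of a point and some of the given sets. -/
def sums : List ℕ → List ℕ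
  | [] => [1]
  | n :: l => sums l ++ (sums l).map (· + n)

/-- Sizes of unions. -/
theorem ncard_mem_sums {x : Ω} (As : List (Set Ω × ℕ)) {O : Set Ω} (hO : O.Finite) (hxO : x ∈ O)
    (hcard : ∀ p ∈ As, p.1.ncard = p.2) (hx : ∀ p ∈ As, x ∉ p.1)
    (hd : As.Pairwise fun p q => Disjoint p.1 q.1)
    (hcov : ∀ y ∈ O, y = x ∨ ∃ p ∈ As, y ∈ p.1)
    (hsat : ∀ p ∈ As, (O ∩ p.1).Nonempty → p.1 ⊆ O) :
    O.ncard ∈ sums (As.map Prod.snd) := by
  induction As generalizing O with
  | nil =>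
    have : O = {x} := by
      ext y
      simp only [Set.mem_singleton_iff]
      constructor
      · intro hy
        rcases hcov y hy with h | ⟨p, hp, -⟩
        · exact h
        · simp at hp
      · rintro rfl
        exact hxO
    simp [sums, this]
  | cons A As ih =>
    have hcard' : ∀ p ∈ As, p.1.ncard = p.2 := fun p hp => hcard p (List.mem_cons_of_mem _ hp)
    have hx' : ∀ p ∈ As, x ∉ p.1 := fun p hp => hx p (List.mem_cons_of_mem _ hp)
    have hd' := (List.pairwise_cons.1 hd).2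
    have hdA := (List.pairwise_cons.1 hd).1
    simp only [List.map_cons, sums, List.mem_append, List.mem_map]
    by_cases hA : (O ∩ A.1).Nonempty
    · right
      have hsub : A.1 ⊆ O := hsat A (by simp) hA
      refine ⟨(O \ A.1).ncard, ih (hO.subset Set.sdiff_subset) ⟨hxO, hx A (by simp)⟩ hcard' hx' hd' ?_ ?_, ?_⟩
      · rintro y ⟨hy, hyA⟩
        rcases hcov y hy with h | ⟨p, hp, hyp⟩
        · exact Or.inl h
        · rcases List.mem_cons.1 hp with rfl | hp
          · exact absurd hyp hyA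
          · exact Or.inr ⟨p, hp, hyp⟩
      · rintro p hp ⟨y, ⟨hy, -⟩, hyp⟩ z hz
        refine ⟨hsat p (List.mem_cons_of_mem _ hp) ⟨y, hy, hyp⟩ hz, ?_⟩
        intro hzA
        exact Set.disjoint_left.1 (hdA p hp) hzA hz
      · have := Set.ncard_sdiff_add_ncard_of_subset hsub hO
        rw [hcard A (by simp)] at this
        exact this
    · left
      apply ih hO hxO hcard' hx' hd'
      · intro y hy
        rcases hcov y hy with h | ⟨p, hp, hyp⟩
        · exact Or.inl h
        · rcases List.mem_cons.1 hp with rfl | hp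
          · exact absurd ⟨y, hy, hyp⟩ hA
          · exact Or.inr ⟨p, hp, hyp⟩
      · exact fun p hp => hsat p (List.mem_cons_of_mem _ hp)

/-- The block sizes of a normal subgroup, given the suborbits. -/
theorem block_size (hn : ∀ h ∈ H, ∀ k ∈ K, h * k * h⁻¹ ∈ K) {X : Set Ω} (hXf : X.Finite)
    (hinv : ∀ k ∈ K, ∀ y ∈ X, k • y ∈ X) {x : Ω} (hxX : x ∈ X) (As : List (Set Ω × ℕ))
    (hcard : ∀ p ∈ As, p.1.ncard = p.2) (hx : ∀ p ∈ As, x ∉ p.1)
    (hd : As.Pairwise fun p q => Disjoint p.1 q.1)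
    (hcov : ∀ y ∈ X, y = x ∨ ∃ p ∈ As, y ∈ p.1)
    (htr : ∀ p ∈ As, ∀ a ∈ p.1, ∀ b ∈ p.1, ∃ h ∈ H, h • x = x ∧ h • a = b) :
    (orbit K x).ncard ∈ sums (As.map Prod.snd) := by
  have hsub : orbit K x ⊆ X := by
    intro z hz
    obtain ⟨k, hk, rfl⟩ := mem_orbit_K.1 hz
    exact hinv k hk _ hxX
  refine ncard_mem_sums As (hXf.subset hsub) (mem_orbit_self x) hcard hx hd
    (fun y hy => hcov y (hsub hy)) ?_
  rintro p hp ⟨a, ha, hap⟩ b hb
  obtain ⟨h, hh, h1, h2⟩ := htr p hp a hap b hb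
  exact mem_orbit_of_stab hn ha hh h1 h2

/-- When the orbits of a normal subgroup on a transitive set are points, it acts trivially. -/
theorem fix_of_ncard_one (hn : ∀ h ∈ H, ∀ k ∈ K, h * k * h⁻¹ ∈ K) {X : Set Ω}
    (htr : ∀ x ∈ X, ∀ y ∈ X, ∃ h ∈ H, h • x = y) {x : Ω} (hx : x ∈ X)
    (h1 : (orbit K x).ncard = 1) {k : Γ} (hk : k ∈ K) {y : Ω} (hy : y ∈ X) : k • y = y := by
  obtain ⟨h, hh, rfl⟩ := htr x hx y hy
  have h2 := ncard_orbit_conj hn hh x
  rw [h1] at h2
  obtain ⟨z, hz⟩ := Set.ncard_eq_one.1 h2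
  have h3 : k • h • x ∈ orbit K (h • x) := mem_orbit_K.2 ⟨k, hk, rfl⟩
  have h4 : h • x ∈ orbit K (h • x) := mem_orbit_self _
  rw [hz] at h3 h4
  exact h3.trans h4.symm

/-- A simple group meeting a normal subgroup lies in it. -/
theorem le_of_simple {A : Type*} [Group A] [IsSimpleGroup A] (f : A →* Γ) (hfH : ∀ a, f a ∈ H)
    (hn : ∀ h ∈ H, ∀ k ∈ K, h * k * h⁻¹ ∈ K) {x : A} (hx : x ≠ 1) (hfx : f x ∈ K) (a : A) : f a ∈ K := by
  have hN : (K.comap f).Normal := ⟨fun n hn' g => by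
    have : f (g * n * g⁻¹) = f g * f n * (f g)⁻¹ := by simp
    show f (g * n * g⁻¹) ∈ K
    rw [this]
    exact hn _ (hfH g) _ hn'⟩
  rcases IsSimpleGroup.eq_bot_or_eq_top_of_normal (K.comap f) hN with h | h
  · exfalso
    have : x ∈ K.comap f := hfx
    rw [h] at this
    exact hx this
  · have : a ∈ K.comap f := by rw [h]; trivial
    exact this

/-- Sylow: a simple subgroup of order divisible by a prime lies in any normal subgroup of order
divisible by that prime, if the prime divides the order of the group exactly once. -/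
theorem le_of_prime_dvd {A : Type*} [Group A] [IsSimpleGroup A] [Finite A] [Finite H] (f : A →* Γ)
    (hf : Function.Injective f) (hfH : ∀ a, f a ∈ H) (hKH : K ≤ H)
    (hn : ∀ h ∈ H, ∀ k ∈ K, h * k * h⁻¹ ∈ K) (p : ℕ) [hp : Fact p.Prime]
    (hpA : p ∣ Nat.card A) (hpK : p ∣ Nat.card K) (hpH : ¬ p ^ 2 ∣ Nat.card H) (a : A) : f a ∈ K := by
  classical
  obtain ⟨t, ht⟩ := exists_prime_orderOf_dvd_card' p hpA
  have hK' : (K.subgroupOf H).Normal := ⟨fun n hn' g => hn _ g.2 _ hn'⟩
  let T : H := ⟨f t, hfH t⟩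
  have hTo : orderOf T = p := by
    have h1 : orderOf T = orderOf (f t) := by
      rw [← Subgroup.orderOf_coe]
    rw [h1, orderOf_injective f hf, ht]
  have hcK : Nat.card (K.subgroupOf H) = Nat.card K :=
    Nat.card_congr (Subgroup.subgroupOfEquivOfLe hKH).toEquiv
  have hdvd : p ∣ Nat.card H := by
    have h1 : p ∣ Nat.card (K.subgroupOf H) := by rw [hcK]; exact hpK
    exact h1.trans (Subgroup.card_subgroup_dvd_card _)
  have hfac : (Nat.card H).factorization p = 1 := by
    have hpos : Nat.card H ≠ 0 := Nat.card_pos.ne'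
    have h1 : 1 ≤ (Nat.card H).factorization p :=
      (hp.out.dvd_iff_one_le_factorization hpos).1 hdvd
    have h2 : ¬ 2 ≤ (Nat.card H).factorization p := fun h =>
      hpH ((hp.out.pow_dvd_iff_le_factorization hpos).2 h)
    omega
  obtain ⟨y, hyP, hyK, hyo⟩ := Cfsg.Agent.Lib.PermComp.Simple.exists_mem_sylow_of_dvd
    (K.subgroupOf H) p (by rw [hcK]; exact hpK) (Subgroup.zpowers T)
    (by rw [Nat.card_zpowers, hTo, hfac, pow_one])
  obtain ⟨n, rfl⟩ := Subgroup.mem_zpowers_iff.1 hyP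
  have hy1 : t ^ n ≠ 1 := by
    intro h
    have : T ^ n = 1 := by
      apply Subtype.ext
      show f t ^ n = 1
      rw [← map_zpow, h, map_one]
    rw [this, orderOf_one] at hyo
    exact hp.out.one_lt.ne hyo
  refine le_of_simple f hfH hn hy1 ?_ a
  have : ((T ^ n : H) : Γ) = f (t ^ n) := by
    simp [T]
  rw [← this]
  exact hyK

/-- Simplicity from normal subgroups inside a big group. -/
theorem isSimple_of (H : Subgroup Γ) [Nontrivial H]
    (h : ∀ K : Subgroup Γ, K ≤ H → (∀ h ∈ H, ∀ k ∈ K, h * k * h⁻¹ ∈ K) → K = ⊥ ∨ K = H) :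
    IsSimpleGroup H := by
  refine ⟨fun N hN => ?_⟩
  have h1 : N.map H.subtype ≤ H := by
    rintro _ ⟨x, -, rfl⟩
    exact x.2
  have h2 : ∀ h ∈ H, ∀ k ∈ N.map H.subtype, h * k * h⁻¹ ∈ N.map H.subtype := by
    rintro h hh _ ⟨x, hx, rfl⟩
    exact ⟨⟨h, hh⟩ * x * ⟨h, hh⟩⁻¹, hN.conj_mem x hx _, rfl⟩
  rcases h _ h1 h2 with h3 | h3
  · left
    exact (Subgroup.map_eq_bot_iff_of_injective _ H.subtype_injective).1 h3
  · right
    rw [eq_top_iff]
    intro x _
    have : (x : Γ) ∈ N.map H.subtype := by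
      rw [h3]
      exact x.2
    obtain ⟨y, hy, hxy⟩ := this
    have : y = x := Subtype.ext hxy
    rwa [← this]

/-- The order of a normal subgroup from an orbit and the elements fixing a point. -/
theorem card_ge [Finite K] {A : Type*} [Group A] [Finite A] (f : A →* Γ) (hf : Function.Injective f)
    (hfK : ∀ a, f a ∈ K) {x : Ω} (hfx : ∀ a, f a • x = x) :
    (orbit K x).ncard * Nat.card A ≤ Nat.card K := by
  let g : A →* stabilizer K x :=
    { toFun := fun a => ⟨⟨f a, hfK a⟩, hfx a⟩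
      map_one' := by
        apply Subtype.ext
        apply Subtype.ext
        simp
      map_mul' := fun a b => by
        apply Subtype.ext
        apply Subtype.ext
        simp }
  have hg : Function.Injective g := by
    intro a b hab
    apply hf
    have := congrArg (fun z : stabilizer K x => ((z : K) : Γ)) hab
    exact this
  have h1 : Nat.card A ≤ Nat.card (stabilizer K x) := Nat.card_le_card_of_injective g hg
  rw [← MulAction.index_stabilizer, ← Subgroup.card_mul_index (stabilizer K x), mul_comm]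
  exact Nat.mul_le_mul_right _ h1

end abstract

end Cfsg.Agent.Lib.Leech.SimpleBase
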