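import Cfsg.Agent.Lib.Leech.SimpleSpan

/-!
# A spanning set of minimal vectors with inner product 8 with a given one
-/

set_option autoImplicit false

namespace Cfsg.Agent.Lib.Leech.SimpleCertE

open Cfsg.Agent.Lib.Leech.SimpleSpan

/-- Spanning vectors. -/
def zs8 : List ℕ := [857398955446444600982180990621860368, 728769222282640781454825196982158897, 728926410957069081900610788179625521, 728931323103144966289541587904546353, 728931476607709837676695675395950129, 728931481404727489907544240630056497, 728931481554634291539758258293622321, 728931481559318879090764946345608753, 728931481559465272451733905347233329, 728931481559469847244264185316034097, 728931481559469990206530756565059121, 728931481559469994674101586916591153, 728931481559469994813713175365076529, 728931481559469994818076037504091697, 728931481559469994818212376945935921,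 728931481559469994818216637553493553, 728931481559469994818216770697479729, 728931481559469994818216774858229297, 728931481559469994818216774988252721, 728931481559469994818216774992315953, 728931481559469994818216774992442929, 728931481559469994818216774992446897, 728931481559469994818216774992447021, 769129908851352531371471949093423634]

/-- Coefficients. -/
def A8 : List (List ℤ) := [[(-1), 1, 1, 1, 1, 1, 1, 1, 1, 1, 1, 1, 1, 1, 1, 1, 1, 1, 1, 1, 1, 1, (-17), 0],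
  [(-1), 1, 1, 1, 1, 1, 1, 1, 1, 1, 1, 1, 1, 1, 1, 1, 1, 1, 1, 1, 1, (-17), 1, 0],
  [(-1), 1, 1, 1, 1, 1, 1, 1, 1, 1, 1, 1, 1, 1, 1, 1, 1, 1, 1, 1, (-17), 1, 1, 0],
  [(-1), 1, 1, 1, 1, 1, 1, 1, 1, 1, 1, 1, 1, 1, 1, 1, 1, 1, 1, (-17), 1, 1, 1, 0],
  [(-1), 1, 1, 1, 1, 1, 1, 1, 1, 1, 1, 1, 1, 1, 1, 1, 1, 1, (-17), 1, 1, 1, 1, 0],
  [(-1), 1, 1, 1, 1, 1, 1, 1, 1, 1, 1, 1, 1, 1, 1, 1, 1, (-17), 1, 1, 1, 1, 1, 0],
  [(-1), 1, 1, 1, 1, 1, 1, 1, 1, 1, 1, 1, 1, 1, 1, 1, (-17), 1, 1, 1, 1, 1, 1, 0],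
  [(-1), 1, 1, 1, 1, 1, 1, 1, 1, 1, 1, 1, 1, 1, 1, (-17), 1, 1, 1, 1, 1, 1, 1, 0],
  [(-1), 1, 1, 1, 1, 1, 1, 1, 1, 1, 1, 1, 1, 1, (-17), 1, 1, 1, 1, 1, 1, 1, 1, 0],
  [(-1), 1, 1, 1, 1, 1, 1, 1, 1, 1, 1, 1, 1, (-17), 1, 1, 1, 1, 1, 1, 1, 1, 1, 0],
  [(-1), 1, 1, 1, 1, 1, 1, 1, 1, 1, 1, 1, (-17), 1, 1, 1, 1, 1, 1, 1, 1, 1, 1, 0],
  [(-1), 1, 1, 1, 1, 1, 1, 1, 1, 1, 1, (-17), 1, 1, 1, 1, 1, 1, 1, 1, 1, 1, 1, 0],
  [(-1), 1, 1, 1, 1, 1, 1, 1, 1, 1, (-17), 1, 1, 1, 1, 1, 1, 1, 1, 1, 1, 1, 1, 0],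
  [(-1), 1, 1, 1, 1, 1, 1, 1, 1, (-17), 1, 1, 1, 1, 1, 1, 1, 1, 1, 1, 1, 1, 1, 0],
  [(-1), 1, 1, 1, 1, 1, 1, 1, (-17), 1, 1, 1, 1, 1, 1, 1, 1, 1, 1, 1, 1, 1, 1, 0],
  [(-1), 1, 1, 1, 1, 1, 1, (-17), 1, 1, 1, 1, 1, 1, 1, 1, 1, 1, 1, 1, 1, 1, 1, 0],
  [(-1), 1, 1, 1, 1, 1, (-17), 1, 1, 1, 1, 1, 1, 1, 1, 1, 1, 1, 1, 1, 1, 1, 1, 0],
  [(-1), 1, 1, 1, 1, (-17), 1, 1, 1, 1, 1, 1, 1, 1, 1, 1, 1, 1, 1, 1, 1, 1, 1, 0],
  [(-1), 1, 1, 1, (-17), 1, 1, 1, 1, 1, 1, 1, 1, 1, 1, 1, 1, 1, 1, 1, 1, 1, 1, 0],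
  [(-1), 1, 1, (-17), 1, 1, 1, 1, 1, 1, 1, 1, 1, 1, 1, 1, 1, 1, 1, 1, 1, 1, 1, 0],
  [(-1), 1, (-17), 1, 1, 1, 1, 1, 1, 1, 1, 1, 1, 1, 1, 1, 1, 1, 1, 1, 1, 1, 1, 0],
  [(-1), (-17), 1, 1, 1, 1, 1, 1, 1, 1, 1, 1, 1, 1, 1, 1, 1, 1, 1, 1, 1, 1, 1, 0],
  [11, 7, 7, 7, 7, 7, 7, 7, 7, 7, 7, (-11), (-11), 7, 7, 7, (-11), (-11), (-11), 7, (-11), 7, (-11), (-36)],
  [7, (-7), (-7), (-7), (-7), (-7), (-7), (-7), (-7), (-7), (-7), 11, 11, (-7), (-7), (-7), 11, 11, 11, (-7), 11, (-7), 11, 36]]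

/-- Multiplier. -/
def m8 : ℤ := 72

theorem span8 : spanB zs8 A8 m8 = true := by decide +kernel

end Cfsg.Agent.Lib.Leech.SimpleCertE
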