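import Cfsg.Agent.Lib.Leech.Co1
import Cfsg.Agent.Lib.Leech.ConfigB
import Cfsg.Agent.Lib.PermComp.Mathieu.Simple2x
import Cfsg.Agent.Lib.Leech.SimpleBase

/-!
# Subgroups of the group of the code inside stabilisers
-/

set_option autoImplicit false

namespace Cfsg.Agent.Lib.Leech.SimpleMon

open Cfsg Cfsg.Agent.Lib.Golay.Core Cfsg.Agent.Lib.Golay.Perm Cfsg.Agent.Lib.Leech.Basic
  Cfsg.Agent.Lib.Leech.Vec Cfsg.Agent.Lib.Leech.Lat Cfsg.Agent.Lib.Leech.Mon
  Cfsg.Agent.Lib.Leech.Co1 Cfsg.Agent.Lib.Leech.ConfigB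

open MulAction

theorem uH_inj : Function.Injective uH := by
  intro a b h
  have h1 : monG a.1 a.2 ∅ Cfsg.Agent.Lib.Leech.NFBase.empty_mem_Sup =
      monG b.1 b.2 ∅ Cfsg.Agent.Lib.Leech.NFBase.empty_mem_Sup := h
  exact Subtype.ext (monG_inj h1).1

/-- A subgroup of the group of the code, conjugated. -/
noncomputable def fG (B : Subgroup M24) (t : Co0) : B →* Co0 :=
  (MulAut.conj t⁻¹).toMonoidHom.comp (uH.comp B.subtype)

theorem fG_apply (B : Subgroup M24) (t : Co0) (a : B) : fG B t a = t⁻¹ * uH a.1 * t := by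
  show t⁻¹ * uH a.1 * t⁻¹⁻¹ = _
  rw [inv_inv]

theorem fG_inj (B : Subgroup M24) (t : Co0) : Function.Injective (fG B t) := by
  intro a b h
  rw [fG_apply, fG_apply] at h
  have h2 : uH a.1 = uH b.1 := by
    have h3 := congrArg (fun g => t * g * t⁻¹) h
    simpa [mul_assoc] using h3
  exact Subtype.ext (uH_inj h2)

theorem uH_coe (a : M24) (y : L) (i : GolayPt) :
    ((uH a • y : L) : GolayPt → ℤ) i = (y : GolayPt → ℤ) (a.1.symm i) := by
  show signedPerm a.1 ∅ y i = _
  rw [signedPerm_apply]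
  simp

/-- A permutation fixing a set of points fixes a vector which is constant elsewhere. -/
theorem uH_fix {S : GolayPt → Prop} {y : L}
    (hc : ∀ i j, ¬ S i → ¬ S j → (y : GolayPt → ℤ) i = (y : GolayPt → ℤ) j) {a : M24}
    (ha : ∀ p, S p → a.1 p = p) : uH a • y = y := by
  apply Subtype.ext
  funext i
  rw [uH_coe]
  by_cases hi : S i
  · have : a.1.symm i = i := by
      rw [Equiv.symm_apply_eq]
      exact (ha i hi).symm
    rw [this]
  · apply hc _ _ _ hi
    intro h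
    have := ha _ h
    rw [Equiv.apply_symm_apply] at this
    rw [this] at hi
    exact hi h

theorem fG_fix {B : Subgroup M24} {t : Co0} {l : List (L × ℕ)} (ht : Maps t l) {p : L × ℕ} (hp : p ∈ l)
    (hfix : ∀ a : B, uH a.1 • (⟨dec p.2, ht.mem hp⟩ : L) = ⟨dec p.2, ht.mem hp⟩) (a : B) :
    fG B t a • p.1 = p.1 := by
  rw [fG_apply, mul_smul, mul_smul, ht.eq hp, hfix a, ← ht.eq hp, inv_smul_smul]

/-- The stabiliser of two points. -/
abbrev B22 : Subgroup M24 := stabilizer M24 (pt 22) ⊓ stabilizer M24 (pt 23)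

/-- The stabiliser of a point. -/
abbrev B23 : Subgroup M24 := stabilizer M24 (pt 23)

theorem pt_ne : pt 22 ≠ pt 23 := by decide +kernel

instance : IsSimpleGroup B22 := Cfsg.Agent.Lib.PermComp.Mathieu.Simple2x.isSimple_stab_two _ _ pt_ne

instance : IsSimpleGroup B23 := Cfsg.Agent.Lib.PermComp.Mathieu.Simple2x.isSimple_stab _

theorem card_B22 : Nat.card B22 = 443520 :=
  Cfsg.Agent.Lib.PermComp.Mathieu.Simple2x.card_stab_two _ _ pt_ne

theorem card_B23 : Nat.card B23 = 10200960 :=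
  Cfsg.Agent.Lib.PermComp.Mathieu.Simple2x.card_stab _

instance : Finite B22 := Nat.finite_of_card_ne_zero (by rw [card_B22]; norm_num)

instance : Finite B23 := Nat.finite_of_card_ne_zero (by rw [card_B23]; norm_num)

/-- Fixing a vector constant off the two special points. -/
theorem fix22 {n : ℕ} (hn : dec n ∈ leechLattice)
    (hc : ∀ i j, i ≠ pt 22 → i ≠ pt 23 → j ≠ pt 22 → j ≠ pt 23 → dec n i = dec n j) (a : B22) :
    uH a.1 • (⟨dec n, hn⟩ : L) = ⟨dec n, hn⟩ := by
  apply uH_fix (S := fun p => p = pt 22 ∨ p = pt 23)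
  · intro i j hi hj
    push Not at hi hj
    exact hc i j hi.1 hi.2 hj.1 hj.2
  · rintro p (rfl | rfl)
    · exact a.2.1
    · exact a.2.2

/-- Fixing a vector constant off the special point. -/
theorem fix23 {n : ℕ} (hn : dec n ∈ leechLattice)
    (hc : ∀ i j, i ≠ pt 23 → j ≠ pt 23 → dec n i = dec n j) (a : B23) :
    uH a.1 • (⟨dec n, hn⟩ : L) = ⟨dec n, hn⟩ := by
  apply uH_fix (S := fun p => p = pt 23)
  · intro i j hi hj
    exact hc i j hi hj
  · rintro p rfl
    exact a.2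

end Cfsg.Agent.Lib.Leech.SimpleMon
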