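import Cfsg.Agent.Lib.Leech.SimpleBase
import Cfsg.Agent.Lib.Leech.ConfigB

/-!
# Fixing a spanning set of vectors
-/

set_option autoImplicit false

namespace Cfsg.Agent.Lib.Leech.SimpleSpan

open Cfsg Cfsg.Agent.Lib.Golay.Core Cfsg.Agent.Lib.Golay.Perm Cfsg.Agent.Lib.Leech.Basic Cfsg.Agent.Lib.Leech.Vec
  Cfsg.Agent.Lib.Leech.Cert Cfsg.Agent.Lib.Leech.Lat Cfsg.Agent.Lib.Leech.ConfigB

/-- An integer combination of decoded vectors, at a coordinate. -/
def comboAt : List ℤ → List ℕ → ℕ → ℤ
  | a :: as, z :: zs, i => a * (((img z i : ℕ) : ℤ) - 16) + comboAt as zs i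
  | _, _, _ => 0

/-- The combinations give multiples of the coordinate vectors. -/
def spanB (zs : List ℕ) (A : List (List ℤ)) (m : ℤ) : Bool :=
  allUpTo (fun p => allUpTo (fun q => decide (comboAt (A.getD p []) zs q = if p = q then m else 0)) 24) 24

theorem sum_comboAt (r : GolayPt → ℤ) : ∀ (as : List ℤ) (zs : List ℕ),
    (∀ z ∈ zs, dotInt r (dec z) = 0) → ∑ p, r p * comboAt as zs (idx p) = 0 := by
  intro as
  induction as with
  | nil =>
    intro zs _
    simp [comboAt]
  | cons a as ih =>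
    intro zs hzs
    cases zs with
    | nil => simp [comboAt]
    | cons z zs =>
      have h1 := ih zs (fun y hy => hzs y (List.mem_cons_of_mem _ hy))
      have h2 := hzs z (by simp)
      have h3 : ∀ p, r p * comboAt (a :: as) (z :: zs) (idx p) =
          a * (r p * dec z p) + r p * comboAt as zs (idx p) := by
        intro p
        show r p * (a * (((img z (idx p) : ℕ) : ℤ) - 16) + comboAt as zs (idx p)) =
          a * (r p * (((img z (idx p) : ℕ) : ℤ) - 16)) + r p * comboAt as zs (idx p)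
        ring
      simp only [h3, Finset.sum_add_distrib, h1, ← Finset.mul_sum]
      have h4 : dotInt r (dec z) = ∑ p, r p * dec z p := rfl
      rw [← h4, h2]
      ring

theorem idx_inj {p q : GolayPt} (h : idx p = idx q) : p = q := by
  rw [← pt_idx p, ← pt_idx q, h]

theorem eq_zero_of_orth {zs : List ℕ} {A : List (List ℤ)} {m : ℤ} (h : spanB zs A m = true) (hm : m ≠ 0)
    (r : GolayPt → ℤ) (hr : ∀ z ∈ zs, dotInt r (dec z) = 0) : r = 0 := by
  classical
  funext p
  have h1 := sum_comboAt r (A.getD (idx p) []) zs hr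
  have h2 : ∀ q, r q * comboAt (A.getD (idx p) []) zs (idx q) = if q = p then r p * m else 0 := by
    intro q
    have h3 := allUpTo_iff.1 (allUpTo_iff.1 h (idx p) (idx_lt p)) (idx q) (idx_lt q)
    have h4 := of_decide_eq_true h3
    rw [h4]
    by_cases hq : q = p
    · subst hq
      simp
    · have : idx p ≠ idx q := fun h => hq (idx_inj h).symm
      rw [if_neg this, if_neg hq, mul_zero]
  simp only [h2] at h1
  rw [Finset.sum_ite_eq' Finset.univ p] at h1
  simp only [Finset.mem_univ, if_true, mul_eq_zero, hm, or_false] at h1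
  exact h1

/-- An automorphism fixing a spanning set is trivial. -/
theorem eq_one_of_fix {zs : List ℕ} {A : List (List ℤ)} {m : ℤ} (h : spanB zs A m = true) (hm : m ≠ 0)
    {g : Co0} (hg : ∀ z ∈ zs, ∃ y : L, (y : GolayPt → ℤ) = dec z ∧ g • y = y) : g = 1 := by
  apply ext_smul
  intro v
  rw [one_smul]
  have h1 : ((g • v : L) : GolayPt → ℤ) - (v : GolayPt → ℤ) = 0 := by
    apply eq_zero_of_orth h hm
    intro z hz
    obtain ⟨y, hy, hgy⟩ := hg z hz
    rw [dotInt_sub_left, ← hy]
    have h2 := smul_dot g v y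
    rw [hgy] at h2
    rw [h2, sub_self]
  exact Subtype.ext (sub_eq_zero.1 h1)

/-- The check that a list consists of references and elements of a class. -/
def listB (rs : List ℕ) (N : ℕ) (conds : List (ℕ × ℕ × ℕ)) (zs : List ℕ) : Bool :=
  zs.all fun z => rs.contains z || classB N conds z

/-- An automorphism fixing the references and a class is trivial. -/
theorem faith {X : Set L} {t g : Co0} {N : ℕ} {conds : List (ℕ × ℕ × ℕ)} {l : List (L × ℕ)}
    (hiff : ∀ y, y ∈ X ↔ Cl N conds ((t • y : L) : GolayPt → ℤ)) (ht : Maps t l)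
    {zs : List ℕ} {A : List (List ℤ)} {m : ℤ} (h : spanB zs A m = true) (hm : m ≠ 0)
    (hl : listB (l.map Prod.snd) N conds zs = true)
    (h1 : ∀ p ∈ l, g • p.1 = p.1) (h2 : ∀ y ∈ X, g • y = y) : g = 1 := by
  have key : t * g * t⁻¹ = 1 := by
    apply eq_one_of_fix h hm
    intro z hz
    have h3 := List.all_eq_true.1 hl z hz
    rcases Bool.or_eq_true _ _ ▸ h3 with h4 | h4
    · obtain ⟨p, hp, rfl⟩ := List.mem_map.1 (List.contains_iff_mem.1 h4)
      refine ⟨t • p.1, ht p hp, ?_⟩
      rw [mul_smul, mul_smul, inv_smul_smul, h1 p hp]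
    · have hcl : Cl N conds (dec z) := classB_iff.1 h4
      let y0 : L := ⟨dec z, hcl.1⟩
      refine ⟨y0, rfl, ?_⟩
      have hx : t⁻¹ • y0 ∈ X := by
        rw [hiff, smul_inv_smul]
        exact hcl
      rw [mul_smul, mul_smul, h2 _ hx, smul_inv_smul]
  have : g = t⁻¹ * (t * g * t⁻¹) * t := by group
  rw [this, key]
  group

end Cfsg.Agent.Lib.Leech.SimpleSpan
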