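import Cfsg.Agent.Lib.Leech.ConfigO
import Cfsg.Agent.Lib.Leech.SimpleMon
import Cfsg.Agent.Lib.Leech.SimpleSpan

/-!
# Generic facts on classes used in the proofs of simplicity
-/

set_option autoImplicit false

namespace Cfsg.Agent.Lib.Leech.SimpleConf

open Cfsg Cfsg.Agent.Lib.Golay.Core Cfsg.Agent.Lib.Leech.Basic Cfsg.Agent.Lib.Leech.Vec
  Cfsg.Agent.Lib.Leech.Cert Cfsg.Agent.Lib.Leech.CertBase Cfsg.Agent.Lib.Leech.Word
  Cfsg.Agent.Lib.Leech.Lat Cfsg.Agent.Lib.Leech.Reach Cfsg.Agent.Lib.Leech.Order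
  Cfsg.Agent.Lib.Leech.ConfigB Cfsg.Agent.Lib.Leech.ConfigO

open MulAction

instance : Finite Co0 := Nat.finite_of_card_ne_zero (by rw [card_Co0]; norm_num)

/-- Orbit-stabiliser inside a subgroup. -/
theorem card_inf {S : Subgroup Co0} {x : L} {X : Set L} (h : orbit S x = X) :
    Nat.card ↥(S ⊓ stabilizer Co0 x) * X.ncard = Nat.card S := by
  rw [← h, ← MulAction.index_stabilizer]
  have e : Nat.card (stabilizer S x) = Nat.card ↥(S ⊓ stabilizer Co0 x) := Nat.card_congr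
    { toFun := fun g => ⟨g.1.1, g.1.2, g.2⟩
      invFun := fun g => ⟨⟨g.1, g.2.1⟩, g.2.2⟩
      left_inv := fun _ => rfl
      right_inv := fun _ => rfl }
  rw [← e]
  exact Subgroup.card_mul_index _

/-- An inner product with a fixed vector is invariant. -/
theorem dot_fix {g : Co0} {u : L} (h : g • u = u) (y : L) :
    dotInt (u : GolayPt → ℤ) ((g • y : L) : GolayPt → ℤ) = dotInt (u : GolayPt → ℤ) (y : GolayPt → ℤ) := by
  have := smul_dot g u y
  rwa [h] at this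

/-- A distance to a fixed vector is invariant. -/
theorem sq_sub_fix {g : Co0} {u : L} (h : g • u = u) (y : L) :
    sqNorm ((u : GolayPt → ℤ) - ((g • y : L) : GolayPt → ℤ)) = sqNorm ((u : GolayPt → ℤ) - (y : GolayPt → ℤ)) := by
  rw [sqNorm_sub, sqNorm_sub, dot_fix h, sqNorm_smul]

/-- Transitivity on a class from the certificate. -/
theorem class_trans {S : Subgroup Co0} {A : Set L} {T : Co0} {conds : List (ℕ × ℕ × ℕ)} {R : List ℕ}
    {root n : ℕ} (hiff : ∀ y, y ∈ A ↔ Cl 32 conds ((T • y : L) : GolayPt → ℤ))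
    (hrel : ∀ {w}, Cl 32 conds w → Rel (FixG R) w (dec root)) (hroot : Cl 32 conds (dec root))
    (hS : ∀ a ∈ FixG R, T⁻¹ * a * T ∈ S) (hinv : ∀ g ∈ S, ∀ y ∈ A, g • y ∈ A)
    (hcard : {w | Cl 32 conds w}.ncard = n) :
    A.ncard = n ∧ ∀ y ∈ A, ∀ y' ∈ A, ∃ g ∈ S, g • y = y' := by
  obtain ⟨y0, -, h1, h2⟩ := class_orbit hiff hrel hroot hS hinv hcard
  refine ⟨by rw [← h2, h1], ?_⟩
  intro y hy y' hy'
  rw [← h2] at hy hy'
  obtain ⟨a, rfl⟩ := mem_orbit_iff.1 hy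
  obtain ⟨b, rfl⟩ := mem_orbit_iff.1 hy'
  refine ⟨(b * a⁻¹ : S).1, (b * a⁻¹ : S).2, ?_⟩
  show (b * a⁻¹) • (a • y0) = b • y0
  rw [smul_smul, inv_mul_cancel_right]

/-- The inner products with a reference vector inside a list. -/
def dotsB (r : ℕ) (ds : List (ℕ × ℕ)) (z : ℕ) : Bool :=
  cond (Nat.beq z r) true (ds.any fun d => dotIs z r d.1 d.2)

/-- Inner products from a covering list. -/
theorem dot_cover {t : Co0} {N : ℕ} {conds : List (ℕ × ℕ × ℕ)} {Ls : List Chunk} {r : ℕ} {x : L}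
    (hcov : ∀ w, Cl N conds w → ∃ z ∈ unionL Ls, dec z = w)
    (ht : ((t • x : L) : GolayPt → ℤ) = dec r) {ds : List (ℕ × ℕ)} (hall : allL (dotsB r ds) Ls = true)
    {y : L} (hy : Cl N conds ((t • y : L) : GolayPt → ℤ)) :
    y = x ∨ ∃ d ∈ ds, dotInt (x : GolayPt → ℤ) (y : GolayPt → ℤ) = (d.1 : ℤ) - d.2 := by
  obtain ⟨z, hz, hzy⟩ := hcov _ hy
  have h1 := of_allL hall hz
  have h2 : dotInt (dec z) (dec r) = dotInt (y : GolayPt → ℤ) (x : GolayPt → ℤ) := by
    rw [hzy, ← ht]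
    exact smul_dot t y x
  unfold dotsB at h1
  cases h3 : Nat.beq z r with
  | true =>
    left
    have h4 : z = r := Nat.eq_of_beq_eq_true h3
    have h5 : t • y = t • x := by
      apply Subtype.ext
      rw [← hzy, h4, ht]
    exact smul_left_cancel t h5
  | false =>
    right
    rw [h3] at h1
    simp only [cond_false, List.any_eq_true] at h1
    obtain ⟨d, hd, h6⟩ := h1
    refine ⟨d, hd, ?_⟩
    rw [dotInt_comm, ← h2]
    exact dotIs_iff.1 h6

end Cfsg.Agent.Lib.Leech.SimpleConf
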