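import Cfsg.Agent.Lib.Leech.ConfigH
import Cfsg.Agent.Lib.Leech.SimpleConf
import Cfsg.Agent.Lib.Leech.SimpleCert

/-!
# The joint stabiliser of two vectors of norm 48 with inner product `-32` is simple
-/

set_option autoImplicit false

namespace Cfsg.Agent.Lib.Leech.SimpleHS

open Cfsg Cfsg.Agent.Lib.Golay.Core Cfsg.Agent.Lib.Leech.Basic Cfsg.Agent.Lib.Leech.Vec
  Cfsg.Agent.Lib.Leech.Cert Cfsg.Agent.Lib.Leech.CertBase Cfsg.Agent.Lib.Leech.CertData
  Cfsg.Agent.Lib.Leech.CertLev Cfsg.Agent.Lib.Leech.CertRefs Cfsg.Agent.Lib.Leech.Word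
  Cfsg.Agent.Lib.Leech.Lat Cfsg.Agent.Lib.Leech.Reach Cfsg.Agent.Lib.Leech.Order
  Cfsg.Agent.Lib.Leech.ConfigB Cfsg.Agent.Lib.Leech.ConfigH
  Cfsg.Agent.Lib.Leech.SimpleBase Cfsg.Agent.Lib.Leech.SimpleConf Cfsg.Agent.Lib.Leech.SimpleSpan
  Cfsg.Agent.Lib.Leech.SimpleMon Cfsg.Agent.Lib.Leech.SimpleCert

open MulAction

section abstract

variable {Γ : Type*} [Group Γ] {K H : Subgroup Γ}

/-- A normal subgroup of order 100 has a Sylow 5-subgroup normal in the big group. -/
theorem exists_normal_five [Finite K] (hn : ∀ h ∈ H, ∀ k ∈ K, h * k * h⁻¹ ∈ K) (hc : Nat.card K = 100) :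
    ∃ P : Subgroup Γ, P ≤ K ∧ (∀ h ∈ H, ∀ k ∈ P, h * k * h⁻¹ ∈ P) ∧ Nat.card P = 25 := by
  haveI : Fact (Nat.Prime 5) := ⟨by norm_num⟩
  obtain ⟨Q⟩ : Nonempty (Sylow 5 K) := inferInstance
  have hfac : (100 : ℕ).factorization 5 = 2 := by
    have : (100 : ℕ) = 5 ^ 2 * 4 := by norm_num
    rw [this, Nat.factorization_mul (by norm_num) (by norm_num), Nat.factorization_pow]
    have h4 : (4 : ℕ).factorization 5 = 0 := Nat.factorization_eq_zero_of_not_dvd (by norm_num)
    simp [h4, Nat.Prime.factorization (by norm_num : Nat.Prime 5)]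
  have hQ : Nat.card (Q : Subgroup K) = 25 := by
    rw [Sylow.card_eq_multiplicity, hc, hfac]
    norm_num
  have hidx : (Q : Subgroup K).index = 4 := by
    have h1 := Subgroup.card_mul_index (Q : Subgroup K)
    rw [hQ, hc] at h1
    omega
  have hdvd : Nat.card (Sylow 5 K) ∣ 4 := hidx ▸ Q.card_dvd_index
  have hmod := card_sylow_modEq_one 5 K
  have hone : Nat.card (Sylow 5 K) = 1 := by
    have hle := Nat.le_of_dvd (by norm_num) hdvd
    have hpos : 0 < Nat.card (Sylow 5 K) := Nat.card_pos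
    unfold Nat.ModEq at hmod
    interval_cases hn' : Nat.card (Sylow 5 K)
    · rfl
    · norm_num at hmod
    · norm_num at hmod
    · norm_num at hmod
  have huniq : ∀ S : Sylow 5 K, S = Q := fun S => by
    haveI := (Nat.card_eq_one_iff_unique.1 hone).1
    exact Subsingleton.elim S Q
  refine ⟨(Q : Subgroup K).map K.subtype, ?_, ?_, ?_⟩
  · rintro _ ⟨x, -, rfl⟩
    exact x.2
  · rintro h hh _ ⟨x, hx, rfl⟩
    -- the conjugate of `Q`
    let φ : K ≃* K :=
      { toFun := fun k => ⟨h * k * h⁻¹, hn h hh k k.2⟩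
        invFun := fun k => ⟨h⁻¹ * k * h, by
          have := hn h⁻¹ (H.inv_mem hh) k k.2
          rwa [inv_inv] at this⟩
        left_inv := fun k => by
          apply Subtype.ext
          simp [mul_assoc]
        right_inv := fun k => by
          apply Subtype.ext
          simp [mul_assoc]
        map_mul' := fun a b => by
          apply Subtype.ext
          simp [mul_assoc] }
    have hcard : Nat.card ((Q : Subgroup K).map φ.toMonoidHom) = 5 ^ (Nat.card K).factorization 5 := by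
      rw [Subgroup.card_map_of_injective φ.injective, hQ, hc, hfac]
      norm_num
    have h2 := huniq (Sylow.ofCard _ hcard)
    have h3 : (Q : Subgroup K).map φ.toMonoidHom = (Q : Subgroup K) := by
      have := congrArg (fun S : Sylow 5 K => (S : Subgroup K)) h2
      simpa using this
    have h4 : φ x ∈ (Q : Subgroup K) := by
      rw [← h3]
      exact ⟨x, hx, rfl⟩
    exact ⟨φ x, h4, rfl⟩
  · rw [Subgroup.card_map_of_injective K.subtype_injective, hQ]

end abstract

variable {v w : L}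

/-- The group. -/
abbrev HH (v w : L) : Subgroup Co0 := stabilizer Co0 v ⊓ stabilizer Co0 w

theorem HH_eq : stabilizer Co0 v ⊓ stabilizer Co0 (v + w) = HH v w := by
  ext g
  constructor
  · rintro ⟨h1, h2⟩
    exact ⟨h1, fix_w (v := v) (w := w) h1 h2⟩
  · rintro ⟨h1, h2⟩
    refine ⟨h1, ?_⟩
    have h1' : g • v = v := h1
    have h2' : g • w = w := h2
    show g • (v + w) = v + w
    rw [Lat.smul_add, h1', h2']

/-- The minimal vectors with inner product 16 with a vector of norm 48. -/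
abbrev Y16 (u : L) : Set L :=
  {y : L | sqNorm (y : GolayPt → ℤ) = 32 ∧ dotInt (y : GolayPt → ℤ) (u : GolayPt → ℤ) = 16}

theorem mem_Y16 {t : Co0} {u : L} (ht : Maps t [(u, nU0)]) (y : L) :
    y ∈ Y16 u ↔ Cl 32 CertC16.conds ((t • y : L) : GolayPt → ℤ) := by
  constructor
  · rintro ⟨h1, h2⟩
    exact cl_C16 ht h1 h2
  · intro h
    have h1 := cl1.1 (by rw [CertC16.conds] at h; exact h)
    have h3 := h1.2.2
    rw [ht.dot (p := (u, nU0)) (by simp)] at h3
    exact ⟨by rw [← sqNorm_smul t y]; exact_mod_cast h1.2.1, by rw [h3]; norm_num⟩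

theorem orbit_Y16 {u x : L} (hu : sqNorm (u : GolayPt → ℤ) = 48) (hx : x ∈ Y16 u) :
    orbit (stabilizer Co0 u) x = Y16 u := by
  obtain ⟨t, ht⟩ := exists_to_u u hu
  ext y
  constructor
  · intro hy
    obtain ⟨g, rfl⟩ := mem_orbit_iff.1 hy
    have h1 : g.1 • u = u := g.2
    refine ⟨by rw [show ((g • x : L) : GolayPt → ℤ) = ((g.1 • x : L) : GolayPt → ℤ) from rfl, sqNorm_smul]; exact hx.1, ?_⟩
    rw [show ((g • x : L) : GolayPt → ℤ) = ((g.1 • x : L) : GolayPt → ℤ) from rfl, dotInt_comm, dot_fix h1, dotInt_comm]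
    exact hx.2
  · intro hy
    obtain ⟨g, hg, h⟩ := ht.trans (y := x) (y' := y) (by simp [CertC16.R]) (CertC16.rel ((mem_Y16 ht x).1 hx))
      (CertC16.rel ((mem_Y16 ht y).1 hy))
    exact mem_orbit_iff.2 ⟨⟨g, hg (u, nU0) (by simp)⟩, h⟩

theorem ncard_Y16 {u : L} (hu : sqNorm (u : GolayPt → ℤ) = 48) : (Y16 u).ncard = 11178 := by
  obtain ⟨t, ht⟩ := exists_to_u u hu
  rw [ncard_of_iff t (mem_Y16 ht), CertC16.ncard_eq]

theorem card_HH (hv : sqNorm (v : GolayPt → ℤ) = 48) (hw : sqNorm (w : GolayPt → ℤ) = 48)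
    (hvw : dotInt (v : GolayPt → ℤ) (w : GolayPt → ℤ) = -32) : Nat.card (HH v w) = 44352000 := by
  have h0 : v + w ∈ Y16 v := ⟨sq_add hv hw hvw, dot_add hv hvw⟩
  have h1 := card_inf (orbit_Y16 hv h0)
  rw [HH_eq, ncard_Y16 hv, card_stab48 hv] at h1
  omega

theorem inv_X100 {g : Co0} {v w : L} (h1 : g • v = v) (h2 : g • w = w) {y : L} (hy : y ∈ X100 v w) :
    g • y ∈ X100 v w :=
  ⟨by rw [sqNorm_smul]; exact hy.1, by rw [dot_fix h1]; exact hy.2.1, by rw [dot_fix h2]; exact hy.2.2⟩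

/-- The block sizes on the 100 points. -/
theorem block100 (hv : sqNorm (v : GolayPt → ℤ) = 48) (hw : sqNorm (w : GolayPt → ℤ) = 48)
    (hvw : dotInt (v : GolayPt → ℤ) (w : GolayPt → ℤ) = -32) {K : Subgroup Co0} (hKH : K ≤ HH v w)
    (hn : ∀ h ∈ HH v w, ∀ k ∈ K, h * k * h⁻¹ ∈ K) {x : L} (hx : x ∈ X100 v w) :
    (orbit K x).ncard = 1 ∨ (orbit K x).ncard = 100 := by
  have hcard := ncard_X100 v w hv hw hvw
  have hfin : (X100 v w).Finite := Set.finite_of_ncard_ne_zero (by rw [hcard]; norm_num)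
  have hinv : ∀ k ∈ K, ∀ y ∈ X100 v w, k • y ∈ X100 v w := fun k hk y hy =>
    inv_X100 (hKH hk).1 (hKH hk).2 hy
  have hd := ncard_orbit_dvd hn hfin hinv (fun a ha b hb => by
    obtain ⟨g, h1, h2, h3⟩ := trans_X100 v w a b hv hw hvw ha hb
    exact ⟨g, ⟨h1, h2⟩, h3⟩) hx
  obtain ⟨h1, h2, h3⟩ := rank3 v w x hv hw hvw hx
  have hsq : dotInt (x : GolayPt → ℤ) (x : GolayPt → ℤ) = 32 := by
    rw [dotInt_self]
    exact hx.1
  have hb := block_size hn hfin hinv hx
    [({y : L | y ∈ X100 v w ∧ dotInt (x : GolayPt → ℤ) (y : GolayPt → ℤ) = 8}, 22),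
     ({y : L | y ∈ X100 v w ∧ y ≠ x ∧ dotInt (x : GolayPt → ℤ) (y : GolayPt → ℤ) ≠ 8}, 77)]
    (by
      intro p hp
      simp only [List.mem_cons, List.not_mem_nil, or_false] at hp
      rcases hp with rfl | rfl
      · exact h1
      · exact h2)
    (by
      intro p hp
      simp only [List.mem_cons, List.not_mem_nil, or_false] at hp
      rcases hp with rfl | rfl
      · rintro ⟨-, h4⟩
        rw [hsq] at h4
        norm_num at h4
      · rintro ⟨-, h4, -⟩
        exact h4 rfl)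
    (by
      refine List.Pairwise.cons ?_ (List.Pairwise.cons (by simp) List.Pairwise.nil)
      intro p hp
      simp only [List.mem_cons, List.not_mem_nil, or_false] at hp
      subst hp
      rw [Set.disjoint_left]
      rintro y ⟨-, h4⟩ ⟨-, -, h5⟩
      exact h5 h4)
    (by
      intro y hy
      by_cases hne : y = x
      · exact Or.inl hne
      · right
        by_cases h4 : dotInt (x : GolayPt → ℤ) (y : GolayPt → ℤ) = 8
        · exact ⟨_, List.mem_cons_self, hy, h4⟩
        · exact ⟨_, List.mem_cons_of_mem _ List.mem_cons_self, hy, hne, h4⟩)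
    (by
      intro p hp a ha b hb
      simp only [List.mem_cons, List.not_mem_nil, or_false] at hp
      rcases hp with rfl | rfl
      · obtain ⟨g, h4, h5, h6, h7⟩ := h3 a ha.1 b hb.1
          (fun h => by
            have h8 : dotInt (x : GolayPt → ℤ) (a : GolayPt → ℤ) = 8 := ha.2
            rw [h, hsq] at h8
            norm_num at h8)
          (fun h => by
            have h8 : dotInt (x : GolayPt → ℤ) (b : GolayPt → ℤ) = 8 := hb.2
            rw [h, hsq] at h8
            norm_num at h8) (by rw [ha.2, hb.2])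
        exact ⟨g, ⟨h4, h5⟩, h6, h7⟩
      · obtain ⟨g, h4, h5, h6, h7⟩ := h3 a ha.1 b hb.1 ha.2.1 hb.2.1
          (by
            constructor
            · intro h
              exact absurd h ha.2.2
            · intro h
              exact absurd h hb.2.2)
        exact ⟨g, ⟨h4, h5⟩, h6, h7⟩)
  rw [hcard] at hd
  have key : ∀ d ∈ sums ([22, 77] : List ℕ), d ∣ 100 → d = 1 ∨ d = 100 := by decide
  exact key _ hb hd

theorem cU : ∀ i j, i ≠ pt 22 → i ≠ pt 23 → j ≠ pt 22 → j ≠ pt 23 → dec nU0 i = dec nU0 j := by decide +kernel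
theorem cV : ∀ i j, i ≠ pt 22 → i ≠ pt 23 → j ≠ pt 22 → j ≠ pt 23 → dec nV1 i = dec nV1 j := by decide +kernel
theorem cX : ∀ i j, i ≠ pt 22 → i ≠ pt 23 → j ≠ pt 22 → j ≠ pt 23 → dec nX1 i = dec nX1 j := by decide +kernel

theorem ls100 : listB [nX1, nU0] 32 CertC100.conds zs100 = true := by decide +kernel

/-- A nontrivial normal subgroup has order divisible by 100. -/
theorem dvd_card (hv : sqNorm (v : GolayPt → ℤ) = 48) (hw : sqNorm (w : GolayPt → ℤ) = 48)
    (hvw : dotInt (v : GolayPt → ℤ) (w : GolayPt → ℤ) = -32) {K : Subgroup Co0} (hKH : K ≤ HH v w)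
    (hn : ∀ h ∈ HH v w, ∀ k ∈ K, h * k * h⁻¹ ∈ K) (hne : K ≠ ⊥) {x : L} (hx : x ∈ X100 v w) :
    (orbit K x).ncard = 100 := by
  obtain ⟨t, ht⟩ := exists_to_pair hv hw hvw
  rcases block100 hv hw hvw hKH hn hx with h1 | h1
  · exfalso
    apply hne
    rw [Subgroup.eq_bot_iff_forall]
    intro k hk
    have hfx : k • (v + w) = v + w := by
      have hk1 : k • v = v := (hKH hk).1
      have hk2 : k • w = w := (hKH hk).2
      rw [Lat.smul_add, hk1, hk2]
    refine faith (mem_C100 ht) ht span100 (by decide +kernel) ls100 ?_ ?_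
    · intro p hp
      simp only [List.mem_cons, List.not_mem_nil, or_false] at hp
      rcases hp with rfl | rfl
      · exact hfx
      · exact (hKH hk).1
    · intro y hy
      exact fix_of_ncard_one hn (fun a ha b hb => by
        obtain ⟨g, h3, h4, h5⟩ := trans_X100 v w a b hv hw hvw ha hb
        exact ⟨g, ⟨h3, h4⟩, h5⟩) hx h1 hk hy
  · exact h1

/-- The normal subgroups. -/
theorem normal_cases (hv : sqNorm (v : GolayPt → ℤ) = 48) (hw : sqNorm (w : GolayPt → ℤ) = 48)
    (hvw : dotInt (v : GolayPt → ℤ) (w : GolayPt → ℤ) = -32) {K : Subgroup Co0} (hKH : K ≤ HH v w)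
    (hn : ∀ h ∈ HH v w, ∀ k ∈ K, h * k * h⁻¹ ∈ K) : K = ⊥ ∨ K = HH v w := by
  by_cases hne : K = ⊥
  · exact Or.inl hne
  right
  obtain ⟨t, ht⟩ := exists_to_pair hv hw hvw
  have hcH := card_HH hv hw hvw
  let x0 : L := t⁻¹ • (⟨dec nV1, nV1_mem⟩ : L)
  have ht0 : t • x0 = ⟨dec nV1, nV1_mem⟩ := smul_inv_smul t _
  have hx0 : x0 ∈ X100 v w := by
    rw [mem_C100 ht, ht0]
    exact nV1_cl100
  have h1 := dvd_card hv hw hvw hKH hn hne hx0
  -- the order is not 100
  have hne100 : Nat.card K ≠ 100 := by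
    intro hc
    obtain ⟨P, hPK, hP, hPc⟩ := exists_normal_five hn hc
    have hPne : P ≠ ⊥ := by
      rintro rfl
      simp at hPc
    have h2 := dvd_card hv hw hvw (hPK.trans hKH) hP hPne hx0
    have h3 := ncard_orbit_dvd_card (K := P) x0
    rw [h2, hPc] at h3
    norm_num at h3
  -- the image of the subgroup of the code
  have hfix : ∀ a : B22, fG B22 t a • x0 = x0 := by
    intro a
    rw [fG_apply, mul_smul, mul_smul, ht0, fix22 _ cV a, ← ht0, inv_smul_smul]
  have hfH : ∀ a : B22, fG B22 t a ∈ HH v w := by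
    intro a
    have h2 : fG B22 t a • v = v :=
      fG_fix (p := (v, nU0)) ht (by simp) (fix22 _ cU) a
    have h3 : fG B22 t a • (v + w) = v + w :=
      fG_fix (p := (v + w, nX1)) ht (by simp) (fix22 _ cX) a
    exact ⟨h2, fix_w (v := v) (w := w) h2 h3⟩
  -- the point stabiliser is the image
  have horb : orbit (HH v w) x0 = X100 v w := by
    ext y
    constructor
    · intro hy
      obtain ⟨g, rfl⟩ := mem_orbit_iff.1 hy
      exact inv_X100 g.2.1 g.2.2 hx0
    · intro hy
      obtain ⟨g, h3, h4, h5⟩ := trans_X100 v w x0 y hv hw hvw hx0 hy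
      exact mem_orbit_iff.2 ⟨⟨g, h3, h4⟩, h5⟩
  have hc0 := card_inf horb
  rw [ncard_X100 v w hv hw hvw, hcH] at hc0
  have hc1 : Nat.card ↥(HH v w ⊓ stabilizer Co0 x0) = 443520 := by omega
  have hrange : (fG B22 t).range = HH v w ⊓ stabilizer Co0 x0 := by
    apply Subgroup.eq_of_le_of_card_ge
    · rintro _ ⟨a, rfl⟩
      exact ⟨hfH a, hfix a⟩
    · rw [hc1, Nat.card_congr (MonoidHom.ofInjective (fG_inj B22 t)).symm.toEquiv, card_B22]
  -- a nontrivial element fixing the point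
  have hK0 : 1 < Nat.card (stabilizer K x0) := by
    have h2 := Subgroup.card_mul_index (stabilizer K x0)
    rw [MulAction.index_stabilizer, h1] at h2
    have h3 : Nat.card (stabilizer K x0) ≠ 0 := Nat.card_pos.ne'
    by_contra h4
    have h5 : Nat.card (stabilizer K x0) = 1 := by omega
    rw [h5] at h2
    exact hne100 (by omega)
  haveI : Nontrivial (stabilizer K x0) := Finite.one_lt_card_iff_nontrivial.1 hK0
  obtain ⟨k, hk⟩ := exists_ne (1 : stabilizer K x0)
  have hk1 : (k.1.1 : Co0) ≠ 1 := fun h => hk (Subtype.ext (Subtype.ext h))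
  have hk2 : k.1.1 ∈ HH v w ⊓ stabilizer Co0 x0 := ⟨hKH k.1.2, k.2⟩
  rw [← hrange] at hk2
  obtain ⟨a, ha⟩ := hk2
  have ha1 : a ≠ 1 := by
    rintro rfl
    rw [map_one] at ha
    exact hk1 ha.symm
  have hMK : ∀ b : B22, fG B22 t b ∈ K :=
    le_of_simple (fG B22 t) hfH hn ha1 (by rw [ha]; exact k.1.2)
  have h3 := card_ge (K := K) (fG B22 t) (fG_inj _ _) hMK hfix
  rw [h1, card_B22] at h3
  apply Subgroup.eq_of_le_of_card_ge hKH
  rw [hcH]
  omega

/-- **The joint stabiliser is simple of the expected order.** -/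
theorem isHS (hv : sqNorm (v : GolayPt → ℤ) = 48) (hw : sqNorm (w : GolayPt → ℤ) = 48)
    (hvw : dotInt (v : GolayPt → ℤ) (w : GolayPt → ℤ) = -32) : IsHS ↥(HH v w) := by
  have hc := card_HH hv hw hvw
  refine ⟨?_, hc⟩
  haveI : Nontrivial (HH v w) := by
    rw [← Finite.one_lt_card_iff_nontrivial, hc]
    norm_num
  exact isSimple_of (HH v w) fun K hKH hn => normal_cases hv hw hvw hKH hn

end Cfsg.Agent.Lib.Leech.SimpleHS
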