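import Cfsg.Agent.Lib.Leech.ConfigD
import Cfsg.Agent.Lib.Leech.SimpleConf
import Cfsg.Agent.Lib.Leech.SimpleCert

/-!
# The joint stabiliser of two minimal vectors of inner product `-8` is simple
-/

set_option autoImplicit false

namespace Cfsg.Agent.Lib.Leech.SimpleMcL

open Cfsg Cfsg.Agent.Lib.Golay.Core Cfsg.Agent.Lib.Leech.Basic Cfsg.Agent.Lib.Leech.Vec
  Cfsg.Agent.Lib.Leech.Cert Cfsg.Agent.Lib.Leech.CertBase Cfsg.Agent.Lib.Leech.CertData
  Cfsg.Agent.Lib.Leech.CertLev Cfsg.Agent.Lib.Leech.CertRefs Cfsg.Agent.Lib.Leech.Word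
  Cfsg.Agent.Lib.Leech.Lat Cfsg.Agent.Lib.Leech.Reach Cfsg.Agent.Lib.Leech.Order
  Cfsg.Agent.Lib.Leech.ConfigB Cfsg.Agent.Lib.Leech.ConfigM Cfsg.Agent.Lib.Leech.ConfigD
  Cfsg.Agent.Lib.Leech.SimpleBase Cfsg.Agent.Lib.Leech.SimpleConf Cfsg.Agent.Lib.Leech.SimpleSpan
  Cfsg.Agent.Lib.Leech.SimpleMon Cfsg.Agent.Lib.Leech.SimpleCert

open MulAction

variable {v w : L}

/-- The group. -/
abbrev HH (v w : L) : Subgroup Co0 := stabilizer Co0 v ⊓ stabilizer Co0 w

theorem HH_eq : stabilizer Co0 (v + w) ⊓ stabilizer Co0 v = HH v w := by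
  ext g
  constructor
  · rintro ⟨h1, h2⟩
    exact ⟨h2, fix_w (v := v) (w := w) h2 h1⟩
  · rintro ⟨h1, h2⟩
    refine ⟨?_, h1⟩
    have h1' : g • v = v := h1
    have h2' : g • w = w := h2
    show g • (v + w) = v + w
    rw [Lat.smul_add, h1', h2']

/-- The summands of a vector form an orbit. -/
theorem orbit_Xu (hu : sqNorm ((v + w : L) : GolayPt → ℤ) = 48) (hv : v ∈ Xu (v + w)) :
    orbit (stabilizer Co0 (v + w)) v = Xu (v + w) := by
  ext y
  constructor
  · intro hy
    obtain ⟨g, rfl⟩ := mem_orbit_iff.1 hy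
    have h1 : g.1 • (v + w) = v + w := g.2
    exact ⟨by rw [show ((g • v : L) : GolayPt → ℤ) = ((g.1 • v : L) : GolayPt → ℤ) from rfl, sqNorm_smul]; exact hv.1,
      by rw [show ((g • v : L) : GolayPt → ℤ) = ((g.1 • v : L) : GolayPt → ℤ) from rfl, sq_sub_fix h1]; exact hv.2⟩
  · intro hy
    obtain ⟨g, h1, h2⟩ := trans_Xu (v + w) v y hu hv hy
    exact mem_orbit_iff.2 ⟨⟨g, h1⟩, h2⟩

theorem card_HH (hv : sqNorm (v : GolayPt → ℤ) = 32) (hw : sqNorm (w : GolayPt → ℤ) = 32)
    (hvw : dotInt (v : GolayPt → ℤ) (w : GolayPt → ℤ) = -8) : Nat.card (HH v w) = 898128000 := by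
  have h1 := card_inf (orbit_Xu (sq_vw hv hw hvw) (v_mem hv hw))
  rw [HH_eq, ncard_Xu _ (sq_vw hv hw hvw), card_stab48 (sq_vw hv hw hvw)] at h1
  omega

theorem inv_X275 {g : Co0} {u v : L} (h1 : g • u = u) (h2 : g • v = v) {y : L} (hy : y ∈ X275 u v) :
    g • y ∈ X275 u v :=
  ⟨by rw [sqNorm_smul]; exact hy.1, by rw [sq_sub_fix h1]; exact hy.2.1, by rw [dot_fix h2]; exact hy.2.2⟩

theorem inv_X2025 {g : Co0} {v w : L} (h1 : g • v = v) (h2 : g • w = w) {y : L} (hy : y ∈ X2025 v w) :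
    g • y ∈ X2025 v w :=
  ⟨by rw [sqNorm_smul]; exact hy.1, by rw [dot_fix h1]; exact hy.2.1, by rw [dot_fix h2]; exact hy.2.2⟩

/-- The block sizes on the 275 points. -/
theorem block275 (hv : sqNorm (v : GolayPt → ℤ) = 32) (hw : sqNorm (w : GolayPt → ℤ) = 32)
    (hvw : dotInt (v : GolayPt → ℤ) (w : GolayPt → ℤ) = -8) {K : Subgroup Co0} (hKH : K ≤ HH v w)
    (hn : ∀ h ∈ HH v w, ∀ k ∈ K, h * k * h⁻¹ ∈ K) {x : L} (hx : x ∈ X275 (v + w) v) :
    (orbit K x).ncard = 1 ∨ (orbit K x).ncard = 275 := by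
  have hu := sq_vw hv hw hvw
  have hvX := v_mem hv hw
  have hcard := ncard_X275 (v + w) v hu hvX
  have hfin : (X275 (v + w) v).Finite := Set.finite_of_ncard_ne_zero (by rw [hcard]; norm_num)
  have hgen : ∀ g : Co0, g • (v + w) = v + w → g • v = v → g ∈ HH v w := fun g h1 h2 =>
    ⟨h2, fix_w (v := v) (w := w) h2 h1⟩
  have hfx : ∀ k ∈ HH v w, k • (v + w) = v + w := fun k hk => by
    have hk1 : k • v = v := hk.1
    have hk2 : k • w = w := hk.2
    rw [Lat.smul_add, hk1, hk2]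
  have hinv : ∀ k ∈ K, ∀ y ∈ X275 (v + w) v, k • y ∈ X275 (v + w) v := fun k hk y hy =>
    inv_X275 (hfx k (hKH hk)) (hKH hk).1 hy
  have hd := ncard_orbit_dvd hn hfin hinv (fun a ha b hb => by
    obtain ⟨g, h1, h2, h3⟩ := trans_X275 (v + w) v a b hu hvX ha hb
    exact ⟨g, hgen g h1 h2, h3⟩) hx
  obtain ⟨h1, h2, h3⟩ := rank3 (v + w) v x hu hvX hx
  have hsq : dotInt (x : GolayPt → ℤ) (x : GolayPt → ℤ) = 32 := by
    rw [dotInt_self]
    exact hx.1
  have hb := block_size hn hfin hinv hx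
    [({y : L | y ∈ X275 (v + w) v ∧ dotInt (x : GolayPt → ℤ) (y : GolayPt → ℤ) = 8}, 112),
     ({y : L | y ∈ X275 (v + w) v ∧ y ≠ x ∧ dotInt (x : GolayPt → ℤ) (y : GolayPt → ℤ) = 16}, 162)]
    (by
      intro p hp
      simp only [List.mem_cons, List.not_mem_nil, or_false] at hp
      rcases hp with rfl | rfl
      · exact h1
      · exact h2)
    (by
      intro p hp
      simp only [List.mem_cons, List.not_mem_nil, or_false] at hp
      rcases hp with rfl | rfl
      · rintro ⟨-, h4⟩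
        rw [hsq] at h4
        norm_num at h4
      · rintro ⟨-, h4, -⟩
        exact h4 rfl)
    (by
      refine List.Pairwise.cons ?_ (List.Pairwise.cons (by simp) List.Pairwise.nil)
      intro p hp
      simp only [List.mem_cons, List.not_mem_nil, or_false] at hp
      subst hp
      rw [Set.disjoint_left]
      rintro y ⟨-, h4⟩ ⟨-, -, h5⟩
      rw [h4] at h5
      norm_num at h5)
    (by
      intro y hy
      by_cases hne : y = x
      · exact Or.inl hne
      · right
        rcases dot_cases hu hvX hx hy hne with h4 | h4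
        · exact ⟨_, List.mem_cons_self, hy, h4⟩
        · exact ⟨_, List.mem_cons_of_mem _ List.mem_cons_self, hy, hne, h4⟩)
    (by
      intro p hp a ha b hb
      simp only [List.mem_cons, List.not_mem_nil, or_false] at hp
      rcases hp with rfl | rfl
      · obtain ⟨g, h4, h5, h6, h7⟩ := h3 a ha.1 b hb.1
          (fun h => by
            have h8 : dotInt (x : GolayPt → ℤ) (a : GolayPt → ℤ) = 8 := ha.2
            rw [h, hsq] at h8
            norm_num at h8)
          (fun h => by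
            have h8 : dotInt (x : GolayPt → ℤ) (b : GolayPt → ℤ) = 8 := hb.2
            rw [h, hsq] at h8
            norm_num at h8) (ha.2.trans hb.2.symm)
        exact ⟨g, hgen g h4 h5, h6, h7⟩
      · obtain ⟨g, h4, h5, h6, h7⟩ := h3 a ha.1 b hb.1 ha.2.1 hb.2.1 (ha.2.2.trans hb.2.2.symm)
        exact ⟨g, hgen g h4 h5, h6, h7⟩)
  rw [hcard] at hd
  have key : ∀ d ∈ sums ([112, 162] : List ℕ), d ∣ 275 → d = 1 ∨ d = 275 := by decide
  exact key _ hb hd

/-- The suborbits on the 2025 points. -/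
theorem rank4' (hv : sqNorm (v : GolayPt → ℤ) = 32) (hw : sqNorm (w : GolayPt → ℤ) = 32)
    (hvw : dotInt (v : GolayPt → ℤ) (w : GolayPt → ℤ) = -8) {x : L} (hx : x ∈ X2025 v w) :
    ((Ya v w x 0).ncard = 330 ∧ ∀ y ∈ Ya v w x 0, ∀ y' ∈ Ya v w x 0, ∃ g ∈ SS3 v w x, g • y = y') ∧
    ((Ya v w x 16).ncard = 462 ∧ ∀ y ∈ Ya v w x 16, ∀ y' ∈ Ya v w x 16, ∃ g ∈ SS3 v w x, g • y = y') ∧
    ((Ya v w x 8).ncard = 1232 ∧ ∀ y ∈ Ya v w x 8, ∀ y' ∈ Ya v w x 8, ∃ g ∈ SS3 v w x, g • y = y') := by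
  obtain ⟨t, ht⟩ := exists_to_vwx hv hw hvw hx
  refine ⟨?_, ?_, ?_⟩
  · exact class_trans (S := SS3 v w x) (A := Ya v w x 0) (T := t)
      (conds := CertD330.conds) (R := CertD330.R) (root := CertD330.root) (n := 330)
      (fun y => mem_gen (p := 0) (q := 0) (by norm_num) ht y) (fun h => CertD330.rel h) CertD330.root_cl
      (S_of_fix ht (by simp [CertD330.R]) (by simp [CertD330.R]) (by simp [CertD330.R])) (inv_Ya _)
      CertD330.ncard_eq
  · exact class_trans (S := SS3 v w x) (A := Ya v w x 16) (T := t)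
      (conds := CertD462.conds) (R := CertD462.R) (root := CertD462.root) (n := 462)
      (fun y => mem_gen (p := 16) (q := 0) (by norm_num) ht y) (fun h => CertD462.rel h) CertD462.root_cl
      (S_of_fix ht (by simp [CertD462.R]) (by simp [CertD462.R]) (by simp [CertD462.R])) (inv_Ya _)
      CertD462.ncard_eq
  · exact class_trans (S := SS3 v w x) (A := Ya v w x 8) (T := t)
      (conds := CertD1232.conds) (R := CertD1232.R) (root := CertD1232.root) (n := 1232)
      (fun y => mem_gen (p := 8) (q := 0) (by norm_num) ht y) (fun h => CertD1232.rel h) CertD1232.root_cl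
      (S_of_fix ht (by simp [CertD1232.R]) (by simp [CertD1232.R]) (by simp [CertD1232.R])) (inv_Ya _)
      CertD1232.ncard_eq

theorem dots2025 : allL (dotsB nX1 [(0, 0), (16, 0), (8, 0)]) CertC2025.L = true := by decide +kernel

/-- The block sizes on the 2025 points. -/
theorem block2025 (hv : sqNorm (v : GolayPt → ℤ) = 32) (hw : sqNorm (w : GolayPt → ℤ) = 32)
    (hvw : dotInt (v : GolayPt → ℤ) (w : GolayPt → ℤ) = -8) {K : Subgroup Co0} (hKH : K ≤ HH v w)
    (hn : ∀ h ∈ HH v w, ∀ k ∈ K, h * k * h⁻¹ ∈ K) {x : L} (hx : x ∈ X2025 v w) :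
    (orbit K x).ncard = 1 ∨ (orbit K x).ncard = 2025 := by
  have hcard := ncard_X2025 v w hv hw hvw
  have hfin : (X2025 v w).Finite := Set.finite_of_ncard_ne_zero (by rw [hcard]; norm_num)
  have hinv : ∀ k ∈ K, ∀ y ∈ X2025 v w, k • y ∈ X2025 v w := fun k hk y hy =>
    inv_X2025 (hKH hk).1 (hKH hk).2 hy
  have hd := ncard_orbit_dvd hn hfin hinv (fun a ha b hb => by
    obtain ⟨g, h1, h2, h3⟩ := trans_X2025 v w a b hv hw hvw ha hb
    exact ⟨g, ⟨h1, h2⟩, h3⟩) hx
  obtain ⟨⟨h1a, h1b⟩, ⟨h2a, h2b⟩, ⟨h3a, h3b⟩⟩ := rank4' hv hw hvw hx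
  have hsq : dotInt (x : GolayPt → ℤ) (x : GolayPt → ℤ) = 32 := by
    rw [dotInt_self]
    exact hx.1
  have hb := block_size hn hfin hinv hx [(Ya v w x 0, 330), (Ya v w x 16, 462), (Ya v w x 8, 1232)]
    (by
      intro p hp
      simp only [List.mem_cons, List.not_mem_nil, or_false] at hp
      rcases hp with rfl | rfl | rfl
      · exact h1a
      · exact h2a
      · exact h3a)
    (by
      intro p hp
      simp only [List.mem_cons, List.not_mem_nil, or_false] at hp
      rcases hp with rfl | rfl | rfl <;>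
      · rintro ⟨-, h4⟩
        rw [hsq] at h4
        norm_num at h4)
    (by
      have hdj : ∀ a b : ℤ, a ≠ b → Disjoint (Ya v w x a) (Ya v w x b) := by
        intro a b hab
        rw [Set.disjoint_left]
        rintro y ⟨-, h4⟩ ⟨-, h5⟩
        exact hab (h4.symm.trans h5)
      refine List.Pairwise.cons ?_ (List.Pairwise.cons ?_ (List.Pairwise.cons (by simp) List.Pairwise.nil))
      · intro p hp
        simp only [List.mem_cons, List.not_mem_nil, or_false] at hp
        rcases hp with rfl | rfl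
        · exact hdj _ _ (by norm_num)
        · exact hdj _ _ (by norm_num)
      · intro p hp
        simp only [List.mem_cons, List.not_mem_nil, or_false] at hp
        subst hp
        exact hdj _ _ (by norm_num))
    (by
      intro y hy
      obtain ⟨t, ht⟩ := exists_to_vwx hv hw hvw hx
      have ht' : Maps t [(v, nV1), (v + w, nU0)] := fun p hp => ht p (List.mem_cons_of_mem _ hp)
      rcases dot_cover CertC2025.cover (ht (x, nX1) (by simp)) dots2025 ((mem_C2025 ht' y).1 hy) with h4 | ⟨d, hd, h4⟩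
      · exact Or.inl h4
      · right
        simp only [List.mem_cons, List.not_mem_nil, or_false] at hd
        rcases hd with rfl | rfl | rfl
        · exact ⟨_, List.mem_cons_self, hy, by simpa using h4⟩
        · exact ⟨_, List.mem_cons_of_mem _ List.mem_cons_self, hy, by simpa using h4⟩
        · exact ⟨_, List.mem_cons_of_mem _ (List.mem_cons_of_mem _ List.mem_cons_self), hy, by simpa using h4⟩)
    (by
      intro p hp a ha b hb
      simp only [List.mem_cons, List.not_mem_nil, or_false] at hp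
      have hlift : ∀ g ∈ SS3 v w x, g • a = b → ∃ h ∈ HH v w, h • x = x ∧ h • a = b := fun g hg h =>
        ⟨g, hg.1, hg.2, h⟩
      rcases hp with rfl | rfl | rfl
      · obtain ⟨g, hg, h⟩ := h1b a ha b hb
        exact hlift g hg h
      · obtain ⟨g, hg, h⟩ := h2b a ha b hb
        exact hlift g hg h
      · obtain ⟨g, hg, h⟩ := h3b a ha b hb
        exact hlift g hg h)
  rw [hcard] at hd
  have key : ∀ d ∈ sums ([330, 462, 1232] : List ℕ), d ∣ 2025 → d = 1 ∨ d = 2025 := by decide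
  exact key _ hb hd

theorem cU : ∀ i j, i ≠ pt 22 → i ≠ pt 23 → j ≠ pt 22 → j ≠ pt 23 → dec nU0 i = dec nU0 j := by decide +kernel
theorem cV : ∀ i j, i ≠ pt 22 → i ≠ pt 23 → j ≠ pt 22 → j ≠ pt 23 → dec nV1 i = dec nV1 j := by decide +kernel
theorem cX : ∀ i j, i ≠ pt 22 → i ≠ pt 23 → j ≠ pt 22 → j ≠ pt 23 → dec nX1 i = dec nX1 j := by decide +kernel

theorem ls275 : listB [nV1, nU0] 32 CertC275.conds zs275 = true := by decide +kernel
theorem ls2025 : listB [nV1, nU0] 32 CertC2025.conds zs2025 = true := by decide +kernel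

/-- The normal subgroups. -/
theorem normal_cases (hv : sqNorm (v : GolayPt → ℤ) = 32) (hw : sqNorm (w : GolayPt → ℤ) = 32)
    (hvw : dotInt (v : GolayPt → ℤ) (w : GolayPt → ℤ) = -8) {K : Subgroup Co0} (hKH : K ≤ HH v w)
    (hn : ∀ h ∈ HH v w, ∀ k ∈ K, h * k * h⁻¹ ∈ K) : K = ⊥ ∨ K = HH v w := by
  have hu := sq_vw hv hw hvw
  have hvX := v_mem hv hw
  obtain ⟨t, ht⟩ := exists_to_uv hu hvX
  have hcH := card_HH hv hw hvw
  have hfx : ∀ k ∈ HH v w, k • (v + w) = v + w := fun k hk => by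
    have hk1 : k • v = v := hk.1
    have hk2 : k • w = w := hk.2
    rw [Lat.smul_add, hk1, hk2]
  -- trivial action implies trivial subgroup
  have hfaith1 : ∀ k ∈ K, (∀ y ∈ X275 (v + w) v, k • y = y) → k = 1 := by
    intro k hk h
    refine faith (mem_C275 ht hu) ht span275 (by decide +kernel) ls275 ?_ h
    intro p hp
    simp only [List.mem_cons, List.not_mem_nil, or_false] at hp
    rcases hp with rfl | rfl
    · exact (hKH hk).1
    · exact hfx k (hKH hk)
  have hfaith2 : ∀ k ∈ K, (∀ y ∈ X2025 v w, k • y = y) → k = 1 := by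
    intro k hk h
    refine faith (mem_C2025 ht) ht span2025 (by decide +kernel) ls2025 ?_ h
    intro p hp
    simp only [List.mem_cons, List.not_mem_nil, or_false] at hp
    rcases hp with rfl | rfl
    · exact (hKH hk).1
    · exact hfx k (hKH hk)
  -- the first action
  let x0 : L := t⁻¹ • (⟨dec nX0, nX0_mem⟩ : L)
  have hx0 : x0 ∈ X275 (v + w) v := by
    rw [mem_C275 ht hu]
    show Cl 32 CertC275.conds ((t • t⁻¹ • (⟨dec nX0, nX0_mem⟩ : L) : L) : GolayPt → ℤ)
    rw [smul_inv_smul]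
    exact nX0_cl
  rcases block275 hv hw hvw hKH hn hx0 with h1 | h1
  · left
    rw [Subgroup.eq_bot_iff_forall]
    intro k hk
    apply hfaith1 k hk
    intro y hy
    exact fix_of_ncard_one hn (fun a ha b hb => by
      obtain ⟨g, h2, h3, h4⟩ := trans_X275 (v + w) v a b hu hvX ha hb
      exact ⟨g, ⟨h3, fix_w (v := v) (w := w) h3 h2⟩, h4⟩) hx0 h1 hk hy
  -- the subgroup of the code lies in the normal subgroup
  have hfH : ∀ a : B22, fG B22 t a ∈ HH v w := by
    intro a
    have h2 : fG B22 t a • v = v :=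
      fG_fix (p := (v, nV1)) ht (by simp) (fix22 _ cV) a
    have h3 : fG B22 t a • (v + w) = v + w :=
      fG_fix (p := (v + w, nU0)) ht (by simp) (fix22 _ cU) a
    exact ⟨h2, fix_w (v := v) (w := w) h2 h3⟩
  have h11 : 11 ∣ Nat.card K := by
    have := ncard_orbit_dvd_card (K := K) x0
    rw [h1] at this
    exact Dvd.dvd.trans (by norm_num) this
  haveI : Fact (Nat.Prime 11) := ⟨by norm_num⟩
  have hMK : ∀ a : B22, fG B22 t a ∈ K :=
    le_of_prime_dvd (H := HH v w) (fG B22 t) (fG_inj _ _) hfH hKH hn 11 (by rw [card_B22]; norm_num) h11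
      (by rw [hcH]; norm_num)
  -- the second action
  let x1 : L := t⁻¹ • (⟨dec nX1, nX1_mem⟩ : L)
  have ht1 : t • x1 = ⟨dec nX1, nX1_mem⟩ := smul_inv_smul t _
  have hx1 : x1 ∈ X2025 v w := by
    rw [mem_C2025 ht, ht1]
    exact nX1_cl
  rcases block2025 hv hw hvw hKH hn hx1 with h2 | h2
  · left
    rw [Subgroup.eq_bot_iff_forall]
    intro k hk
    apply hfaith2 k hk
    intro y hy
    exact fix_of_ncard_one hn (fun a ha b hb => by
      obtain ⟨g, h3, h4, h5⟩ := trans_X2025 v w a b hv hw hvw ha hb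
      exact ⟨g, ⟨h3, h4⟩, h5⟩) hx1 h2 hk hy
  · right
    have hfix : ∀ a : B22, fG B22 t a • x1 = x1 := by
      intro a
      rw [fG_apply, mul_smul, mul_smul, ht1, fix22 _ cX a, ← ht1, inv_smul_smul]
    have h3 := card_ge (K := K) (fG B22 t) (fG_inj _ _) hMK hfix
    rw [h2, card_B22] at h3
    apply Subgroup.eq_of_le_of_card_ge hKH
    rw [hcH]
    omega

/-- **The joint stabiliser is simple of the expected order.** -/
theorem isMcL (hv : sqNorm (v : GolayPt → ℤ) = 32) (hw : sqNorm (w : GolayPt → ℤ) = 32)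
    (hvw : dotInt (v : GolayPt → ℤ) (w : GolayPt → ℤ) = -8) : IsMcL ↥(HH v w) := by
  have hc := card_HH hv hw hvw
  refine ⟨?_, hc⟩
  haveI : Nontrivial (HH v w) := by
    rw [← Finite.one_lt_card_iff_nontrivial, hc]
    norm_num
  exact isSimple_of (HH v w) fun K hKH hn => normal_cases hv hw hvw hKH hn

end Cfsg.Agent.Lib.Leech.SimpleMcL
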