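import Cfsg.Agent.Lib.Leech.NF

/-!
# Transitivity on the vectors of small norm

Chains `monomial, ξ, monomial` join the representatives of the monomial orbits.
-/

set_option autoImplicit false

namespace Cfsg.Agent.Lib.Leech.Trans

open Cfsg Cfsg.Agent.Lib.Golay.Core Cfsg.Agent.Lib.Golay.Perm
  Cfsg.Agent.Lib.Leech.Basic Cfsg.Agent.Lib.Leech.Lat
  Cfsg.Agent.Lib.Leech.Mon Cfsg.Agent.Lib.Leech.Packed Cfsg.Agent.Lib.Leech.Vec
  Cfsg.Agent.Lib.Leech.Xi Cfsg.Agent.Lib.Leech.Reach Cfsg.Agent.Lib.Leech.NF
open scoped Pointwise

/-- A chain of a monomial step, `ξ` and a monomial step. -/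
def chainOK (n P1 c1 a y P2 c2 n' : ℕ) : Bool :=
  inL n && monOK P1 c1 n a && inL a && xiCheck a y && inL y && monOK P2 c2 y n'

theorem rel_of_chain {H : Subgroup Co0} (hN : NN ≤ H) (hX : xiG ∈ H) {n P1 c1 a y P2 c2 n' : ℕ}
    (h : chainOK n P1 c1 a y P2 c2 n' = true) : Rel H (dec n) (dec n') := by
  simp only [chainOK, Bool.and_eq_true] at h
  obtain ⟨⟨⟨⟨⟨h1, h2⟩, h3⟩, h4⟩, h5⟩, h6⟩ := h
  have h7 : Rel H (dec a) (dec y) := by
    refine ⟨mem_of_inL h3, xiG, hX, ?_⟩
    exact xiF_eq_of_check h4
  exact (Rel.mono hN (nrel_of_monOK h2 (mem_of_inL h1))).trans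
    (h7.trans (Rel.mono hN (nrel_of_monOK h6 (mem_of_inL h5))))

theorem ok_B32 : chainOK nB32 941673710030982194668528458003588491 4626498
    683457010685527873050830995473318416 686053159114795293852219892696629776
    359014300259842207937403866219926849 13938692 nA32 = true := by decide +kernel

theorem chain_B32 {H : Subgroup Co0} (hN : NN ≤ H) (hX : xiG ∈ H) : Rel H (dec nB32) (dec nA32) :=
  rel_of_chain hN hX ok_B32

theorem ok_C32 : chainOK nC32 882943349907834583803424804963816160 2757268
    729012531892350832474325256592997937 686055776197409664774706879456098832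
    688229974548328084159179700646102344 7221256 nB32 = true := by decide +kernel

theorem chain_C32 {H : Subgroup Co0} (hN : NN ≤ H) (hX : xiG ∈ H) : Rel H (dec nC32) (dec nB32) :=
  rel_of_chain hN hX ok_C32

theorem ok_B48 : chainOK nB48 970537869328599371780070989539416517 9887535
    812005693441502250329095455607602671 726254124415950039542385054584456753
    775491614879195007915397752465740246 2634003 nA48 = true := by decide +kernel

theorem chain_B48 {H : Subgroup Co0} (hN : NN ≤ H) (hX : xiG ∈ H) : Rel H (dec nB48) (dec nA48) :=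
  rel_of_chain hN hX ok_B48

theorem ok_C48 : chainOK nC48 472872594142302790573588080406280328 12189412
    602814150178777651377973423063450130 728926405850566345989381066252074481
    479789551280281539476794598126720205 7357552 nB48 = true := by decide +kernel

theorem chain_C48 {H : Subgroup Co0} (hN : NN ≤ H) (hX : xiG ∈ H) : Rel H (dec nC48) (dec nB48) :=
  rel_of_chain hN hX ok_C48

theorem ok_D48 : chainOK nD48 957503806718412038077614925886436370 2546566
    771644925168740824029877988930109970 643256048090029244530777770771856881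
    190058277734716171651606376311235252 10784566 nB48 = true := by decide +kernel

theorem chain_D48 {H : Subgroup Co0} (hN : NN ≤ H) (hX : xiG ∈ H) : Rel H (dec nD48) (dec nB48) :=
  rel_of_chain hN hX ok_D48

theorem ok_B64 : chainOK nB64 251239141634178859203091032449560265 1553300
    691245455973330117013179562969285136 686053159114795289240956086734307856
    440142398036497054446242602292623648 0 nA64 = true := by decide +kernel

theorem chain_B64 {H : Subgroup Co0} (hN : NN ≤ H) (hX : xiG ∈ H) : Rel H (dec nB64) (dec nA64) :=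
  rel_of_chain hN hX ok_B64

theorem ok_C64 : chainOK nC64 477855371822148084937877523598624215 11704137
    771726057203251054055435380120371728 686053159269537794007372699827454480
    713271679321882916726305933972906643 10170384 nB64 = true := by decide +kernel

theorem chain_C64 {H : Subgroup Co0} (hN : NN ≤ H) (hX : xiG ∈ H) : Rel H (dec nC64) (dec nB64) :=
  rel_of_chain hN hX ok_C64

theorem ok_Da64 : chainOK nDa64 562202093421192512330389610974335204 14240676
    600380181795834716530045157389187666 686053158959901668602550244453397008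
    356043340145530825040369969363257963 12656663 nB64 = true := by decide +kernel

theorem chain_Da64 {H : Subgroup Co0} (hN : NN ≤ H) (hX : xiG ∈ H) : Rel H (dec nDa64) (dec nB64) :=
  rel_of_chain hN hX ok_Da64

theorem ok_Db64 : chainOK nDb64 589979949321988408539460807167620748 4870480
    769048697511388741283392029708601938 686050703116637477394787210097015246
    585458411632420347773271820167619826 3026648 nDa64 = true := by decide +kernel

theorem chain_Db64 {H : Subgroup Co0} (hN : NN ≤ H) (hX : xiG ∈ H) : Rel H (dec nDb64) (dec nDa64) :=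
  rel_of_chain hN hX ok_Db64

theorem ok_E64 : chainOK nE64 218527357352335007708571847249801745 15825591
    686053161665704250400700442962575888 686053156563886323464459025054712336
    844541947361337842453372174731588086 13463644 nC64 = true := by decide +kernel

theorem chain_E64 {H : Subgroup Co0} (hN : NN ≤ H) (hX : xiG ∈ H) : Rel H (dec nE64) (dec nC64) :=
  rel_of_chain hN hX ok_E64

theorem ok_F64 : chainOK nF64 440495434296561528419689050849846770 10542247
    605572555331545173676436569681576464 602976411699451104993079702501999120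
    51258286648231818041334264429456652 9426002 nE64 = true := by decide +kernel

theorem chain_F64 {H : Subgroup Co0} (hN : NN ≤ H) (hX : xiG ∈ H) : Rel H (dec nF64) (dec nE64) :=
  rel_of_chain hN hX ok_F64

theorem ok_G64 : chainOK nG64 499356241046979121583864505854765712 15034481
    643172380679365152758165574457542191 769048855965298205568966554844414478
    338820545939886043444652771377597999 12110934 nF64 = true := by decide +kernel

theorem chain_G64 {H : Subgroup Co0} (hN : NN ≤ H) (hX : xiG ∈ H) : Rel H (dec nG64) (dec nF64) :=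
  rel_of_chain hN hX ok_G64

theorem ok_H64 : chainOK nH64 593343643709658053530910899407749487 2872994
    728850272613172241639339042134345201 517384720003963914834932967095681488
    166499237845053697706209382007260357 3515098 nF64 = true := by decide +kernel

theorem chain_H64 {H : Subgroup Co0} (hN : NN ≤ H) (hX : xiG ∈ H) : Rel H (dec nH64) (dec nF64) :=
  rel_of_chain hN hX ok_H64

section rel

variable {H : Subgroup Co0} (hN : NN ≤ H) (hX : xiG ∈ H)
include hN hX

theorem rel32 {x : GolayPt → ℤ} (hx : x ∈ leechLattice) (hn : sqNorm x = 32) :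
    Rel H x (dec nA32) := by
  rcases nf32 hx hn with h | h | h
  · exact Rel.mono hN h
  · exact (Rel.mono hN h).trans (chain_B32 hN hX)
  · exact (Rel.mono hN h).trans ((chain_C32 hN hX).trans (chain_B32 hN hX))

theorem rel48 {x : GolayPt → ℤ} (hx : x ∈ leechLattice) (hn : sqNorm x = 48) :
    Rel H x (dec nA48) := by
  rcases nf48 hx hn with h | h | h | h
  · exact Rel.mono hN h
  · exact (Rel.mono hN h).trans (chain_B48 hN hX)
  · exact (Rel.mono hN h).trans ((chain_C48 hN hX).trans (chain_B48 hN hX))
  · exact (Rel.mono hN h).trans ((chain_D48 hN hX).trans (chain_B48 hN hX))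

theorem rel64 {x : GolayPt → ℤ} (hx : x ∈ leechLattice) (hn : sqNorm x = 64) :
    Rel H x (dec nA64) := by
  have hB := chain_B64 hN hX
  have hC : Rel H (dec nC64) (dec nA64) := (chain_C64 hN hX).trans hB
  have hD : Rel H (dec nDa64) (dec nA64) := (chain_Da64 hN hX).trans hB
  have hE : Rel H (dec nE64) (dec nA64) := (chain_E64 hN hX).trans hC
  have hF : Rel H (dec nF64) (dec nA64) := (chain_F64 hN hX).trans hE
  rcases nf64 hx hn with h | h | h | h | h | h | h | h | h
  · exact Rel.mono hN h
  · exact (Rel.mono hN h).trans hB
  · exact (Rel.mono hN h).trans hC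
  · exact (Rel.mono hN h).trans hD
  · exact (Rel.mono hN h).trans ((chain_Db64 hN hX).trans hD)
  · exact (Rel.mono hN h).trans hE
  · exact (Rel.mono hN h).trans hF
  · exact (Rel.mono hN h).trans ((chain_G64 hN hX).trans hF)
  · exact (Rel.mono hN h).trans ((chain_H64 hN hX).trans hF)

end rel

theorem exists_of_reach {v w : L} (h : Reach v.1 w.1) : ∃ g : Co0, g • v = w := by
  obtain ⟨g, -, hg⟩ := rel_iff.1 h
  exact ⟨g, hg⟩

theorem reach32 {x : GolayPt → ℤ} (hx : x ∈ leechLattice) (hn : sqNorm x = 32) :
    Reach x (dec nA32) := rel32 le_top (Subgroup.mem_top _) hx hn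

theorem reach48 {x : GolayPt → ℤ} (hx : x ∈ leechLattice) (hn : sqNorm x = 48) :
    Reach x (dec nA48) := rel48 le_top (Subgroup.mem_top _) hx hn

theorem reach64 {x : GolayPt → ℤ} (hx : x ∈ leechLattice) (hn : sqNorm x = 64) :
    Reach x (dec nA64) := rel64 le_top (Subgroup.mem_top _) hx hn

theorem trans32 (v w : L) (hv : sqNorm (v : GolayPt → ℤ) = 32) (hw : sqNorm (w : GolayPt → ℤ) = 32) :
    ∃ g : Co0, g • v = w :=
  exists_of_reach ((reach32 v.2 hv).trans (reach32 w.2 hw).symm)

theorem trans48 (v w : L) (hv : sqNorm (v : GolayPt → ℤ) = 48) (hw : sqNorm (w : GolayPt → ℤ) = 48) :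
    ∃ g : Co0, g • v = w :=
  exists_of_reach ((reach48 v.2 hv).trans (reach48 w.2 hw).symm)

theorem trans64 (v w : L) (hv : sqNorm (v : GolayPt → ℤ) = 64) (hw : sqNorm (w : GolayPt → ℤ) = 64) :
    ∃ g : Co0, g • v = w :=
  exists_of_reach ((reach64 v.2 hv).trans (reach64 w.2 hw).symm)

end Cfsg.Agent.Lib.Leech.Trans
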