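import Cfsg.Agent.Lib.Leech.Gen

/-!
# Packed integer vectors

A vector with coordinates in `[-16, 15]` is stored in one natural number, five bits per coordinate
with offset 16.  Membership in the lattice and the action of signed permutations are checked by
the kernel on this representation.
-/

set_option autoImplicit false

namespace Cfsg.Agent.Lib.Leech.Vec

open Cfsg Cfsg.Agent.Lib.Golay.Core Cfsg.Agent.Lib.Golay.Perm Cfsg.Agent.Lib.Leech.Basic
  Cfsg.Agent.Lib.Leech.Lat Cfsg.Agent.Lib.Leech.Mon Cfsg.Agent.Lib.Leech.Packed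

/-- The vector stored in `n`. -/
def dec (n : ℕ) : GolayPt → ℤ := fun p => ((img n (idx p) : ℕ) : ℤ) - 16

theorem dec_pt (n : ℕ) {i : ℕ} (hi : i < 24) : dec n (pt i) = ((img n i : ℕ) : ℤ) - 16 := by
  unfold dec
  rw [idx_pt hi]

theorem sum_golay {β : Type*} [AddCommMonoid β] (f : GolayPt → β) :
    ∑ p, f p = ∑ i ∈ Finset.range 24, f (pt i) := by
  symm
  apply Finset.sum_bij (fun i _ => pt i)
  · intro a _; exact Finset.mem_univ _
  · intro a ha b hb h
    exact pt_injOn (Finset.mem_range.1 ha) (Finset.mem_range.1 hb) h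
  · intro p _
    exact ⟨idx p, Finset.mem_range.2 (idx_lt p), pt_idx p⟩
  · intro a _; rfl

/-- Sum of digits. -/
def sumD (n k : ℕ) : ℕ := Nat.rec 0 (fun i ih => Nat.add ih (img n i)) k

theorem sumD_succ (n k : ℕ) : sumD n (k + 1) = sumD n k + img n k := rfl

theorem sumD_eq (n k : ℕ) : (sumD n k : ℤ) = ∑ i ∈ Finset.range k, ((img n i : ℕ) : ℤ) := by
  induction k with
  | zero => simp [sumD]
  | succ k ih =>
    rw [sumD_succ, Finset.sum_range_succ, ← ih]
    push_cast
    rfl

theorem sum_dec (n : ℕ) : ∑ p, dec n p = (sumD n 24 : ℤ) - 384 := by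
  rw [sum_golay, sumD_eq]
  have : ∀ i ∈ Finset.range 24, dec n (pt i) = ((img n i : ℕ) : ℤ) - 16 :=
    fun i hi => dec_pt n (Finset.mem_range.1 hi)
  rw [Finset.sum_congr rfl this, Finset.sum_sub_distrib]
  simp

/-- The mask of second binary digits. -/
def maskD (n k : ℕ) : ℕ :=
  Nat.rec 0 (fun i ih => Nat.lor ih (Nat.mul (bit (img n i) 1) (Nat.shiftLeft 1 i))) k

theorem maskD_succ (n k : ℕ) :
    maskD n (k + 1) = maskD n k ||| (bit (img n k) 1 * 1 <<< k) := rfl

theorem testBit_maskD (n k j : ℕ) :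
    (maskD n k).testBit j = true ↔ j < k ∧ (img n j).testBit 1 = true := by
  induction k with
  | zero => simp [maskD]
  | succ k ih =>
    rw [maskD_succ, Nat.testBit_or, Bool.or_eq_true, ih, bit_eq]
    cases hb : (img n k).testBit 1 with
    | false =>
      simp only [Bool.toNat_false, zero_mul, Nat.zero_testBit, Bool.false_eq_true, or_false]
      constructor
      · rintro ⟨h1, h2⟩
        exact ⟨Nat.lt_succ_of_lt h1, h2⟩
      · rintro ⟨h1, h2⟩
        refine ⟨?_, h2⟩
        rcases Nat.lt_succ_iff_lt_or_eq.mp h1 with h | rfl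
        · exact h
        · rw [hb] at h2
          exact absurd h2 (by simp)
    | true =>
      simp only [Bool.toNat_true, one_mul, Nat.one_shiftLeft, Nat.testBit_two_pow, decide_eq_true_eq]
      constructor
      · rintro (⟨h1, h2⟩ | rfl)
        · exact ⟨Nat.lt_succ_of_lt h1, h2⟩
        · exact ⟨Nat.lt_succ_self _, hb⟩
      · rintro ⟨h1, h2⟩
        rcases Nat.lt_succ_iff_lt_or_eq.mp h1 with h | rfl
        · exact Or.inl ⟨h, h2⟩
        · exact Or.inr rfl

theorem maskD_lt (n : ℕ) : maskD n 24 < 2 ^ 24 := by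
  apply Nat.lt_pow_two_of_testBit
  intro i hi
  cases h : (maskD n 24).testBit i with
  | false => rfl
  | true =>
    have := ((testBit_maskD n 24 i).1 h).1
    omega

theorem bit1_digit : ∀ d : ℕ, d < 32 → bit1 ((d : ℤ) - 16) = if d.testBit 1 = true then (1 : ZMod 2) else 0 := by
  decide +kernel

theorem beq_of_eq {a b : ℕ} (h : a = b) : Nat.beq a b = true := by
  subst h
  exact Nat.beq_refl a

theorem digitWord_dec (n : ℕ) : digitWord (dec n) = wordOf (maskD n 24) := by
  funext p
  show bit1 (((img n (idx p) : ℕ) : ℤ) - 16) = _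
  rw [bit1_digit _ (img_lt _ _)]
  unfold wordOf
  by_cases h : (img n (idx p)).testBit 1 = true
  · rw [if_pos h, if_pos]
    exact (testBit_maskD _ _ _).2 ⟨idx_lt p, h⟩
  · rw [if_neg h, if_neg]
    intro h'
    exact h ((testBit_maskD _ _ _).1 h').2

/-- Lattice membership test. -/
def inL (n : ℕ) : Bool :=
  cond (allUpTo (fun i => Nat.beq (Nat.mod (img n i) 2) (Nat.mod (img n 0) 2)) 24)
    (cond (Nat.beq (Nat.mod (sumD n 24) 8) (Nat.mul 4 (Nat.mod (img n 0) 2)))
      (isCode (maskD n 24)) false) false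

theorem mem_of_inL {n : ℕ} (h : inL n = true) : dec n ∈ leechLattice := by
  unfold inL at h
  cases h1 : allUpTo (fun i => Nat.beq (Nat.mod (img n i) 2) (Nat.mod (img n 0) 2)) 24 with
  | false => rw [h1] at h; exact absurd h (by simp)
  | true =>
    rw [h1] at h
    cases h2 : Nat.beq (Nat.mod (sumD n 24) 8) (Nat.mul 4 (Nat.mod (img n 0) 2)) with
    | false => rw [h2] at h; exact absurd h (by simp)
    | true =>
      rw [h2] at h
      have h3 : isCode (maskD n 24) = true := h
      have h4 := Nat.eq_of_beq_eq_true h2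
      have h5 : ∀ i < 24, img n i % 2 = img n 0 % 2 := fun i hi =>
        Nat.eq_of_beq_eq_true (allUpTo_iff.1 h1 i hi)
      have h4' : sumD n 24 % 8 = 4 * (img n 0 % 2) := h4
      rw [mem_leechLattice_iff, mem_leechSet_iff]
      refine ⟨((img n 0 % 2 : ℕ) : ℤ), fun p => ?_, ?_, ?_⟩
      · have := h5 (idx p) (idx_lt p)
        show ((img n (idx p) : ℕ) : ℤ) - 16 ≡ _ [ZMOD 2]
        unfold Int.ModEq
        omega
      · rw [sum_dec]
        unfold Int.ModEq
        omega
      · rw [digitWord_dec, wordOf_mem_iff (maskD_lt n)]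
        exact h3

theorem inL_of_mem {n : ℕ} (h : dec n ∈ leechLattice) : inL n = true := by
  rw [mem_leechLattice_iff, mem_leechSet_iff] at h
  obtain ⟨m, hm, hs, hw⟩ := h
  have h5 : ∀ i < 24, img n i % 2 = img n 0 % 2 := by
    intro i hi
    have h1 := hm (pt i)
    have h2 := hm (pt 0)
    rw [dec_pt n hi] at h1
    rw [dec_pt n (by norm_num)] at h2
    unfold Int.ModEq at h1 h2
    omega
  have h6 : sumD n 24 % 8 = 4 * (img n 0 % 2) := by
    rw [sum_dec] at hs
    have h2 := hm (pt 0)
    rw [dec_pt n (by norm_num)] at h2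
    unfold Int.ModEq at h2 hs
    omega
  rw [digitWord_dec, wordOf_mem_iff (maskD_lt n)] at hw
  unfold inL
  have h1 : allUpTo (fun i => Nat.beq (Nat.mod (img n i) 2) (Nat.mod (img n 0) 2)) 24 = true := by
    apply allUpTo_iff.2
    intro i hi
    exact beq_of_eq (h5 i hi)
  have h2 : Nat.beq (Nat.mod (sumD n 24) 8) (Nat.mul 4 (Nat.mod (img n 0) 2)) = true := by
    exact beq_of_eq h6
  rw [h1, h2]
  exact hw

theorem inL_iff {n : ℕ} : inL n = true ↔ dec n ∈ leechLattice := ⟨mem_of_inL, inL_of_mem⟩

/-! ### Signed permutations -/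

/-- One coordinate of the check of a signed permutation. -/
def monStep (P c n n' i : ℕ) : Bool :=
  Nat.rec (motive := fun _ => Bool)
    (Nat.beq (img n' (img P i)) (img n i)) (fun _ _ => Nat.beq (Nat.add (img n' (img P i)) (img n i)) 32)
    (bit c (img P i))

/-- Check that `n'` is the image of `n` under a signed permutation. -/
def monCheck (P c n n' : ℕ) : Bool := allUpTo (monStep P c n n') 24

theorem monCheck_sound {P c n n' : ℕ} (hP : validPerm P = true) (h : monCheck P c n n' = true) :
    signedPerm (g P) (setOf c) (dec n) = dec n' := by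
  funext j
  rw [signedPerm_apply]
  have hi := idx_lt ((g P).symm j)
  have h1 := allUpTo_iff.1 h _ hi
  have hj : idx j = img P (idx ((g P).symm j)) := by
    rw [← idx_g hP, Equiv.apply_symm_apply]
  have h2 : monStep P c n n' (idx ((g P).symm j)) =
      cond (c.testBit (img P (idx ((g P).symm j))))
        (Nat.beq (Nat.add (img n' (img P (idx ((g P).symm j)))) (img n (idx ((g P).symm j)))) 32)
        (Nat.beq (img n' (img P (idx ((g P).symm j)))) (img n (idx ((g P).symm j)))) := by
    unfold monStep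
    rw [bit_eq]
    cases c.testBit _ <;> rfl
  rw [h2, ← hj] at h1
  simp only [mem_setOf]
  show (if c.testBit (idx j) = true then -(((img n (idx ((g P).symm j)) : ℕ) : ℤ) - 16)
    else ((img n (idx ((g P).symm j)) : ℕ) : ℤ) - 16) = ((img n' (idx j) : ℕ) : ℤ) - 16
  cases hb : c.testBit (idx j) with
  | false =>
    rw [hb] at h1
    have := Nat.eq_of_beq_eq_true h1
    simp only [Bool.false_eq_true, if_false]
    omega
  | true =>
    rw [hb] at h1
    have h3 : Nat.add (img n' (idx j)) (img n (idx ((g P).symm j))) = 32 := Nat.eq_of_beq_eq_true h1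
    have h4 : img n' (idx j) + img n (idx ((g P).symm j)) = 32 := h3
    simp only [if_true]
    omega

end Cfsg.Agent.Lib.Leech.Vec
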