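import Cfsg.Agent.Lib.Leech.Order

/-!
# Words in the monomial group and `ξ`

An operation is a pair `(P, c)`: a signed permutation, or `ξ` when `P = 0`.  Words act on packed
vectors; the kernel computes the images and checks them.
-/

set_option autoImplicit false

namespace Cfsg.Agent.Lib.Leech.Word

open Cfsg Cfsg.Agent.Lib.Golay.Core Cfsg.Agent.Lib.Golay.Perm
  Cfsg.Agent.Lib.Leech.Basic Cfsg.Agent.Lib.Leech.Lat
  Cfsg.Agent.Lib.Leech.Mon Cfsg.Agent.Lib.Leech.Packed Cfsg.Agent.Lib.Leech.Vec
  Cfsg.Agent.Lib.Leech.Xi Cfsg.Agent.Lib.Leech.Reach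
open scoped Pointwise

/-- The element of an operation. -/
noncomputable def opG (o : ℕ × ℕ) : Co0 :=
  if o.1 = 0 then xiG else
    if h : checkAut o.1 = true ∧ o.2 < 2 ^ 24 ∧ isCode o.2 = true then
      monG (g o.1) (g_mem_M24 h.1) (setOf o.2) (setOf_mem_of_isCode h.2.1 h.2.2)
    else 1

/-- The check of one step. -/
def stepOK (o : ℕ × ℕ) (n n' : ℕ) : Bool :=
  cond (Nat.beq o.1 0) (xiCheck n n') (monOK o.1 o.2 n n')

theorem opG_smul {o : ℕ × ℕ} {n n' : ℕ} (h : stepOK o n n' = true) (hn : dec n ∈ leechLattice) :
    ((opG o • (⟨dec n, hn⟩ : L) : L) : GolayPt → ℤ) = dec n' := by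
  unfold stepOK at h
  cases h0 : Nat.beq o.1 0 with
  | true =>
    rw [h0] at h
    have h1 : o.1 = 0 := Nat.eq_of_beq_eq_true h0
    unfold opG
    rw [if_pos h1]
    exact xiF_eq_of_check h
  | false =>
    rw [h0] at h
    have h1 : o.1 ≠ 0 := fun hh => by
      rw [hh] at h0
      exact absurd h0 (by decide)
    unfold monOK at h
    cases h2 : checkAut o.1 with
    | false => rw [h2] at h; exact absurd h (by simp)
    | true =>
      rw [h2] at h
      cases h3 : Nat.blt o.2 16777216 with
      | false => rw [h3] at h; exact absurd h (by simp)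
      | true =>
        rw [h3] at h
        cases h4 : isCode o.2 with
        | false => rw [h4] at h; exact absurd h (by simp)
        | true =>
          rw [h4] at h
          have hc : o.2 < 2 ^ 24 := by
            have : Nat.blt o.2 16777216 = true := h3
            simp only [Nat.blt_eq] at this
            norm_num
            exact this
          unfold opG
          rw [if_neg h1, dif_pos ⟨h2, hc, h4⟩]
          exact monCheck_sound (checkAut_valid h2) h

/-- The digit of the image under a signed permutation, at the image of a point. -/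
def monDig (P c n i : ℕ) : ℕ :=
  Nat.rec (motive := fun _ => ℕ) (img n i) (fun _ _ => Nat.sub 32 (img n i)) (bit c (img P i))

/-- The image of a packed vector under a signed permutation. -/
def monImg (P c n : ℕ) : ℕ :=
  Nat.rec (motive := fun _ => ℕ) 0
    (fun i ih => Nat.add ih (Nat.shiftLeft (monDig P c n i) (Nat.mul 5 (img P i)))) 24

/-- The image under an operation. -/
def opImg (o : ℕ × ℕ) (n : ℕ) : ℕ :=
  cond (Nat.beq o.1 0) (xiImg n) (monImg o.1 o.2 n)

/-- Running a word: checks all the steps and the final vector. -/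
def runW (w : List (ℕ × ℕ)) : ℕ → ℕ → Bool :=
  List.rec (motive := fun _ => ℕ → ℕ → Bool) (fun n m => Nat.beq n m)
    (fun o _ ih n m => Nat.rec (motive := fun _ => Bool) false
      (fun k _ => cond (stepOK o n (Nat.succ k)) (ih (Nat.succ k) m) false) (opImg o n)) w

theorem runW_cons (o : ℕ × ℕ) (w : List (ℕ × ℕ)) (n m : ℕ) :
    runW (o :: w) n m = Nat.rec (motive := fun _ => Bool) false
      (fun k _ => cond (stepOK o n (Nat.succ k)) (runW w (Nat.succ k) m) false) (opImg o n) := rfl

/-- The element of a word: the first operation is applied first. -/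
noncomputable def wG : List (ℕ × ℕ) → Co0
  | [] => 1
  | o :: w => wG w * opG o

theorem wG_smul (w : List (ℕ × ℕ)) {n m : ℕ} (h : runW w n m = true) (hn : dec n ∈ leechLattice) :
    ((wG w • (⟨dec n, hn⟩ : L) : L) : GolayPt → ℤ) = dec m := by
  induction w generalizing n with
  | nil =>
    have : n = m := Nat.eq_of_beq_eq_true h
    subst this
    show ((1 : Co0) • (⟨dec n, hn⟩ : L) : L).1 = _
    rw [one_smul]
  | cons o w ih =>
    rw [runW_cons] at h
    cases h1 : opImg o n with
    | zero => rw [h1] at h; exact absurd h (by simp)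
    | succ k =>
      rw [h1] at h
      simp only at h
      cases h2 : stepOK o n (Nat.succ k) with
      | false => rw [h2] at h; exact absurd h (by simp)
      | true =>
        rw [h2] at h
        have h3 := opG_smul h2 hn
        have h4 : dec (Nat.succ k) ∈ leechLattice := by
          rw [← h3]
          exact (opG o • (⟨dec n, hn⟩ : L)).2
        have h5 := ih (n := Nat.succ k) h h4
        have h6 : opG o • (⟨dec n, hn⟩ : L) = ⟨dec (Nat.succ k), h4⟩ := Subtype.ext h3
        show ((wG w * opG o) • (⟨dec n, hn⟩ : L) : L).1 = _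
        rw [mul_smul, h6]
        exact h5

theorem mem_of_run {w : List (ℕ × ℕ)} {n m : ℕ} (h : runW w n m = true) (hn : dec n ∈ leechLattice) :
    dec m ∈ leechLattice := by
  rw [← wG_smul w h hn]
  exact (wG w • (⟨dec n, hn⟩ : L)).2

/-- A word in a subgroup containing its operations. -/
theorem wG_mem {H : Subgroup Co0} {w : List (ℕ × ℕ)} (h : ∀ o ∈ w, opG o ∈ H) : wG w ∈ H := by
  induction w with
  | nil => exact H.one_mem
  | cons o w ih =>
    exact H.mul_mem (ih fun o' ho' => h o' (List.mem_cons_of_mem _ ho')) (h o List.mem_cons_self)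

end Cfsg.Agent.Lib.Leech.Word
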