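import Cfsg.Agent.Lib.Leech.Vec

/-!
# Conway's element `ξ`

Let `T₀, ..., T₅` be the tetrads of the sextet through `{0, 1, 2, 3}`.  The map `ξ` sends
`x` to `y` with `2 y_p = ε_p (∑_{q ∈ T(p)} x_q - 2 x_p)`, where `T(p)` is the tetrad of `p` and
`ε_p = -1` on `T₀` and `1` elsewhere.  It is an involutive isometry of the lattice.
-/

set_option autoImplicit false

namespace Cfsg.Agent.Lib.Leech.Xi

open Cfsg Cfsg.Agent.Lib.Golay.Core Cfsg.Agent.Lib.Golay.Perm Cfsg.Agent.Lib.Leech.Basic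
  Cfsg.Agent.Lib.Leech.Even Cfsg.Agent.Lib.Leech.Lat Cfsg.Agent.Lib.Leech.Mon
  Cfsg.Agent.Lib.Leech.Packed Cfsg.Agent.Lib.Leech.Gen Cfsg.Agent.Lib.Leech.Vec

/-- Number of the tetrad of each point. -/
def tetTab : ℕ := 213009751747260715179146379221008384
/-- First point of the tetrad of each point. -/
def TA : ℕ := 216024474945971981320744939898798080
/-- Second point of the tetrad of each point. -/
def TB : ℕ := 593973517598595728171393917146661921
/-- Third point of the tetrad of each point. -/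
def TC : ℕ := 721268497779582606444411021540001858
/-- Fourth point of the tetrad of each point. -/
def TD : ℕ := 984819516136077445612925762706443363

/-- The number of the tetrad of a point. -/
def tetId (p : GolayPt) : ℕ := img tetTab (idx p)

/-- The tetrad of a point. -/
def tetF (p : GolayPt) : Finset GolayPt := Finset.univ.filter fun q => tetId q = tetId p

theorem mem_tetF {p q : GolayPt} : q ∈ tetF p ↔ tetId q = tetId p := by
  simp [tetF]

theorem tetF_eq_of_mem {p q : GolayPt} (h : q ∈ tetF p) : tetF q = tetF p := by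
  have := mem_tetF.1 h
  unfold tetF
  rw [this]

theorem mem_tetF_self (p : GolayPt) : p ∈ tetF p := mem_tetF.2 rfl

theorem mem_tetF_comm {p q : GolayPt} : q ∈ tetF p ↔ p ∈ tetF q := by
  rw [mem_tetF, mem_tetF, eq_comm]

theorem card_tetF : ∀ p, (tetF p).card = 4 := by decide +kernel

/-- The sign of a point. -/
def eps (p : GolayPt) : ℤ := if tetId p = 0 then -1 else 1

theorem eps_mul_self (p : GolayPt) : eps p * eps p = 1 := by
  unfold eps
  split_ifs <;> norm_num

theorem eps_eq_of_mem {p q : GolayPt} (h : q ∈ tetF p) : eps q = eps p := by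
  unfold eps
  rw [mem_tetF.1 h]

/-- Sum over the tetrad of a point. -/
def tsum (x : GolayPt → ℤ) (p : GolayPt) : ℤ := ∑ q ∈ tetF p, x q

theorem tsum_eq_of_mem (x : GolayPt → ℤ) {p q : GolayPt} (h : q ∈ tetF p) : tsum x q = tsum x p := by
  unfold tsum
  rw [tetF_eq_of_mem h]

/-- Twice `ξ`. -/
def xiW (x : GolayPt → ℤ) (p : GolayPt) : ℤ := eps p * (tsum x p - 2 * x p)

/-- The map `ξ`. -/
def xiF (x : GolayPt → ℤ) : GolayPt → ℤ := fun p => xiW x p / 2

theorem xiW_add (x y : GolayPt → ℤ) (p : GolayPt) : xiW (x + y) p = xiW x p + xiW y p := by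
  unfold xiW tsum
  simp only [Pi.add_apply, Finset.sum_add_distrib]
  ring

theorem xiW_neg (x : GolayPt → ℤ) (p : GolayPt) : xiW (-x) p = - xiW x p := by
  unfold xiW tsum
  simp only [Pi.neg_apply, Finset.sum_neg_distrib]
  ring

theorem sum_tsum_sq (x : GolayPt → ℤ) : ∑ p, tsum x p ^ 2 = 4 * ∑ p, tsum x p * x p := by
  have h1 : ∀ p, tsum x p ^ 2 = ∑ q ∈ tetF p, tsum x q * x q := by
    intro p
    rw [sq]
    conv_lhs => rw [show tsum x p * tsum x p = tsum x p * ∑ q ∈ tetF p, x q from rfl]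
    rw [Finset.mul_sum]
    exact Finset.sum_congr rfl fun q hq => by rw [tsum_eq_of_mem x hq]
  rw [Finset.sum_congr rfl fun p _ => h1 p]
  have h2 : ∑ p, ∑ q ∈ tetF p, tsum x q * x q = ∑ q, ∑ p ∈ tetF q, tsum x q * x q := by
    apply Finset.sum_comm'
    intro p q
    simp only [Finset.mem_univ, true_and, and_true]
    exact mem_tetF_comm
  rw [h2, Finset.mul_sum]
  refine Finset.sum_congr rfl fun q _ => ?_
  rw [Finset.sum_const, card_tetF]
  simp

theorem sum_xiW_sq (x : GolayPt → ℤ) : ∑ p, xiW x p ^ 2 = 4 * sqNorm x := by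
  have h1 : ∀ p, xiW x p ^ 2 = tsum x p ^ 2 - 4 * (tsum x p * x p) + 4 * x p ^ 2 := by
    intro p
    unfold xiW
    have := eps_mul_self p
    calc (eps p * (tsum x p - 2 * x p)) ^ 2 = (eps p * eps p) * (tsum x p - 2 * x p) ^ 2 := by ring
      _ = _ := by rw [this]; ring
  rw [Finset.sum_congr rfl fun p _ => h1 p, Finset.sum_add_distrib, Finset.sum_sub_distrib,
    sum_tsum_sq, ← Finset.mul_sum, ← Finset.mul_sum]
  unfold sqNorm
  ring

theorem tsum_of_xiW {x y : GolayPt → ℤ} (h : ∀ p, xiW x p = 2 * y p) (p : GolayPt) :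
    2 * tsum y p = eps p * (2 * tsum x p) := by
  have h1 : 2 * tsum y p = ∑ q ∈ tetF p, eps p * (tsum x p - 2 * x q) := by
    unfold tsum
    rw [Finset.mul_sum]
    refine Finset.sum_congr rfl fun q hq => ?_
    rw [← h q]
    unfold xiW
    rw [eps_eq_of_mem hq, tsum_eq_of_mem x hq]
    rfl
  rw [h1, ← Finset.mul_sum, Finset.sum_sub_distrib, Finset.sum_const, card_tetF, ← Finset.mul_sum]
  have h3 : ∑ q ∈ tetF p, x q = tsum x p := rfl
  rw [h3]
  simp only [nsmul_eq_mul, Nat.cast_ofNat]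
  ring

/-- `ξ` is involutive. -/
theorem xiW_invol {x y : GolayPt → ℤ} (h : ∀ p, xiW x p = 2 * y p) (p : GolayPt) :
    xiW y p = 2 * x p := by
  have h1 := tsum_of_xiW h p
  have h2 := h p
  have h3 := eps_mul_self p
  have h4 : 2 * xiW y p = 2 * (2 * x p) := by
    unfold xiW at h2 ⊢
    calc 2 * (eps p * (tsum y p - 2 * y p)) = eps p * (2 * tsum y p - 2 * (2 * y p)) := by ring
      _ = eps p * (eps p * (2 * tsum x p) - 2 * (eps p * (tsum x p - 2 * x p))) := by rw [h1, h2]
      _ = (eps p * eps p) * (4 * x p) := by ring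
      _ = _ := by rw [h3]; ring
  omega

theorem xiW_even {x : GolayPt → ℤ} (hx : x ∈ leechLattice) (p : GolayPt) : (2 : ℤ) ∣ xiW x p := by
  rw [mem_leechLattice_iff, mem_leechSet_iff] at hx
  obtain ⟨m, hm, -, -⟩ := hx
  have h1 : (2 : ℤ) ∣ tsum x p := by
    have h2 : tsum x p ≡ ∑ q ∈ tetF p, m [ZMOD 2] := Int.ModEq.sum fun q _ => hm q
    rw [Finset.sum_const, card_tetF] at h2
    rw [nsmul_eq_mul] at h2
    unfold Int.ModEq at h2
    push_cast at h2
    omega
  unfold xiW
  obtain ⟨c, hc⟩ := h1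
  exact ⟨eps p * (c - x p), by rw [hc]; ring⟩

theorem two_mul_xiF {x : GolayPt → ℤ} (hx : x ∈ leechLattice) (p : GolayPt) :
    2 * xiF x p = xiW x p := by
  obtain ⟨c, hc⟩ := xiW_even hx p
  unfold xiF
  rw [hc]
  omega

/-! ### The kernel check of `ξ` -/

theorem tets_lt : ∀ i < 24, img TA i < 24 ∧ img TB i < 24 ∧ img TC i < 24 ∧ img TD i < 24 := by
  decide +kernel

theorem tetF_pt : ∀ i < 24, tetF (pt i) = {pt (img TA i), pt (img TB i), pt (img TC i), pt (img TD i)} := by
  decide +kernel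

theorem tets_ne : ∀ i < 24, img TA i ≠ img TB i ∧ img TA i ≠ img TC i ∧ img TA i ≠ img TD i ∧
    img TB i ≠ img TC i ∧ img TB i ≠ img TD i ∧ img TC i ≠ img TD i := by
  decide +kernel

theorem tsum_pt (x : GolayPt → ℤ) {i : ℕ} (hi : i < 24) :
    tsum x (pt i) = x (pt (img TA i)) + x (pt (img TB i)) + x (pt (img TC i)) + x (pt (img TD i)) := by
  obtain ⟨h1, h2, h3, h4⟩ := tets_lt i hi
  obtain ⟨n1, n2, n3, n4, n5, n6⟩ := tets_ne i hi
  unfold tsum
  rw [tetF_pt i hi, Finset.sum_insert, Finset.sum_insert, Finset.sum_insert, Finset.sum_singleton]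
  · ring
  · rw [Finset.mem_singleton]
    exact fun h => n6 (pt_injOn h3 h4 h)
  · simp only [Finset.mem_insert, Finset.mem_singleton, not_or]
    exact ⟨fun h => n4 (pt_injOn h2 h3 h), fun h => n5 (pt_injOn h2 h4 h)⟩
  · simp only [Finset.mem_insert, Finset.mem_singleton, not_or]
    exact ⟨fun h => n1 (pt_injOn h1 h2 h), fun h => n2 (pt_injOn h1 h3 h), fun h => n3 (pt_injOn h1 h4 h)⟩

/-- One coordinate of the check of `ξ`. -/
def xiStep (n n' i : ℕ) : Bool :=
  Nat.rec (motive := fun _ => Bool)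
    (Nat.beq (Nat.add (Nat.mul 2 (img n i)) 64)
      (Nat.add (Nat.add (Nat.add (Nat.add (img n (img TA i)) (img n (img TB i))) (img n (img TC i)))
        (img n (img TD i))) (Nat.mul 2 (img n' i))))
    (fun _ _ => Nat.beq (Nat.add (Nat.add (Nat.add (img n (img TA i)) (img n (img TB i))) (img n (img TC i)))
        (img n (img TD i))) (Nat.add (Nat.mul 2 (img n i)) (Nat.mul 2 (img n' i))))
    (img tetTab i)

/-- Check that `2 dec n' = W (dec n)`. -/
def xiCheck (n n' : ℕ) : Bool := allUpTo (xiStep n n') 24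

theorem xiCheck_sound {n n' : ℕ} (h : xiCheck n n' = true) (p : GolayPt) :
    xiW (dec n) p = 2 * dec n' p := by
  have hi := idx_lt p
  have h1 := allUpTo_iff.1 h _ hi
  obtain ⟨a, ha⟩ : ∃ a, a = idx p := ⟨_, rfl⟩
  rw [← ha] at h1 hi
  have hp : p = pt a := by rw [ha, pt_idx]
  obtain ⟨h2, h3, h4, h5⟩ := tets_lt a hi
  subst hp
  unfold xiW
  rw [tsum_pt _ hi, dec_pt n hi, dec_pt n h2, dec_pt n h3, dec_pt n h4, dec_pt n h5, dec_pt n' hi]
  unfold eps tetId
  rw [idx_pt hi]
  unfold xiStep at h1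
  cases hk : img tetTab a with
  | zero =>
    rw [hk] at h1
    have h6 : 2 * img n a + 64 = img n (img TA a) + img n (img TB a) + img n (img TC a) +
        img n (img TD a) + 2 * img n' a := Nat.eq_of_beq_eq_true h1
    simp only [if_true]
    omega
  | succ k =>
    rw [hk] at h1
    have h6 : img n (img TA a) + img n (img TB a) + img n (img TC a) + img n (img TD a) =
        2 * img n a + 2 * img n' a := Nat.eq_of_beq_eq_true h1
    simp only [Nat.succ_ne_zero, if_false]
    omega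

theorem xiF_eq_of_check {n n' : ℕ} (h : xiCheck n n' = true) : xiF (dec n) = dec n' := by
  funext p
  unfold xiF
  rw [xiCheck_sound h p]
  omega

/-! ### `ξ` preserves the lattice -/

/-- The digit of `ξ`. -/
def xiDigit (n i : ℕ) : ℕ :=
  Nat.rec (motive := fun _ => ℕ)
    (Nat.sub (Nat.add (img n i) 32) (Nat.div (Nat.add (Nat.add (Nat.add (img n (img TA i)) (img n (img TB i))) (img n (img TC i)))
        (img n (img TD i))) 2))
    (fun _ _ => Nat.sub (Nat.div (Nat.add (Nat.add (Nat.add (img n (img TA i)) (img n (img TB i))) (img n (img TC i)))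
        (img n (img TD i))) 2) (img n i))
    (img tetTab i)

/-- The image under `ξ`, as a packed vector. -/
def xiImg (n : ℕ) : ℕ := pack (xiDigit n) 24

/-- Packed `v0`. -/
def nv0 : ℕ := pack (fun i => Nat.rec (motive := fun _ => ℕ) 13 (fun _ _ => 17) (Nat.sub 23 i)) 24

/-- Packed `twice`. -/
def nTw (b : ℕ) : ℕ := pack (fun i => Nat.add 16 (Nat.mul 2 (bit b i))) 24

/-- Packed `b4`. -/
def nB4 (k : ℕ) : ℕ :=
  pack (fun j => Nat.sub (Nat.add 16 (Nat.mul 4 (Bool.toNat (Nat.beq j k)))) (Nat.mul 4 (Bool.toNat (Nat.beq j 23)))) 24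

/-- Packed `8 e_∞`. -/
def nE8 : ℕ := pack (fun j => Nat.add 16 (Nat.mul 8 (Bool.toNat (Nat.beq j 23)))) 24

/-- The check of one generator. -/
def genOK (n : ℕ) : Bool := cond (xiCheck n (xiImg n)) (inL (xiImg n)) false

theorem dec_nv0 : dec nv0 = v0 := by decide +kernel

theorem dec_nE8 : dec nE8 = e8 none := by decide +kernel

theorem dec_nB4 : ∀ k < 24, dec (nB4 k) = b4 (pt k) := by decide +kernel

theorem dec_nTw : ∀ b ∈ basis, dec (nTw b) = twice (setOf b) := by decide +kernel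

theorem genOK_v0 : genOK nv0 = true := by decide +kernel

theorem genOK_E8 : genOK nE8 = true := by decide +kernel

theorem genOK_B4 : ∀ k < 24, genOK (nB4 k) = true := by decide +kernel

theorem genOK_Tw : ∀ b ∈ basis, genOK (nTw b) = true := by decide +kernel

/-- The subgroup of vectors whose image under `W` is twice a lattice vector. -/
def xiSub : AddSubgroup (GolayPt → ℤ) where
  carrier := {x | ∃ z ∈ leechLattice, ∀ p, xiW x p = 2 * z p}
  zero_mem' := ⟨0, leechLattice.zero_mem, fun p => by simp [xiW, tsum]⟩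
  add_mem' := by
    rintro x y ⟨z, hz, h⟩ ⟨z', hz', h'⟩
    exact ⟨z + z', leechLattice.add_mem hz hz', fun p => by
      rw [xiW_add, h, h', Pi.add_apply]; ring⟩
  neg_mem' := by
    rintro x ⟨z, hz, h⟩
    exact ⟨-z, leechLattice.neg_mem hz, fun p => by
      rw [xiW_neg, h, Pi.neg_apply]; ring⟩

theorem mem_xiSub_of_genOK {n : ℕ} (h : genOK n = true) : dec n ∈ xiSub := by
  unfold genOK at h
  cases h1 : xiCheck n (xiImg n) with
  | false => rw [h1] at h; exact absurd h (by simp)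
  | true =>
    rw [h1] at h
    exact ⟨_, mem_of_inL h, xiCheck_sound h1⟩

theorem lattice_le_xiSub : leechLattice ≤ xiSub := by
  apply lattice_le_of_gens
  · rw [← dec_nv0]
    exact mem_xiSub_of_genOK genOK_v0
  · intro b hb
    rw [← dec_nTw b hb]
    exact mem_xiSub_of_genOK (genOK_Tw b hb)
  · intro i
    have := mem_xiSub_of_genOK (genOK_B4 _ (idx_lt i))
    rwa [dec_nB4 _ (idx_lt i), pt_idx] at this
  · rw [← dec_nE8]
    exact mem_xiSub_of_genOK genOK_E8

theorem xiF_mem {x : GolayPt → ℤ} (hx : x ∈ leechLattice) : xiF x ∈ leechLattice := by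
  obtain ⟨z, hz, h⟩ := lattice_le_xiSub hx
  have : xiF x = z := by
    funext p
    unfold xiF
    rw [h p]
    omega
  rwa [this]

theorem xiF_xiF {x : GolayPt → ℤ} (hx : x ∈ leechLattice) : xiF (xiF x) = x := by
  funext p
  show xiW (xiF x) p / 2 = x p
  rw [xiW_invol (fun q => (two_mul_xiF hx q).symm) p]
  omega

theorem xiF_add {x y : GolayPt → ℤ} (hx : x ∈ leechLattice) (hy : y ∈ leechLattice) :
    xiF (x + y) = xiF x + xiF y := by
  funext p
  have h1 := two_mul_xiF hx p
  have h2 := two_mul_xiF hy p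
  have h3 := xiW_add x y p
  show xiW (x + y) p / 2 = xiF x p + xiF y p
  rw [h3, ← h1, ← h2]
  omega

theorem sqNorm_xiF {x : GolayPt → ℤ} (hx : x ∈ leechLattice) : sqNorm (xiF x) = sqNorm x := by
  have h1 := sum_xiW_sq x
  have h2 : ∑ p, xiW x p ^ 2 = 4 * sqNorm (xiF x) := by
    unfold sqNorm
    rw [Finset.mul_sum]
    refine Finset.sum_congr rfl fun p _ => ?_
    rw [← two_mul_xiF hx p]
    ring
  omega

/-- Conway's element `ξ` of `Co0`. -/
def xiG : Co0 :=
  mkCo0 xiF xiF (fun _ h => xiF_mem h) (fun _ h => xiF_mem h) (fun _ h => xiF_xiF h)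
    (fun _ h => xiF_xiF h) (fun _ h _ h' => xiF_add h h') (fun _ h => sqNorm_xiF h)

@[simp] theorem xiG_smul (v : L) : ((xiG • v : L) : GolayPt → ℤ) = xiF v := rfl

theorem xiG_sq : xiG * xiG = 1 := by
  apply ext_smul
  intro v
  apply Subtype.ext
  exact xiF_xiF v.2

end Cfsg.Agent.Lib.Leech.Xi
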