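import Cfsg.Agent.Lib.Leech.Gen2
import Cfsg.Agent.Lib.Golay.Core

/-!
An explicit `ℤ`-basis of the rank-24 lattice, in triangular form, and the fact that every lattice
vector is an integer combination of it.
-/

set_option autoImplicit false

namespace Cfsg.Agent.Lib.Leech.ZBasis

open Cfsg
open Cfsg.Agent.Lib.Golay.Core
open Cfsg.Agent.Lib.Leech.Basic Cfsg.Agent.Lib.Leech.Even Cfsg.Agent.Lib.Leech.GenA
  Cfsg.Agent.Lib.Leech.Gen2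

/-- Table lookup. -/
def tab (T : List (List ℤ)) (k l : ℕ) : ℤ := (T.getD k []).getD l 0

/-- The basis as a table: row `k`, coordinate `idx p`. -/
def bT : List (List ℤ) := [
  [1,1,1,1,1,1,1,1,1,1,1,1,1,1,1,1,1,1,1,1,1,1,1,(-3)],
  [0,2,2,2,2,2,2,2,2,2,2,2,0,2,0,2,0,0,0,2,2,2,0,(-8)],
  [0,0,2,2,2,2,2,2,2,2,2,2,(-2),0,(-2),0,(-2),0,0,0,2,2,(-2),(-8)],
  [0,0,0,2,2,2,2,2,2,2,2,2,(-4),(-2),(-2),(-2),(-2),0,(-2),0,0,2,(-4),(-10)],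
  [0,0,0,0,2,2,2,2,2,2,2,2,(-6),(-4),(-2),(-2),(-2),(-2),(-4),(-2),0,0,(-6),(-10)],
  [0,0,0,0,0,2,2,2,2,2,2,2,(-8),(-6),(-2),(-2),(-4),(-4),(-4),(-4),(-2),0,(-6),(-12)],
  [0,0,0,0,0,0,2,2,2,2,2,2,(-8),(-8),(-4),(-2),(-4),(-6),(-6),(-4),(-4),(-2),(-6),(-14)],
  [0,0,0,0,0,0,0,2,2,2,2,2,(-8),(-8),(-6),(-4),(-4),(-6),(-8),(-6),(-4),(-4),(-8),(-16)],
  [0,0,0,0,0,0,0,0,2,2,2,2,(-10),(-8),(-8),(-6),(-4),(-8),(-10),(-8),(-6),(-4),(-8),(-16)],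
  [0,0,0,0,0,0,0,0,0,2,2,2,(-10),(-10),(-8),(-8),(-6),(-8),(-12),(-10),(-8),(-6),(-8),(-16)],
  [0,0,0,0,0,0,0,0,0,0,2,2,(-10),(-10),(-10),(-8),(-8),(-10),(-12),(-12),(-10),(-8),(-10),(-16)],
  [0,0,0,0,0,0,0,0,0,0,0,2,(-12),(-10),(-12),(-10),(-10),(-10),(-12),(-12),(-12),(-10),(-10),(-18)],
  [0,0,0,0,0,0,0,0,0,0,0,0,4,0,4,0,4,4,4,0,0,0,4,0],
  [0,0,0,0,0,0,0,0,0,0,0,0,0,4,0,4,0,(-4),(-4),4,0,0,0,(-4)],
  [0,0,0,0,0,0,0,0,0,0,0,0,0,0,4,0,4,0,(-4),4,(-4),0,0,(-4)],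
  [0,0,0,0,0,0,0,0,0,0,0,0,0,0,0,4,0,(-4),0,(-4),4,(-4),0,4],
  [0,0,0,0,0,0,0,0,0,0,0,0,0,0,0,0,4,0,(-4),0,4,(-4),(-4),4],
  [0,0,0,0,0,0,0,0,0,0,0,0,0,0,0,0,0,4,8,(-12),16,(-4),(-4),16],
  [0,0,0,0,0,0,0,0,0,0,0,0,0,0,0,0,0,0,4,(-16),12,(-8),(-4),12],
  [0,0,0,0,0,0,0,0,0,0,0,0,0,0,0,0,0,0,0,4,(-4),0,(-4),4],
  [0,0,0,0,0,0,0,0,0,0,0,0,0,0,0,0,0,0,0,0,4,20,44,(-44)],
  [0,0,0,0,0,0,0,0,0,0,0,0,0,0,0,0,0,0,0,0,0,4,12,(-8)],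
  [0,0,0,0,0,0,0,0,0,0,0,0,0,0,0,0,0,0,0,0,0,0,4,4],
  [0,0,0,0,0,0,0,0,0,0,0,0,0,0,0,0,0,0,0,0,0,0,0,8]]

/-- The masks of the second binary digits of the basis vectors. -/
def dT : List ℕ := [0,3715070,7430140,10874872,13361136,5304288,15110080,675712,1351424,2702848,5405696,14919680,0,0,0,0,0,0,0,0,0,0,0,0]

def CqT : List (List ℤ) := [
  [2,0,0,0,0,(-1),1,(-1),1,0,(-1),0,(-2),(-2),0,0,0,(-2),2,1,1,(-5),4,(-3)],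
  [0,1,0,0,0,0,(-1),1,(-1),1,0,(-1),(-3),(-2),1,0,0,(-1),2,4,0,1,3,(-5)],
  [0,0,1,0,0,0,0,(-1),1,(-1),1,0,1,0,1,1,(-1),1,(-2),(-4),0,(-3),3,0],
  [0,0,0,1,0,0,0,0,(-1),1,(-1),1,2,1,(-1),1,1,0,0,2,0,3,(-7),6],
  [0,0,0,0,1,0,0,0,0,(-1),1,(-1),(-1),(-1),(-1),(-1),1,(-2),2,1,0,0,3,(-3)],
  [2,(-1),0,0,0,1,0,0,0,0,(-1),1,2,2,(-1),(-1),0,0,0,(-1),0,0,(-2),4],
  [0,1,(-1),0,0,0,1,0,0,0,0,(-1),(-1),(-1),(-1),(-1),0,(-2),2,1,1,(-6),8,(-5)],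
  [2,(-1),1,(-1),0,0,0,1,0,0,0,0,1,2,0,(-1),0,1,0,2,0,1,0,1],
  [0,1,(-1),1,(-1),0,0,0,1,0,0,0,2,1,0,0,(-1),1,(-2),(-5),0,(-3),1,3],
  [0,0,1,(-1),1,(-1),0,0,0,1,0,0,2,2,0,0,(-1),2,(-2),(-2),(-2),9,(-8),5],
  [2,(-1),0,1,(-1),1,(-1),0,0,0,1,0,2,2,0,0,0,1,0,4,2,(-8),7,(-2)],
  [2,0,(-1),0,1,(-1),1,(-1),0,0,0,1,2,2,0,0,(-1),2,(-3),(-6),(-1),2,(-4),5],
  [0,1,0,(-1),0,1,(-1),1,(-1),0,0,0,(-1),(-1),0,0,1,(-1),2,5,1,(-1),(-1),0],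
  [0,0,1,0,(-1),0,1,(-1),1,(-1),0,0,(-1),(-1),1,0,0,0,(-1),(-5),(-2),7,(-5),2],
  [2,(-1),0,1,0,(-1),0,1,(-1),1,(-1),0,(-2),(-1),1,1,0,0,1,3,(-1),7,(-5),0],
  [2,0,(-1),0,1,0,(-1),0,1,(-1),1,(-1),(-2),(-2),0,1,0,0,(-1),(-2),(-2),8,(-4),(-1)],
  [0,1,0,(-1),0,1,0,(-1),0,1,(-1),1,2,1,(-1),0,1,1,(-1),1,0,1,(-2),2],
  [2,(-1),1,0,(-1),0,1,0,(-1),0,1,(-1),(-2),(-1),0,(-1),1,(-1),2,4,1,(-3),4,(-4)],
  [0,1,(-1),1,0,(-1),0,1,0,(-1),0,1,1,1,1,0,(-1),1,0,2,2,(-8),5,1],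
  [2,(-1),1,(-1),1,0,(-1),0,1,0,(-1),0,(-1),(-2),0,1,(-1),(-2),0,(-4),2,(-13),10,(-3)],
  [2,0,(-1),1,(-1),1,0,(-1),0,1,0,(-1),(-2),(-1),(-1),0,1,(-1),1,1,(-1),5,(-2),(-2)],
  [2,0,0,(-1),1,(-1),1,0,(-1),0,1,0,0,1,1,(-1),0,1,1,5,1,(-1),0,1],
  [2,0,0,0,(-1),1,(-1),1,0,(-1),0,1,1,0,0,1,0,1,(-3),(-7),(-2),7,(-8),7]]

def CfT : List (List ℤ) := [
  [4,(-2),0,0,0,0,0,0,0,0,0,0,(-1),0,0,0,0,0,0,0,0,0,0,0],
  [0,2,(-2),0,0,0,0,0,0,0,0,0,(-1),(-1),0,0,0,0,0,0,0,0,0,0],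
  [0,0,2,(-2),0,0,0,0,0,0,0,0,(-1),(-1),1,0,0,0,0,0,0,0,0,0],
  [0,0,0,2,(-2),0,0,0,0,0,0,0,(-1),(-1),1,1,0,0,0,0,0,0,0,0],
  [0,0,0,0,2,(-2),0,0,0,0,0,0,(-1),(-1),1,1,(-1),0,0,0,0,0,0,0],
  [0,0,0,0,0,2,(-2),0,0,0,0,0,0,(-1),(-1),1,1,(-1),0,0,0,0,0,0],
  [0,0,0,0,0,0,2,(-2),0,0,0,0,0,0,(-1),(-1),1,(-1),1,0,0,0,0,0],
  [0,0,0,0,0,0,0,2,(-2),0,0,0,(-1),0,0,(-1),1,(-1),3,7,1,0,0,0],
  [0,0,0,0,0,0,0,0,2,(-2),0,0,0,(-1),0,0,(-1),(-1),(-1),(-7),0,(-5),5,0],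
  [0,0,0,0,0,0,0,0,0,2,(-2),0,0,0,(-1),0,0,(-1),1,1,0,0,0,0],
  [0,0,0,0,0,0,0,0,0,0,2,(-2),(-1),0,0,(-1),0,0,1,3,0,0,5,(-5)],
  [0,0,0,0,0,0,0,0,0,0,0,2,6,5,0,0,(-1),4,(-4),(-3),0,0,(-5),10],
  [0,0,0,0,0,0,0,0,0,0,0,0,1,0,(-1),0,0,(-1),0,(-2),1,(-6),3,1],
  [0,0,0,0,0,0,0,0,0,0,0,0,0,1,0,(-1),0,0,1,2,0,1,0,0],
  [0,0,0,0,0,0,0,0,0,0,0,0,0,0,1,0,(-1),0,0,(-1),1,(-6),5,(-1)],
  [0,0,0,0,0,0,0,0,0,0,0,0,0,0,0,1,0,1,(-2),(-4),(-3),13,(-11),5],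
  [0,0,0,0,0,0,0,0,0,0,0,0,0,0,0,0,1,0,1,4,0,3,(-3),1],
  [0,0,0,0,0,0,0,0,0,0,0,0,0,0,0,0,0,1,(-2),(-5),(-3),12,(-9),4],
  [0,0,0,0,0,0,0,0,0,0,0,0,0,0,0,0,0,0,1,4,1,(-3),3,(-2)],
  [0,0,0,0,0,0,0,0,0,0,0,0,0,0,0,0,0,0,0,1,1,(-5),5,(-2)],
  [0,0,0,0,0,0,0,0,0,0,0,0,0,0,0,0,0,0,0,0,1,(-5),4,(-1)],
  [0,0,0,0,0,0,0,0,0,0,0,0,0,0,0,0,0,0,0,0,0,1,(-3),3],
  [0,0,0,0,0,0,0,0,0,0,0,0,0,0,0,0,0,0,0,0,0,0,1,0],
  [0,0,0,0,0,0,0,0,0,0,0,0,0,0,0,0,0,0,0,0,0,0,0,1]]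

def CuT : List ℤ := [2,0,0,0,0,0,0,0,0,0,0,0,0,0,0,0,0,0,0,0,0,0,0,1]

def CoT : List ℤ := [1,0,0,0,0,0,0,0,0,0,0,0,0,0,0,0,0,0,0,0,0,0,0,0]

/-- The `k`-th basis vector. -/
def b (k : ℕ) : GolayPt → ℤ := fun p => tab bT k (idx p)

theorem b_table : ∀ k ∈ List.range 24,
    (∀ i, b k i ≡ (if k = 0 then 1 else 0) [ZMOD 2]) ∧
    (∑ i, b k i ≡ 4 * (if k = 0 then 1 else 0) [ZMOD 8]) ∧
    digitWord (b k) = wordOf (dT.getD k 0) ∧ isCode (dT.getD k 0) = true ∧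
      dT.getD k 0 < 2 ^ 24 := by
  decide +kernel

theorem b_mem (k : ℕ) : b k ∈ leechLattice := by
  by_cases hk : k < 24
  · obtain ⟨h1, h2, h3, h4, h5⟩ := b_table k (List.mem_range.mpr hk)
    rw [mem_leechLattice_iff, mem_leechSet_iff]
    refine ⟨_, h1, h2, ?_⟩
    rw [h3, wordOf_mem_iff h5]
    exact h4
  · have h0 : b k = 0 := by
      funext p
      have : bT.getD k [] = [] := by
        apply List.getD_eq_default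
        have : bT.length = 24 := rfl
        omega
      show tab bT k (idx p) = 0
      unfold tab
      rw [this]
      simp
    rw [h0]
    exact leechLattice.zero_mem

/-- The basis vectors, in the lattice. -/
def bL (k : ℕ) : leechLattice := ⟨b k, b_mem k⟩

/-- Integer combinations of the basis vectors. -/
def comb (a : ℕ → ℤ) : leechLattice := ((List.range 24).map fun m => a m • bL m).sum

theorem listSum_val {ι : Type*} (L : List ι) (f : ι → leechLattice) (p : GolayPt) :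
    ((L.map f).sum : leechLattice).1 p = (L.map fun m => (f m).1 p).sum := by
  induction L with
  | nil => simp
  | cons a L ih =>
    simp only [List.map_cons, List.sum_cons]
    show (f a).1 p + ((L.map f).sum : leechLattice).1 p = _
    rw [ih]

theorem comb_apply (a : ℕ → ℤ) (p : GolayPt) :
    (comb a).1 p = ((List.range 24).map fun m => a m * b m p).sum := by
  unfold comb
  rw [listSum_val]
  rfl

theorem comb_add (a a' : ℕ → ℤ) : comb (a + a') = comb a + comb a' := by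
  unfold comb
  rw [← List.sum_map_add]
  congr 1
  apply List.map_congr_left
  intro m _
  simp [add_smul]

theorem comb_zero : comb 0 = 0 := by
  unfold comb
  simp

theorem comb_neg (a : ℕ → ℤ) : comb (-a) = -comb a := by
  rw [eq_neg_iff_add_eq_zero, ← comb_add]
  simp [comb_zero]

/-- The subgroup of integer combinations. -/
def combs : AddSubgroup leechLattice where
  carrier := Set.range comb
  zero_mem' := ⟨0, comb_zero⟩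
  add_mem' := by
    rintro _ _ ⟨a, rfl⟩ ⟨a', rfl⟩
    exact ⟨a + a', comb_add a a'⟩
  neg_mem' := by
    rintro _ ⟨a, rfl⟩
    exact ⟨-a, comb_neg a⟩

theorem mem_combs_of {v : leechLattice} (a : List ℤ)
    (h : ∀ p, v.1 p = ((List.range 24).map fun m => a.getD m 0 * b m p).sum) : v ∈ combs := by
  refine ⟨fun m => a.getD m 0, ?_⟩
  apply Subtype.ext
  funext p
  rw [comb_apply, h]

theorem Co_table : ∀ p, oddVec p = ((List.range 24).map fun m => CoT.getD m 0 * b m p).sum := by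
  decide +kernel

theorem Cf_table : ∀ i p, fourVec i p =
    ((List.range 24).map fun m => (CfT.getD (idx i) []).getD m 0 * b m p).sum := by
  decide +kernel

theorem Cu_table : ∀ p, (2 : ℤ) = ((List.range 24).map fun m => CuT.getD m 0 * b m p).sum := by
  decide +kernel

theorem Cq_table : ∀ (t : ZMod 23) (p : GolayPt),
    (if qrWord t p = 1 then (2 : ℤ) else 0) =
      ((List.range 24).map fun m => (CqT.getD (ZMod.val t) []).getD m 0 * b m p).sum := by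
  decide +kernel

theorem evenWith_of (z : leechLattice) (d : GolayPt → ZMod 2)
    (h : ∀ p, z.1 p = if d p = 1 then (2 : ℤ) else 0) : EvenWith z d := by
  constructor
  · intro i
    rw [h]
    unfold Int.ModEq
    split_ifs <;> norm_num
  · funext p
    simp only [digitWord, bit1, h]
    by_cases hp : d p = 1
    · rw [if_pos hp, hp]
      rfl
    · rw [if_neg hp]
      have : d p = 0 := by
        revert hp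
        generalize d p = a
        revert a
        decide
      rw [this]
      rfl

/-- Every lattice vector is an integer combination of the basis. -/
theorem exists_comb (x : leechLattice) : ∃ a, x = comb a := by
  have h := mem_of_gens combs (mem_combs_of CoT Co_table)
    (fun i => mem_combs_of _ (Cf_table i)) ?_ ?_ x
  · obtain ⟨a, ha⟩ := h
    exact ⟨a, ha.symm⟩
  · intro t
    refine ⟨comb fun m => (CqT.getD (ZMod.val t) []).getD m 0, ⟨_, rfl⟩, ?_⟩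
    apply evenWith_of
    intro p
    rw [comb_apply]
    exact (Cq_table t p).symm
  · refine ⟨comb fun m => CuT.getD m 0, ⟨_, rfl⟩, ?_⟩
    apply evenWith_of
    intro p
    rw [comb_apply]
    exact (Cu_table p).symm

end Cfsg.Agent.Lib.Leech.ZBasis
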